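import Cfsg.Agent.Lib.Blocks.OlssonFive.OddAction

/-!
# A point with small stabilizer
-/

namespace CfsgLib.Blocks.OlssonFive.Odd

set_option linter.unusedVariables false
set_option linter.style.haveILetI false
set_option linter.unusedSectionVars false

universe u

variable {V : Type u} [CommGroup V] [Finite V]

theorem not_thirty_one (hexp : ∀ x : V, x * x = 1) (h32 : Nat.card V ≤ 32)
    {A : Subgroup (MulAut V)} (hA : Nat.card A ∣ 9765) (h31 : ¬ 31 ∣ Nat.card A) :
    Nat.card A ∣ 315 := by
  rw [show 9765 = 31 * 315 by norm_num] at hA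
  exact (((by decide +kernel : Nat.Prime 31).coprime_iff_not_dvd.2 h31).symm).dvd_of_dvd_mul_left hA

/-- Without an element of order 31, a point has stabilizer of order one or three. -/
theorem exists_small (hexp : ∀ x : V, x * x = 1) (h32 : Nat.card V ≤ 32) (hV : Nontrivial V)
    {A : Subgroup (MulAut V)} (hA : Nat.card A ∣ 315) :
    ∃ u : V, u ≠ 1 ∧ Nat.card (stabV A u) ≤ 3 := by
  classical
  haveI := finite_aut (V := V)
  haveI : Fact (Nat.Prime 5) := ⟨by decide +kernel⟩
  haveI : Fact (Nat.Prime 7) := ⟨by decide +kernel⟩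
  haveI : Fact (Nat.Prime 3) := ⟨Nat.prime_three⟩
  haveI : Fintype V := Fintype.ofFinite V
  by_contra hall
  push Not at hall
  obtain ⟨P5⟩ : Nonempty (Sylow 5 A) := inferInstance
  obtain ⟨P7⟩ : Nonempty (Sylow 7 A) := inferInstance
  haveI : Fintype {B : Subgroup A // Nat.card B = 9} := Fintype.ofFinite _
  let F5 : Finset V := Finset.univ.filter fun y =>
    5 ∣ Nat.card A ∧ y ∈ fixV ((P5 : Subgroup A).map A.subtype) ∧ y ≠ 1
  let F7 : Finset V := Finset.univ.filter fun y =>
    7 ∣ Nat.card A ∧ y ∈ fixV ((P7 : Subgroup A).map A.subtype) ∧ y ≠ 1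
  let F9 : {B : Subgroup A // Nat.card B = 9} → Finset V := fun B => Finset.univ.filter fun y =>
    y ∈ fixV (B.1.map A.subtype) ∧ y ≠ 1
  have hcover : ∀ y : V, y ≠ 1 → y ∈ F5 ∪ F7 ∪ Finset.univ.biUnion F9 := by
    intro y hy
    have h1 := hall y hy
    set T := stabV A y with hT
    have hTA : Nat.card T ∣ Nat.card A := Subgroup.card_dvd_of_le (stabV_le A y)
    by_cases h5 : 5 ∣ Nat.card T
    · obtain ⟨t, ht⟩ := exists_prime_orderOf_dvd_card' (G := T) 5 h5
      have hordA : orderOf (⟨t.1, t.2.1⟩ : A) = 5 := by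
        rw [← Subgroup.orderOf_coe]; simpa using ht
      haveI := normal_five hA (h5.trans hTA) P5
      have hP : Nat.card P5 = 5 := card_sylow_prime P5 (h5.trans hTA) fun h25 => by
        have := h25.trans hA
        norm_num at this
      obtain ⟨Q, hQ⟩ := (IsPGroup.of_card (n := 1) (show Nat.card (Subgroup.zpowers (⟨t.1, t.2.1⟩ : A)) = 5 ^ 1 by
        rw [Nat.card_zpowers, hordA, pow_one])).exists_le_sylow
      haveI := Sylow.unique_of_normal P5 inferInstance
      rw [Subsingleton.elim Q P5] at hQ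
      have heq : Subgroup.zpowers (⟨t.1, t.2.1⟩ : A) = (P5 : Subgroup A) :=
        Subgroup.eq_of_le_of_card_ge hQ (by rw [Nat.card_zpowers, hordA, hP])
      refine Finset.mem_union_left _ (Finset.mem_union_left _ (Finset.mem_filter.2
        ⟨Finset.mem_univ _, h5.trans hTA, ?_, hy⟩))
      rintro _ ⟨a, ha, rfl⟩
      rw [← heq] at ha
      obtain ⟨k, rfl⟩ := ha
      have h2 : ((t : MulAut V) ^ k) ∈ T := T.zpow_mem t.2 k
      simpa using h2.2
    by_cases h7 : 7 ∣ Nat.card T
    · obtain ⟨t, ht⟩ := exists_prime_orderOf_dvd_card' (G := T) 7 h7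
      have hordA : orderOf (⟨t.1, t.2.1⟩ : A) = 7 := by
        rw [← Subgroup.orderOf_coe]; simpa using ht
      haveI := normal_seven hA (h7.trans hTA) P7
      have hP : Nat.card P7 = 7 := card_sylow_prime P7 (h7.trans hTA) fun h49 => by
        have := h49.trans hA
        norm_num at this
      obtain ⟨Q, hQ⟩ := (IsPGroup.of_card (n := 1) (show Nat.card (Subgroup.zpowers (⟨t.1, t.2.1⟩ : A)) = 7 ^ 1 by
        rw [Nat.card_zpowers, hordA, pow_one])).exists_le_sylow
      haveI := Sylow.unique_of_normal P7 inferInstance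
      rw [Subsingleton.elim Q P7] at hQ
      have heq : Subgroup.zpowers (⟨t.1, t.2.1⟩ : A) = (P7 : Subgroup A) :=
        Subgroup.eq_of_le_of_card_ge hQ (by rw [Nat.card_zpowers, hordA, hP])
      refine Finset.mem_union_left _ (Finset.mem_union_right _ (Finset.mem_filter.2
        ⟨Finset.mem_univ _, h7.trans hTA, ?_, hy⟩))
      rintro _ ⟨a, ha, rfl⟩
      rw [← heq] at ha
      obtain ⟨k, rfl⟩ := ha
      have h2 : ((t : MulAut V) ^ k) ∈ T := T.zpow_mem t.2 k
      simpa using h2.2
    refine Finset.mem_union_right _ ?_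
    have h315 : Nat.card T ∣ 9 * 5 * 7 := hTA.trans hA
    have h9 : Nat.card T ∣ 9 :=
      ((((by decide +kernel : Nat.Prime 5).coprime_iff_not_dvd.2 h5).symm).dvd_of_dvd_mul_right
        ((((by decide +kernel : Nat.Prime 7).coprime_iff_not_dvd.2 h7).symm).dvd_of_dvd_mul_right h315))
    have hc : Nat.card T = 9 := by
      have hle := Nat.le_of_dvd (by norm_num) h9
      generalize Nat.card T = n at *
      interval_cases n <;> simp_all
    refine Finset.mem_biUnion.2 ⟨⟨T.subgroupOf A, ?_⟩, Finset.mem_univ _,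
      Finset.mem_filter.2 ⟨Finset.mem_univ _, ?_, hy⟩⟩
    · rw [Nat.card_congr (Subgroup.subgroupOfEquivOfLe (stabV_le A y)).toEquiv]; exact hc
    · rintro _ ⟨a, ha, rfl⟩
      exact (Subgroup.mem_subgroupOf.1 ha).2
  have hmapne : ∀ (B : Subgroup A), 1 < Nat.card B → B.map A.subtype ≠ ⊥ := fun B hB h => by
    rw [← Subgroup.card_map_of_injective A.subtype_injective, h, Subgroup.card_bot] at hB
    omega
  have hcardF : ∀ (W : Subgroup V) (k : ℕ), Nat.card W ≤ k + 1 →
      (Finset.univ.filter fun y => y ∈ W ∧ y ≠ 1).card ≤ k := by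
    intro W k hk
    have h1 : (Finset.univ.filter fun y => y ∈ W ∧ y ≠ 1) =
        (Finset.univ.filter fun y => y ∈ W).erase 1 := by
      ext y; simp [and_comm]
    rw [h1, Finset.card_erase_of_mem (by simp [W.one_mem])]
    have : Nat.card W = (Finset.univ.filter fun y => y ∈ W).card := by
      rw [Nat.card_eq_fintype_card, Fintype.card_subtype]
    omega
  have hF5 : F5.card * 16 + 16 ≤ Nat.card V ∨ F5.card = 0 := by
    by_cases h5 : 5 ∣ Nat.card A
    · left
      have hP : Nat.card P5 = 5 := card_sylow_prime P5 h5 fun h25 => by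
        have := h25.trans hA
        norm_num at this
      have h1 := (fix_prime hexp h32 (hmapne _ (by rw [hP]; norm_num)) (p := 5) (P5.2.map _)).1 rfl
      have h2 := hcardF (fixV ((P5 : Subgroup A).map A.subtype))
        (Nat.card (fixV ((P5 : Subgroup A).map A.subtype)) - 1) (by omega)
      have h3 : F5 = Finset.univ.filter fun y => y ∈ fixV ((P5 : Subgroup A).map A.subtype) ∧ y ≠ 1 := by
        exact Finset.filter_congr fun y _ => ⟨fun h => h.2, fun h => ⟨h5, h⟩⟩
      have h4 : 0 < Nat.card (fixV ((P5 : Subgroup A).map A.subtype)) := Nat.card_pos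
      rw [h3]
      omega
    · right
      exact Finset.card_eq_zero.2 (Finset.filter_eq_empty_iff.2 fun y _ h => h5 h.1)
  have hF7 : F7.card * 8 + 8 ≤ Nat.card V ∨ F7.card = 0 := by
    by_cases h7 : 7 ∣ Nat.card A
    · left
      have hP : Nat.card P7 = 7 := card_sylow_prime P7 h7 fun h49 => by
        have := h49.trans hA
        norm_num at this
      have h1 := (fix_prime hexp h32 (hmapne _ (by rw [hP]; norm_num)) (p := 7) (P7.2.map _)).2.1 rfl
      have h2 := hcardF (fixV ((P7 : Subgroup A).map A.subtype))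
        (Nat.card (fixV ((P7 : Subgroup A).map A.subtype)) - 1) (by omega)
      have h3 : F7 = Finset.univ.filter fun y => y ∈ fixV ((P7 : Subgroup A).map A.subtype) ∧ y ≠ 1 := by
        exact Finset.filter_congr fun y _ => ⟨fun h => h.2, fun h => ⟨h7, h⟩⟩
      have h4 : 0 < Nat.card (fixV ((P7 : Subgroup A).map A.subtype)) := Nat.card_pos
      rw [h3]
      omega
    · right
      exact Finset.card_eq_zero.2 (Finset.filter_eq_empty_iff.2 fun y _ h => h7 h.1)
  have hF9 : ∀ B, (F9 B).card * 16 + 16 ≤ Nat.card V := by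
    intro B
    have h1 := fix_nine hexp h32 (B := B.1.map A.subtype)
      (by rw [Subgroup.card_map_of_injective A.subtype_injective, B.2])
    have h2 := hcardF (fixV (B.1.map A.subtype)) (Nat.card (fixV (B.1.map A.subtype)) - 1) (by omega)
    have h4 : 0 < Nat.card (fixV (B.1.map A.subtype)) := Nat.card_pos
    show (Finset.univ.filter fun y => y ∈ fixV (B.1.map A.subtype) ∧ y ≠ 1).card * 16 + 16 ≤ _
    omega
  have h9 : (Finset.univ.biUnion F9).card ≤ 7 * (Nat.card V / 16 - 1) := by
    refine Finset.card_biUnion_le.trans ((Finset.sum_le_card_nsmul _ _ (Nat.card V / 16 - 1)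
      fun B _ => by have := hF9 B; omega).trans ?_)
    rw [smul_eq_mul, Finset.card_univ, ← Nat.card_eq_fintype_card]
    exact Nat.mul_le_mul_right _ (card_nine_le_seven hA)
  have hsub : (Finset.univ.erase (1 : V)).card ≤ (F5 ∪ F7 ∪ Finset.univ.biUnion F9).card :=
    Finset.card_le_card fun y hy => hcover y (Finset.ne_of_mem_erase hy)
  rw [Finset.card_erase_of_mem (Finset.mem_univ _), Finset.card_univ, ← Nat.card_eq_fintype_card] at hsub
  have h57 := (Finset.card_union_le (F5 ∪ F7) (Finset.univ.biUnion F9)).trans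
    (Nat.add_le_add_right (Finset.card_union_le F5 F7) _)
  have h1V : 1 < Nat.card V := Finite.one_lt_card
  omega

theorem pow_apply_eq (g : MulAut V) (y : V) (n : ℕ) :
    (g ^ n) y = (fun w => g w)^[n] y := by
  induction n with
  | zero => rfl
  | succ n ih => rw [pow_succ', MulAut.mul_apply, ih, Function.iterate_succ_apply']

/-- The stabilizer of a point when there is an element of order 31. -/
theorem stab_of_thirty_one (hexp : ∀ x : V, x * x = 1) (h32 : Nat.card V ≤ 32)
    {A : Subgroup (MulAut V)} (hA : Nat.card A ∣ 9765) (h31 : 31 ∣ Nat.card A) :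
    Nat.card V = 32 ∧ ∀ u : V, u ≠ 1 → Nat.card (stabV A u) ∣ 5 ∧
      ∀ α ∈ stabV A u, α ≠ 1 → ∀ y : V, α y = y → y = 1 ∨ y = u := by
  classical
  haveI := finite_aut (V := V)
  haveI : Fact (Nat.Prime 31) := ⟨by decide +kernel⟩
  haveI : Fact (Nat.Prime 5) := ⟨by decide +kernel⟩
  haveI : Fact (Nat.Prime 7) := ⟨by decide +kernel⟩
  haveI : Fact (Nat.Prime 3) := ⟨Nat.prime_three⟩
  obtain ⟨g, hg⟩ := exists_prime_orderOf_dvd_card' (G := A) 31 h31
  set Z := (Subgroup.zpowers g).map A.subtype with hZ
  have hcZ : Nat.card Z = 31 := by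
    rw [hZ, Subgroup.card_map_of_injective A.subtype_injective, Nat.card_zpowers, hg]
  have hZne : Z ≠ ⊥ := fun h => by rw [h, Subgroup.card_bot] at hcZ; omega
  obtain ⟨hfix1, hV32⟩ := (fix_prime hexp h32 hZne (p := 31)
    (IsPGroup.of_card (n := 1) (by rw [hcZ]; norm_num))).2.2.1 rfl
  refine ⟨hV32, fun u hu => ?_⟩
  have hgA : (g : MulAut V) ∈ A := g.2
  have hgord : orderOf (g : MulAut V) = 31 := by rw [Subgroup.orderOf_coe, hg]
  have hfree : ∀ y : V, y ≠ 1 → (g : MulAut V) y ≠ y := by
    intro y hy hgy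
    refine hy ?_
    have hmem : y ∈ fixV Z := by
      rintro _ ⟨_, ⟨k, rfl⟩, rfl⟩
      have : (g : MulAut V) ∈ MulAction.stabilizer (MulAut V) y := hgy
      exact (MulAction.stabilizer (MulAut V) y).zpow_mem this k
    exact (Subgroup.eq_bot_iff_forall _).1 (Subgroup.card_eq_one.1 hfix1) y hmem
  -- the orbit of every point is everything
  have horbit : ∀ y z : V, y ≠ 1 → z ≠ 1 → ∃ k : ℕ, ((g : MulAut V) ^ k) y = z := by
    intro y z hy hz
    haveI : Fintype V := Fintype.ofFinite V
    let f : Fin 31 → {w : V // w ≠ 1} := fun i => ⟨((g : MulAut V) ^ (i : ℕ)) y,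
      by simpa [EmbeddingLike.map_eq_one_iff] using hy⟩
    have hper : Function.minimalPeriod (fun w => (g : MulAut V) w) y = 31 := by
      refine (Nat.Prime.eq_one_or_self_of_dvd (Fact.out : Nat.Prime 31) _ ?_).resolve_left ?_
      · refine Function.IsPeriodicPt.minimalPeriod_dvd ?_
        show (fun w => (g : MulAut V) w)^[31] y = y
        rw [← pow_apply_eq, ← hgord, pow_orderOf_eq_one]
        rfl
      · intro h1
        exact hfree y hy (Function.minimalPeriod_eq_one_iff_isFixedPt.1 h1)
    have hinj : Function.Injective f := by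
      intro i j hij
      have h1 : (fun w => (g : MulAut V) w)^[(i : ℕ)] y = (fun w => (g : MulAut V) w)^[(j : ℕ)] y := by
        have := congrArg Subtype.val hij
        simp only [f, pow_apply_eq] at this
        exact this
      exact Fin.ext (Function.iterate_injOn_Iio_minimalPeriod (by rw [Set.mem_Iio, hper]; exact i.2)
        (by rw [Set.mem_Iio, hper]; exact j.2) h1)
    have hbij : Function.Bijective f := (Fintype.bijective_iff_injective_and_card f).2 ⟨hinj, by
      rw [Fintype.card_fin, Fintype.card_subtype_compl, Fintype.card_subtype_eq,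
        ← Nat.card_eq_fintype_card, hV32]⟩
    obtain ⟨i, hi⟩ := hbij.2 ⟨z, hz⟩
    exact ⟨i, congrArg Subtype.val hi⟩
  -- the stabilizer contains nothing centralising `g`
  have hcent : ∀ s ∈ stabV A u, s * (g : MulAut V) = g * s → s = 1 := by
    intro s hs hsg
    refine MulEquiv.ext fun z => ?_
    by_cases hz : z = 1
    · rw [hz, map_one, map_one]
    · obtain ⟨k, rfl⟩ := horbit u z hu hz
      have hc : s * (g : MulAut V) ^ k = (g : MulAut V) ^ k * s :=
        (show Commute s (g : MulAut V) from hsg).pow_right k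
      rw [← MulAut.mul_apply, hc, MulAut.mul_apply, hs.2, MulAut.one_apply]
  have horbA : Nat.card A = 31 * Nat.card (stabV A u) := by
    have h1 := Subgroup.card_mul_index ((stabV A u).subgroupOf A)
    rw [Nat.card_congr (Subgroup.subgroupOfEquivOfLe (stabV_le A u)).toEquiv] at h1
    rw [← h1, mul_comm]
    congr 1
    rw [Subgroup.index_eq_card]
    let f : A ⧸ (stabV A u).subgroupOf A → {w : V // w ≠ 1} :=
      Quotient.lift (fun a : A => (⟨(a : MulAut V) u, by simpa [EmbeddingLike.map_eq_one_iff] using hu⟩ :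
          {w : V // w ≠ 1})) fun a b hab => Subtype.ext (by
        have h2 := (Subgroup.mem_subgroupOf.1 (QuotientGroup.leftRel_apply.1 hab)).2
        have h3 := congrArg (fun w => (a : MulAut V) w) h2
        simp only [Subgroup.coe_mul, Subgroup.coe_inv, MulAut.mul_apply, MulAut.apply_inv_self] at h3
        exact h3.symm)
    have hb : Function.Bijective f := by
      constructor
      · intro a b hab
        induction a using QuotientGroup.induction_on with
        | H a =>
          induction b using QuotientGroup.induction_on with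
          | H b =>
            refine QuotientGroup.eq.2 (Subgroup.mem_subgroupOf.2 ⟨(A.mul_mem (A.inv_mem a.2) b.2), ?_⟩)
            have h2 : (a : MulAut V) u = (b : MulAut V) u := congrArg Subtype.val hab
            simp only [Subgroup.coe_mul, Subgroup.coe_inv, MulAut.mul_apply, ← h2, MulAut.inv_apply_self]
      · rintro ⟨w, hw⟩
        obtain ⟨k, hk⟩ := horbit u w hu hw
        exact ⟨QuotientGroup.mk ⟨(g : MulAut V) ^ k, A.pow_mem g.2 k⟩, Subtype.ext hk⟩
    haveI : Fintype V := Fintype.ofFinite V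
    rw [Nat.card_congr (Equiv.ofBijective f hb), Nat.card_eq_fintype_card, Fintype.card_subtype_compl,
      Fintype.card_subtype_eq, ← Nat.card_eq_fintype_card, hV32]
  have hS315 : Nat.card (stabV A u) ∣ 315 := by
    rw [horbA, show 9765 = 31 * 315 by norm_num] at hA
    exact Nat.dvd_of_mul_dvd_mul_left (by norm_num) hA
  -- the stabilizer cannot have order divisible by sixty three
  have h63 : ¬ 63 ∣ Nat.card (stabV A u) := by
    intro h63
    set T := stabV A u with hT
    have h7 : 7 ∣ Nat.card T := dvd_trans (by norm_num) h63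
    have h9 : 9 ∣ Nat.card T := dvd_trans (by norm_num) h63
    obtain ⟨P7⟩ : Nonempty (Sylow 7 T) := inferInstance
    haveI := normal_seven hS315 h7 P7
    have hP : Nat.card P7 = 7 := card_sylow_prime P7 h7 fun h49 => by
      have := h49.trans hS315
      norm_num at this
    obtain ⟨R, hR⟩ := Sylow.exists_subgroup_card_pow_prime (G := T) 3 (n := 2) (by simpa using h9)
    set W := fixV ((P7 : Subgroup T).map T.subtype) with hW
    have hmapne : (P7 : Subgroup T).map T.subtype ≠ ⊥ := fun h => by
      rw [← Subgroup.card_map_of_injective T.subtype_injective, h, Subgroup.card_bot] at hP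
      omega
    have hcW : Nat.card W = 4 := by
      have := (fix_prime hexp h32 hmapne (p := 7) (P7.2.map _)).2.1 rfl
      rw [← hW] at this
      omega
    have huW : u ∈ W := by
      rintro _ ⟨a, -, rfl⟩
      exact a.2.2
    have hinv : ∀ r : T, ∀ w ∈ W, (r : MulAut V) w ∈ W := by
      rintro r w hw _ ⟨a, ha, rfl⟩
      have h1 : r⁻¹ * a * r ∈ (P7 : Subgroup T) := by
        simpa using (inferInstance : (P7 : Subgroup T).Normal).conj_mem a ha r⁻¹
      have h2 := hw _ ⟨_, h1, rfl⟩
      have h3 := congrArg (fun z => (r : MulAut V) z) h2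
      simp only [Subgroup.coe_subtype, Subgroup.coe_mul, Subgroup.coe_inv, MulAut.mul_apply,
        MulAut.apply_inv_self] at h3
      exact h3
    have hWfix : W ≤ fixV (R.map T.subtype) := by
      intro w hw
      rintro _ ⟨r, hr, rfl⟩
      show (r : MulAut V) w = w
      by_contra hne
      have hw1 : w ≠ 1 := fun h => hne (by rw [h, map_one])
      have hwu : w ≠ u := fun h => hne (by rw [h]; exact r.2.2)
      have hWu : ∀ x ∈ W, x = 1 ∨ x = u ∨ x = w ∨ x = u * w := by
        intro x hx
        by_contra hx4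
        push Not at hx4
        haveI : Fintype W := Fintype.ofFinite W
        have h5 : ({⟨1, W.one_mem⟩, ⟨u, huW⟩, ⟨w, hw⟩, ⟨u * w, W.mul_mem huW hw⟩, ⟨x, hx⟩} :
            Finset W).card = 5 := by
          have e1 : u * w ≠ 1 := fun h => hwu (by
            rw [eq_inv_of_mul_eq_one_right h, inv_eq_of_mul_eq_one_right (hexp u)])
          simp [Finset.card_insert_of_notMem, Subtype.mk.injEq, Ne.symm hu, Ne.symm hw1, Ne.symm e1,
            Ne.symm hwu, hw1, hu, hx4.1.symm, hx4.2.1.symm, hx4.2.2.1.symm, hx4.2.2.2.symm]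
        have h6 := Finset.card_le_univ ({⟨1, W.one_mem⟩, ⟨u, huW⟩, ⟨w, hw⟩,
          ⟨u * w, W.mul_mem huW hw⟩, ⟨x, hx⟩} : Finset W)
        rw [h5, ← Nat.card_eq_fintype_card, hcW] at h6
        omega
      have h1 : (r : MulAut V) w = u * w := by
        rcases hWu _ (hinv r w hw) with h | h | h | h
        · exact absurd (by simpa [EmbeddingLike.map_eq_one_iff] using h) hw1
        · exact absurd ((r : MulAut V).injective (h.trans r.2.2.symm)) hwu
        · exact absurd h hne
        · exact h
      have h2 : ((r : MulAut V) ^ 2) w = w := by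
        rw [pow_two, MulAut.mul_apply, h1, map_mul, r.2.2, h1, ← mul_assoc, hexp, one_mul]
      have h3 : (r : MulAut V) ^ 9 = 1 := by
        have h4 : (⟨r, hr⟩ : R) ^ 9 = 1 := by
          rw [show 9 = Nat.card R by rw [hR]; norm_num]; exact pow_card_eq_one'
        exact congrArg (fun z : R => ((z : T) : MulAut V)) h4
      have h5 : ((r : MulAut V) ^ 9) w = u * w := by
        rw [show (9 : ℕ) = 1 + 2 + 2 + 2 + 2 by norm_num, pow_add, pow_add, pow_add, pow_add,
          pow_one, MulAut.mul_apply, MulAut.mul_apply, MulAut.mul_apply, MulAut.mul_apply, h2, h2,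
          h2, h2, h1]
      rw [h3, MulAut.one_apply] at h5
      exact hu (mul_eq_right.1 h5.symm)
    have hcR := fix_nine hexp h32 (B := R.map T.subtype)
      (by rw [Subgroup.card_map_of_injective T.subtype_injective, hR]; norm_num)
    have := Subgroup.card_le_of_le hWfix
    omega
  -- the subgroup of order 31 is normal
  obtain ⟨S31⟩ : Nonempty (Sylow 31 A) := inferInstance
  have hS31 : Nat.card S31 = 31 := card_sylow_prime S31 h31 fun h2 => by
    have := h2.trans hA
    norm_num at this
  have hnS : (S31 : Subgroup A).Normal := by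
    rw [← Subgroup.normalizer_eq_top_iff, ← Subgroup.index_eq_one]
    by_contra hne
    have hmod : Nat.card (Sylow 31 A) % 31 = 1 := card_sylow_modEq_one (p := 31) (G := A)
    rw [Sylow.card_eq_index_normalizer S31] at hmod
    have hd : (Subgroup.normalizer ((S31 : Subgroup A) : Set A)).index ∣ 315 := by
      refine (Subgroup.index_dvd_of_le (Subgroup.le_normalizer (H := (S31 : Subgroup A)))).trans ?_
      have h1 : Nat.card S31 * (S31 : Subgroup A).index ∣ 31 * 315 := by
        rw [Subgroup.card_mul_index, horbA]; exact Nat.mul_dvd_mul_left 31 hS315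
      rw [hS31] at h1
      exact Nat.dvd_of_mul_dvd_mul_left (by norm_num) h1
    refine h63 ?_
    have h63' : (Subgroup.normalizer ((S31 : Subgroup A) : Set A)).index = 63 := by
      have hle := Nat.le_of_dvd (by norm_num) hd
      generalize (Subgroup.normalizer ((S31 : Subgroup A) : Set A)).index = n at *
      interval_cases n <;> first | rfl | omega | norm_num at hd
    have h2 := h63' ▸ Subgroup.index_dvd_card (Subgroup.normalizer ((S31 : Subgroup A) : Set A))
    rw [horbA] at h2
    exact (show (63 : ℕ).Coprime 31 by decide).dvd_of_dvd_mul_left h2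
  have hgS : g ∈ (S31 : Subgroup A) := by
    obtain ⟨Q, hQ⟩ := (IsPGroup.of_card (n := 1) (show Nat.card (Subgroup.zpowers g) = 31 ^ 1 by
      rw [Nat.card_zpowers, hg, pow_one])).exists_le_sylow
    haveI := Sylow.unique_of_normal S31 hnS
    rw [← Subsingleton.elim Q S31]
    exact hQ (Subgroup.mem_zpowers g)
  have hSg : Subgroup.zpowers g = (S31 : Subgroup A) :=
    Subgroup.eq_of_le_of_card_ge (Subgroup.zpowers_le.2 hgS) (by rw [Nat.card_zpowers, hg, hS31])
  haveI hnZ : (Subgroup.zpowers g).Normal := by rw [hSg]; exact hnS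
  let χ : stabV A u →* MulAut (Subgroup.zpowers g) :=
    (MulAut.conjNormal (H := Subgroup.zpowers g)).comp (Subgroup.inclusion (stabV_le A u))
  have hχ : Function.Injective χ := by
    refine (injective_iff_map_eq_one χ).2 fun s hs => Subtype.ext (hcent s s.2 ?_)
    have h1 := congrArg (fun α : MulAut (Subgroup.zpowers g) =>
      (((α ⟨g, Subgroup.mem_zpowers g⟩ : Subgroup.zpowers g) : A) : MulAut V)) hs
    simp only [χ, MonoidHom.comp_apply, MulAut.conjNormal_apply, MulAut.one_apply,
      Subgroup.coe_mul, Subgroup.coe_inv, Subgroup.coe_inclusion] at h1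
    exact mul_inv_eq_iff_eq_mul.1 h1
  have h30 : Nat.card (stabV A u) ∣ 30 := by
    refine (Subgroup.card_dvd_of_injective χ hχ).trans ?_
    haveI : IsCyclic (Subgroup.zpowers g) := inferInstance
    rw [IsCyclic.card_mulAut, Nat.card_zpowers, hg, Nat.totient_prime Fact.out]
  have h15 : Nat.card (stabV A u) ∣ 15 := by
    have := Nat.dvd_gcd h30 hS315
    simpa using this
  have h3 : ¬ 3 ∣ Nat.card (stabV A u) := by
    intro h3
    obtain ⟨s, hs⟩ := exists_prime_orderOf_dvd_card' (G := stabV A u) 3 h3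
    have hconj : Subgroup.inclusion (stabV_le A u) s * g *
        (Subgroup.inclusion (stabV_le A u) s)⁻¹ ∈ Subgroup.zpowers g :=
      hnZ.conj_mem g (Subgroup.mem_zpowers g) _
    obtain ⟨m, hm, hme⟩ : ∃ m < 31, (g : MulAut V) ^ m = (s : MulAut V) * g * (s : MulAut V)⁻¹ := by
      obtain ⟨k, hk⟩ := hconj
      refine ⟨(k % 31).toNat, by omega, ?_⟩
      have e := congrArg (fun z : A => (z : MulAut V)) hk
      simp only [SubgroupClass.coe_zpow, Subgroup.coe_mul, Subgroup.coe_inv,
        Subgroup.coe_inclusion] at e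
      rw [← zpow_natCast, Int.toNat_of_nonneg (Int.emod_nonneg _ (by norm_num)), ← e,
        show (31 : ℤ) = (orderOf (g : MulAut V) : ℤ) by rw [hgord]; rfl, zpow_mod_orderOf]
    have hs3 : (s : MulAut V) ^ 3 = 1 := congrArg Subtype.val (hs ▸ pow_orderOf_eq_one s)
    have hm2 : ((s : MulAut V) ^ 2) * g * ((s : MulAut V) ^ 2)⁻¹ = (g : MulAut V) ^ (m * m) := by
      rw [pow_mul, hme, conj_pow, hme, pow_two]
      group
    have hm3 : (g : MulAut V) ^ (m * m * m) = g := by
      calc (g : MulAut V) ^ (m * m * m) = ((g : MulAut V) ^ m) ^ (m * m) := by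
            rw [← pow_mul]; congr 1; ring
        _ = (s : MulAut V) * (g : MulAut V) ^ (m * m) * (s : MulAut V)⁻¹ := by rw [hme, conj_pow]
        _ = (s : MulAut V) ^ 3 * g * ((s : MulAut V) ^ 3)⁻¹ := by
            rw [← hm2, show (s : MulAut V) ^ 3 = s * (s : MulAut V) ^ 2 from pow_succ' _ 2]; group
        _ = g := by rw [hs3, one_mul, inv_one, mul_one]
    have hmod : (m * m * m) % 31 = 1 := by
      have h1 := pow_eq_pow_iff_modEq.1 (hm3.trans (pow_one (g : MulAut V)).symm)
      rw [hgord] at h1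
      exact h1
    have hcases : m = 1 ∨ m = 5 ∨ m = 25 := by
      interval_cases m <;> omega
    have hg31 : (g : MulAut V) ^ 31 = 1 := hgord ▸ pow_orderOf_eq_one _
    have hgne : (g : MulAut V) ≠ 1 := fun h => by rw [h, orderOf_one] at hgord; omega
    rcases hcases with rfl | rfl | rfl
    · rw [pow_one, eq_mul_inv_iff_mul_eq] at hme
      have h1 := hcent s s.2 hme.symm
      have h2 : s = 1 := Subtype.ext h1
      rw [h2, orderOf_one] at hs
      omega
    · exact not_conj_fifth hexp h32 hg31 hgne hme.symm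
    · refine not_conj_fifth hexp h32 hg31 hgne (s := (s : MulAut V) ^ 2) (hm2.trans ?_)
      rw [show 25 * 25 = 31 * 20 + 5 by norm_num, pow_add, pow_mul, hg31, one_pow, one_mul]
  have h5 : Nat.card (stabV A u) ∣ 5 :=
    ((Nat.prime_three.coprime_iff_not_dvd.2 h3).symm).dvd_of_dvd_mul_left
      (show _ ∣ 3 * 5 from h15)
  refine ⟨h5, fun α hα hα1 y hy => ?_⟩
  have hcard : Nat.card (stabV A u) = 5 := by
    rcases (Nat.dvd_prime Fact.out).1 h5 with h | h
    · haveI := (Nat.card_eq_one_iff_unique.1 h).1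
      exact absurd (congrArg Subtype.val (Subsingleton.elim (⟨α, hα⟩ : stabV A u) 1)) hα1
    · exact h
  have hgen : ∀ β ∈ stabV A u, β ∈ Subgroup.zpowers α := fun β hβ => by
    obtain ⟨k, hk⟩ := mem_zpowers_of_prime_card (g' := (⟨β, hβ⟩ : stabV A u)) hcard
      (g := ⟨α, hα⟩) (fun h => hα1 (congrArg Subtype.val h))
    exact ⟨k, congrArg Subtype.val hk⟩
  have hne : stabV A u ≠ ⊥ := fun h => hα1 (by rw [h] at hα; exact hα)
  have hf := (fix_prime hexp h32 hne (p := 5) (IsPGroup.of_card (n := 1)
    (by rw [hcard, pow_one]))).1 rfl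
  have huF : u ∈ fixV (stabV A u) := fun β hβ => hβ.2
  have hyF : y ∈ fixV (stabV A u) := fun β hβ => by
    obtain ⟨k, rfl⟩ := hgen β hβ
    exact (MulAction.stabilizer (MulAut V) y).zpow_mem (show α ∈ MulAction.stabilizer _ y from hy) k
  by_contra hcon
  push Not at hcon
  haveI : Fintype (fixV (stabV A u)) := Fintype.ofFinite _
  have h3e : ({⟨1, one_mem _⟩, ⟨u, huF⟩, ⟨y, hyF⟩} : Finset (fixV (stabV A u))).card = 3 := by
    simp [Finset.card_insert_of_notMem, Ne.symm hu, Ne.symm hcon.1, Ne.symm hcon.2]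
  have hle := Finset.card_le_univ ({⟨1, one_mem _⟩, ⟨u, huF⟩, ⟨y, hyF⟩} :
    Finset (fixV (stabV A u)))
  rw [h3e, ← Nat.card_eq_fintype_card] at hle
  omega

/-- The dichotomy. -/
theorem exists_small_or_five (hexp : ∀ x : V, x * x = 1) (h32 : Nat.card V ≤ 32) (hV : Nontrivial V)
    {A : Subgroup (MulAut V)} (hA : Odd (Nat.card A)) :
    ∃ u : V, u ≠ 1 ∧ (Nat.card (stabV A u) ≤ 3 ∨ (Nat.card V = 32 ∧ Nat.card (stabV A u) = 5 ∧
      ∀ α ∈ stabV A u, α ≠ 1 → ∀ y : V, α y = y → y = 1 ∨ y = u)) := by
  have hd := dvd_odd_part hexp h32 hA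
  by_cases h31 : 31 ∣ Nat.card A
  · obtain ⟨hV32, h⟩ := stab_of_thirty_one hexp h32 hd h31
    obtain ⟨u, hu⟩ := exists_ne (1 : V)
    refine ⟨u, hu, ?_⟩
    obtain ⟨h5, hfree⟩ := h u hu
    rcases (Nat.dvd_prime (by decide +kernel : Nat.Prime 5)).1 h5 with e | e
    · exact Or.inl (by omega)
    · exact Or.inr ⟨hV32, e, hfree⟩
  · obtain ⟨u, hu, hs⟩ := exists_small hexp h32 hV (not_thirty_one hexp h32 hd h31)
    exact ⟨u, hu, Or.inl hs⟩

end CfsgLib.Blocks.OlssonFive.Odd
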