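import Cfsg.Agent.Lib.Blocks.OlssonFive.Bound
import Cfsg.Agent.Lib.Blocks.OlssonFive.Regular
import Cfsg.Agent.Lib.Blocks.Homocyclic

/-!
# Abelian defect groups of order at most thirty two: all cases but one
-/

namespace CfsgLib.Blocks.OlssonFive

open Cfsg CfsgLib.CharTheory

set_option linter.unusedVariables false
set_option linter.unusedSimpArgs false
set_option linter.style.haveILetI false
set_option linter.unusedSectionVars false

universe u

variable {M : Ideal AlgInt} {G : Type u} [Group G] [Fintype G]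
  {B : Set (IrrCharacter G)} {P : Subgroup G}
  {c : Set (IrrCharacter (Subgroup.centralizer (P : Set G)))}

/-- The elements of order at most two of an abelian subgroup. -/
def omegaTwo (P : Subgroup G) (hab : ∀ x ∈ P, ∀ y ∈ P, x * y = y * x) : Subgroup G where
  carrier := {y | y ∈ P ∧ y * y = 1}
  one_mem' := ⟨P.one_mem, one_mul 1⟩
  mul_mem' {a b} ha hb := ⟨P.mul_mem ha.1 hb.1, by
    have h : a * b * (a * b) = a * a * (b * b) := by
      rw [mul_assoc, ← mul_assoc b, ← hab a ha.1 b hb.1, mul_assoc a b b, ← mul_assoc]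
    rw [h, ha.2, hb.2, one_mul]⟩
  inv_mem' {a} ha := ⟨P.inv_mem ha.1, by rw [← mul_inv_rev, ha.2, inv_one]⟩

variable (c) in
/-- The action of the stabilizer of a pair on the elements of order at most two. -/
def actTwo (hab : ∀ x ∈ P, ∀ y ∈ P, x * y = y * x) :
    pairStab P c →* MulAut (omegaTwo P hab) where
  toFun t :=
    { toFun := fun y => ⟨(t : G) * y * (t : G)⁻¹, stab_conj_mem t.2 y.2.1, by
        rw [conj_mul, y.2.2, mul_one, mul_inv_cancel]⟩
      invFun := fun y => ⟨((t : G)⁻¹) * y * (t : G)⁻¹⁻¹, stab_conj_mem (inv_mem t.2) y.2.1, by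
        rw [conj_mul, y.2.2, mul_one, mul_inv_cancel]⟩
      left_inv := fun y => Subtype.ext (by simp [mul_assoc])
      right_inv := fun y => Subtype.ext (by simp [mul_assoc])
      map_mul' := fun y z => Subtype.ext (by simp [mul_assoc]) }
  map_one' := MulEquiv.ext fun y => Subtype.ext (by simp)
  map_mul' a b := MulEquiv.ext fun y => Subtype.ext (by simp [mul_assoc])

@[simp] theorem actTwo_apply (hab : ∀ x ∈ P, ∀ y ∈ P, x * y = y * x) (t : pairStab P c)
    (y : omegaTwo P hab) : ((actTwo c hab t y : omegaTwo P hab) : G) = t * y * (t : G)⁻¹ :=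
  rfl

/-- The kernel of the action is the centraliser of the defect group. -/
theorem actTwo_ker (hM : IsPModular 2 M) (hmax : IsMaximalBrauerPair 2 M B P c)
    (hab : ∀ x ∈ P, ∀ y ∈ P, x * y = y * x) :
    (actTwo c hab).ker = (Subgroup.centralizer (P : Set G)).subgroupOf (pairStab P c) := by
  ext t
  rw [MonoidHom.mem_ker, Subgroup.mem_subgroupOf]
  constructor
  · intro h
    obtain ⟨m, hm, hmc⟩ := exists_pow_cent hM hmax hab t.2
    refine Homocyclic.centralizes_of_fix_involutions hmax.1.1.1 hab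
      (fun a ha => stab_conj_mem t.2 ha) (Nat.odd_iff.2 (by omega)) hmc fun d hd hd2 => ?_
    exact congrArg (fun α : MulAut (omegaTwo P hab) => ((α ⟨d, hd, hd2⟩ : omegaTwo P hab) : G)) h
  · intro h
    refine MulEquiv.ext fun y => Subtype.ext ?_
    rw [actTwo_apply, ← Subgroup.mem_centralizer_iff.1 h y y.2.1, mul_inv_cancel_right]
    rfl

/-- The automorphisms of the defect group induced by a part of the stabilizer are counted in the
action on the elements of order at most two. -/
theorem card_range_part (hM : IsPModular 2 M) (hmax : IsMaximalBrauerPair 2 M B P c)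
    (hab : ∀ x ∈ P, ∀ y ∈ P, x * y = y * x) (T : Subgroup G) (hT : T ≤ pairStab P c) :
    Nat.card (autInducedBy T P) = Nat.card ((actTwo c hab).comp (Subgroup.inclusion hT)).range := by
  rw [← card_autInducedBy_eq_index (hT.trans stab_le_normalizer), ← Subgroup.index_ker,
    ← MonoidHom.comap_ker, actTwo_ker hM hmax hab]
  rfl

theorem odd_range (hM : IsPModular 2 M) (hmax : IsMaximalBrauerPair 2 M B P c)
    (hab : ∀ x ∈ P, ∀ y ∈ P, x * y = y * x) : Odd (Nat.card (actTwo c hab).range) := by
  have h := inertial_coprime hM hmax hab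
  rw [card_range_part hM hmax hab _ le_rfl] at h
  have e : ((actTwo c hab).comp (Subgroup.inclusion (le_refl (pairStab P c)))).range =
      (actTwo c hab).range := by
    ext α
    constructor
    · rintro ⟨t, rfl⟩; exact ⟨_, rfl⟩
    · rintro ⟨t, rfl⟩; exact ⟨t, rfl⟩
  rw [e] at h
  exact Nat.odd_iff.2 (by omega)

/-- Abelian defect groups of order at most thirty two: either the bound holds or the defect group
is elementary of order thirty two with an element whose stabilizer has order five. -/
theorem abelian_cases (hM : IsPModular 2 M) (hmax : IsMaximalBrauerPair 2 M B P c)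
    (hab : ∀ x ∈ P, ∀ y ∈ P, x * y = y * x) (h32 : Nat.card P ≤ 32) :
    kZero B ≤ Nat.card P ∨
      ((∀ x ∈ P, x * x = 1) ∧ Nat.card P = 32 ∧ ∃ u ∈ P, u ≠ 1 ∧
        Nat.card (autInducedBy (pairStab P c ⊓
          Subgroup.centralizer ((Subgroup.zpowers u : Subgroup G) : Set G)) P) = 5 ∧
        ∀ s ∈ pairStab P c, s * u * s⁻¹ = u → ∀ y ∈ P, s * y * s⁻¹ = y →
          y = 1 ∨ y = u ∨ s ∈ Subgroup.centralizer (P : Set G)) := by
  classical
  by_cases hbot : P = ⊥
  · left
    refine kZero_le_abelian hM hmax hab (u := 1) P.one_mem ?_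
    haveI : Subsingleton P := by
      refine ⟨fun a b => Subtype.ext ?_⟩
      rw [(Subgroup.eq_bot_iff_forall P).1 hbot a a.2, (Subgroup.eq_bot_iff_forall P).1 hbot b b.2]
    haveI : Subsingleton (MulAut P) := ⟨fun a b => MulEquiv.ext fun x => Subsingleton.elim _ _⟩
    rw [Nat.card_of_subsingleton (1 : autInducedBy _ P)]
    norm_num
  letI : CommGroup (omegaTwo P hab) :=
    { (inferInstance : Group (omegaTwo P hab)) with
      mul_comm := fun a b => Subtype.ext (hab _ a.2.1 _ b.2.1) }
  haveI : Fact (Nat.Prime 2) := ⟨Nat.prime_two⟩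
  have hle : omegaTwo P hab ≤ P := fun y hy => hy.1
  have hV32 : Nat.card (omegaTwo P hab) ≤ 32 := (Subgroup.card_le_of_le hle).trans h32
  have hexp : ∀ x : omegaTwo P hab, x * x = 1 := fun x => Subtype.ext x.2.2
  have hnt : Nontrivial (omegaTwo P hab) := by
    have h2 : 2 ∣ Nat.card P := by
      obtain ⟨n, hn⟩ := IsPGroup.iff_card.1 hmax.1.1.1
      rcases n with _ | n
      · exact absurd (Subgroup.eq_bot_of_card_le P (by rw [hn]; norm_num)) hbot
      · exact hn ▸ dvd_pow_self 2 (Nat.succ_ne_zero n)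
    obtain ⟨x, hx⟩ := exists_prime_orderOf_dvd_card' (G := P) 2 h2
    have hx2 : (x : G) * x = 1 := by
      have h := congrArg Subtype.val (hx ▸ pow_orderOf_eq_one x : x ^ 2 = 1)
      simpa [pow_two] using h
    refine ⟨⟨⟨x, x.2, hx2⟩, 1, fun h => ?_⟩⟩
    have h1 : x = 1 := Subtype.ext (congrArg Subtype.val h :)
    rw [h1, orderOf_one] at hx
    omega
  obtain ⟨u, hu1, hu⟩ := Odd.exists_small_or_five hexp hV32 hnt (odd_range hM hmax hab)
  set T := pairStab P c ⊓ Subgroup.centralizer ((Subgroup.zpowers (u : G) : Subgroup G) : Set G)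
    with hTdef
  have hmem : ∀ s : G, s ∈ pairStab P c → (s ∈ T ↔ s * u * s⁻¹ = (u : G)) := by
    intro s hs
    rw [hTdef, Subgroup.mem_inf, Subgroup.zpowers_eq_closure, Subgroup.centralizer_closure,
      Subgroup.mem_centralizer_singleton_iff]
    exact ⟨fun h => mul_inv_eq_iff_eq_mul.2 h.2, fun h => ⟨hs, mul_inv_eq_iff_eq_mul.1 h⟩⟩
  have hrange : ((actTwo c hab).comp (Subgroup.inclusion (inf_le_left : T ≤ pairStab P c))).range =
      Odd.stabV (actTwo c hab).range u := by
    ext α
    constructor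
    · rintro ⟨t, rfl⟩
      exact ⟨⟨_, rfl⟩, Subtype.ext (by
        simpa using (hmem _ (inf_le_left (b := Subgroup.centralizer _) t.2)).1 t.2)⟩
    · rintro ⟨⟨t, rfl⟩, htu⟩
      exact ⟨⟨t, (hmem t t.2).2 (congrArg Subtype.val htu :)⟩, rfl⟩
  have hcard : Nat.card (autInducedBy T P) = Nat.card (Odd.stabV (actTwo c hab).range u) := by
    rw [card_range_part hM hmax hab T inf_le_left, hrange]
  rcases hu with hu | ⟨hV, hu5, hfree⟩
  · exact Or.inl (kZero_le_abelian hM hmax hab u.2.1 (hcard.le.trans hu))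
  · have hVP : omegaTwo P hab = P := Subgroup.eq_of_le_of_card_ge hle (by omega)
    refine Or.inr ⟨fun x hx => (hVP.symm ▸ hx : x ∈ omegaTwo P hab).2, by rw [← hVP, hV],
      u, u.2.1, fun h => hu1 (Subtype.ext h), hcard.trans hu5, fun s hs hsu y hy hsy => ?_⟩
    by_cases h1 : actTwo c hab ⟨s, hs⟩ = 1
    · right; right
      have h2 : (⟨s, hs⟩ : pairStab P c) ∈ (actTwo c hab).ker := h1
      rw [actTwo_ker hM hmax hab] at h2
      exact Subgroup.mem_subgroupOf.1 h2
    · have hyV : y ∈ omegaTwo P hab := hVP.symm ▸ hy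
      rcases hfree (actTwo c hab ⟨s, hs⟩) ⟨⟨_, rfl⟩, Subtype.ext hsu⟩ h1 ⟨y, hyV⟩ (Subtype.ext hsy) with h | h
      · exact Or.inl (congrArg Subtype.val h)
      · exact Or.inr (Or.inl (congrArg Subtype.val h))

end CfsgLib.Blocks.OlssonFive
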