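import Cfsg.Agent.Lib.Blocks.OlssonFive.Bound2
import Cfsg.Agent.Lib.Blocks.AbData
import Cfsg.Agent.Lib.Blocks.AbelianRankOne
import Cfsg.Agent.Lib.Blocks.TwoChars

/-!
# The column of an element of order eight with centraliser of order sixteen

If the element is conjugate in the defect group to its third or seventh power, half the sum of the two
columns is integral, of square sum eight, and odd on characters of height zero.
-/

namespace CfsgLib.Blocks.OlssonFive

open Cfsg CfsgLib.CharTheory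
open scoped ComplexConjugate

set_option linter.unusedVariables false
set_option linter.unusedSimpArgs false
set_option linter.style.haveILetI false
set_option linter.unusedSectionVars false

universe u

variable {M : Ideal AlgInt} {G : Type u} [Group G] [Fintype G]
  {B : Set (IrrCharacter G)} {P : Subgroup G}
  {c : Set (IrrCharacter (Subgroup.centralizer (P : Set G)))}

/-- A central subgroup of index two in a defect group: one Brauer character. -/
theorem rank_one_index_two (hM : IsPModular 2 M) (hmax : IsMaximalBrauerPair 2 M B P c)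
    {U : Subgroup G} [U.Normal] (hUc : U ≤ Subgroup.center G) (hUP : U ≤ P)
    (hcard : Nat.card P = 2 * Nat.card U) : blockRank 2 B = 1 := by
  classical
  haveI : Fact (Nat.Prime 2) := ⟨Nat.prime_two⟩
  haveI := Fintype.ofFinite (G ⧸ U)
  have hU : IsPGroup 2 U := hmax.1.1.1.to_le hUP
  set Q := P.map (QuotientGroup.mk' U) with hQ
  obtain ⟨c', hc'⟩ := exists_maximal_at hM (quotBlock_isPBlock_central hM hmax.1.2.1 hU hUc)
    (show IsDefectGroup 2 M (quotBlock U B) Q from quot_defectGroup hM hmax hUc hUP)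
  have h2 : Nat.card Q = 2 := by
    have h1 : Nat.card Q * Nat.card U = Nat.card P := card_map_mul hUP
    exact Nat.eq_of_mul_eq_mul_right Nat.card_pos (h1.trans hcard)
  have huniq : ∀ x y : Q, x ≠ 1 → y ≠ 1 → x = y := fun x y hx hy => by
    obtain ⟨z, -, hz⟩ := (Nat.card_eq_two_iff' (1 : Q)).1 h2
    exact (hz x hx).trans (hz y hy).symm
  have hab : ∀ x ∈ Q, ∀ y ∈ Q, x * y = y * x := by
    intro x hx y hy
    by_cases h : (⟨x, hx⟩ : Q) = 1
    · rw [show x = 1 from congrArg Subtype.val h, one_mul, mul_one]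
    · by_cases h' : (⟨y, hy⟩ : Q) = 1
      · rw [show y = 1 from congrArg Subtype.val h', one_mul, mul_one]
      · rw [show x = y from congrArg Subtype.val (huniq _ _ h h')]
  have htriv : pairStab Q c' ≤ Subgroup.centralizer (Q : Set (G ⧸ U)) := by
    intro t ht x hx
    by_cases h : (⟨x, hx⟩ : Q) = 1
    · rw [show x = 1 from congrArg Subtype.val h, one_mul, mul_one]
    · have h1 := stab_conj_mem ht hx
      have h' : (⟨t * x * t⁻¹, h1⟩ : Q) ≠ 1 := fun e => h (Subtype.ext (by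
        have e1 : t * x * t⁻¹ = 1 := congrArg Subtype.val e
        rwa [mul_inv_eq_one, mul_eq_left] at e1))
      exact (mul_inv_eq_iff_eq_mul.1 (congrArg Subtype.val (huniq _ _ h' h))).symm
  have h1 := (rank_one_of_abelian_triv hM hc' hab htriv).1
  have h3 := blockRank_le_quot_central hM hmax.1.2.1 hU hUc
  have h4 := blockRank_pos hM hmax.1.2.1
  omega

/-- Sums of eighth roots of unity whose values are fixed by an odd twist. -/
theorem eight_roots {ι : Type*} [Fintype ι] (m : ι → ℕ) (ω : ι → ℂ) (hω : ∀ θ, ω θ ^ 8 = 1)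
    (d : ℕ → ℂ) (hd : ∀ k, d k = ∑ θ, (m θ : ℂ) * ω θ ^ k) {j : ℕ} (hj : j = 3 ∨ j = 7)
    (hd1 : d j = d 1) (hd5 : d (5 * j) = d 5) :
    ∃ a : ℤ, ∃ w : ℂ, IsIntegral ℤ w ∧ d 1 + d 5 = 2 * (a : ℂ) ∧
      d 1 * conj (d 1) = (a : ℂ) ^ 2 + 2 * w := by
  classical
  obtain ⟨z, hz⟩ : ∃ z : ℂ, IsPrimitiveRoot z 8 := ⟨_, Complex.isPrimitiveRoot_exp 8 (by norm_num)⟩
  have h8 : z ^ 8 = 1 := hz.pow_eq_one
  have h4 : z ^ 4 = -1 := by
    have h : (z ^ 4) * (z ^ 4) = 1 := by rw [← pow_add]; exact h8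
    exact (mul_self_eq_one_iff.1 h).resolve_left (hz.pow_ne_one_of_pos_of_lt (by norm_num) (by norm_num))
  have hz0 : z ≠ 0 := hz.ne_zero (by norm_num)
  have hne : z ^ 2 ≠ 1 := hz.pow_ne_one_of_pos_of_lt (by norm_num) (by norm_num)
  have hne' : z ^ 2 ≠ -1 := fun e => by
    have h : z ^ 4 = 1 := by rw [show (4 : ℕ) = 2 * 2 from rfl, pow_mul, e]; norm_num
    rw [h4] at h; norm_num at h
  choose i hi hzi using fun θ => hz.eq_pow_of_pow_eq_one (hω θ)
  set f : ℕ → ℕ → ℤ := fun r t => if t = r then 1 else if t = r + 4 then -1 else 0 with hf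
  have hbase : ∀ t, t < 8 → ∀ k, Odd k → (z ^ t) ^ k =
      (f 0 t : ℂ) + (f 1 t : ℂ) * z ^ k + (f 2 t : ℂ) * (z ^ 2) ^ k + (f 3 t : ℂ) * (z ^ 3) ^ k := by
    intro t ht k hk
    have hs : ∀ r, (z ^ (r + 4)) ^ k = -(z ^ r) ^ k := fun r => by
      rw [pow_add, h4, mul_neg_one, hk.neg_pow]
    interval_cases t
    · simp [hf]
    · simp [hf]
    · simp [hf]
    · simp [hf]
    · rw [hs 0]; simp [hf]
    · rw [hs 1]; simp [hf]
    · rw [hs 2]; simp [hf]
    · rw [hs 3]; simp [hf]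
  set N : ℕ → ℤ := fun r => ∑ θ, (m θ : ℤ) * f r (i θ) with hN
  obtain ⟨a, ha⟩ : ∃ a, a = N 0 := ⟨_, rfl⟩
  obtain ⟨b, hb⟩ : ∃ b, b = N 1 := ⟨_, rfl⟩
  obtain ⟨q, hq⟩ : ∃ q, q = N 2 := ⟨_, rfl⟩
  obtain ⟨e, he⟩ : ∃ e, e = N 3 := ⟨_, rfl⟩
  have hdk : ∀ k, Odd k → d k = (a : ℂ) + (b : ℂ) * z ^ k + (q : ℂ) * (z ^ 2) ^ k +
      (e : ℂ) * (z ^ 3) ^ k := by
    intro k hk
    rw [hd, ha, hb, hq, he, hN]
    push_cast
    simp only [Finset.sum_mul, ← Finset.sum_add_distrib]
    refine Finset.sum_congr rfl fun θ _ => ?_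
    rw [← hzi θ, hbase _ (hi θ) k hk]
    ring
  have e1 : d 1 = (a : ℂ) + b * z + q * z ^ 2 + e * z ^ 3 := by rw [hdk 1 odd_one]; ring
  have e5 : d 5 = (a : ℂ) - b * z + q * z ^ 2 - e * z ^ 3 := by
    rw [hdk 5 (by decide)]
    linear_combination ((b : ℂ) * z + (q : ℂ) * z ^ 2 * (z ^ 4 - 1) +
      (e : ℂ) * z ^ 3 * (z ^ 8 - z ^ 4 + 1)) * h4
  have e3 : d 3 = (a : ℂ) + b * z ^ 3 - q * z ^ 2 + e * z := by
    rw [hdk 3 (by decide)]
    linear_combination ((q : ℂ) * z ^ 2 + (e : ℂ) * z * (z ^ 4 - 1)) * h4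
  have e7 : d 7 = (a : ℂ) - b * z ^ 3 - q * z ^ 2 - e * z := by
    rw [hdk 7 (by decide)]
    linear_combination ((b : ℂ) * z ^ 3 + (q : ℂ) * z ^ 2 * (z ^ 8 - z ^ 4 + 1) +
      (e : ℂ) * z * (z ^ 16 - z ^ 12 + z ^ 8 - z ^ 4 + 1)) * h4
  have hper : ∀ k r, d (r + 8 * k) = d r := fun k r => by
    rw [hd, hd]
    exact Finset.sum_congr rfl fun θ _ => by rw [pow_add, pow_mul, hω, one_pow, mul_one]
  have hzint : IsIntegral ℤ z :=
    IsIntegral.of_pow (by norm_num : 0 < 8) (h8 ▸ isIntegral_one)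
  have hconj : conj (d 1) = d 7 := by
    rw [hd, hd, map_sum]
    refine Finset.sum_congr rfl fun θ _ => ?_
    rw [map_mul, map_natCast, pow_one]
    congr 1
    rw [← Complex.inv_eq_conj (Complex.norm_eq_one_of_pow_eq_one (hω θ) (by norm_num))]
    exact inv_eq_of_mul_eq_one_right (by rw [← pow_succ', hω])
  rcases hj with rfl | rfl
  · have h15 : d 7 = d 5 := by rw [← hd5, show 5 * 3 = 7 + 8 * 1 from rfl, hper]
    have hsum := h15
    have hd31 := hd1
    rw [e3, e1] at hd31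
    rw [e7, e5] at h15
    have hq : (q : ℂ) = 0 := by
      have h : (q : ℂ) * z ^ 2 = 0 := by linear_combination (-1 / 4 : ℂ) * hd31 + (-1 / 4 : ℂ) * h15
      exact (mul_eq_zero.1 h).resolve_right (pow_ne_zero _ hz0)
    have hbe : (e : ℂ) = b := by
      have h : ((b : ℂ) - e) * (z * (z ^ 2 - 1)) = 0 := by
        linear_combination (1 / 2 : ℂ) * hd31 + (-1 / 2 : ℂ) * h15
      exact ((sub_eq_zero.1 ((mul_eq_zero.1 h).resolve_right
        (mul_ne_zero hz0 (sub_ne_zero.2 hne))))).symm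
    refine ⟨a, (b : ℂ) ^ 2, ((isIntegral_intCast' b).pow 2), ?_, ?_⟩
    · rw [e1, e5, hq]; ring
    · rw [hconj, hsum, e1, e5, hq, hbe]
      linear_combination (-(b : ℂ) ^ 2 * (z ^ 2 + 2)) * h4
  · have h35 : d 3 = d 5 := by rw [← hd5, show 5 * 7 = 3 + 8 * 4 from rfl, hper]
    have hsum := hd1
    have hd71 := hd1
    rw [e7, e1] at hd71
    rw [e3, e5] at h35
    have hq : (q : ℂ) = 0 := by
      have h : (q : ℂ) * z ^ 2 = 0 := by linear_combination (-1 / 4 : ℂ) * hd71 + (-1 / 4 : ℂ) * h35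
      exact (mul_eq_zero.1 h).resolve_right (pow_ne_zero _ hz0)
    have hbe : (e : ℂ) = -b := by
      have h : ((b : ℂ) + e) * (z * (z ^ 2 + 1)) = 0 := by
        linear_combination (-1 / 2 : ℂ) * hd71 + (1 / 2 : ℂ) * h35
      have h' : (z * (z ^ 2 + 1)) ≠ 0 :=
        mul_ne_zero hz0 (fun e => hne' (eq_neg_of_add_eq_zero_left e))
      exact eq_neg_of_add_eq_zero_right ((mul_eq_zero.1 h).resolve_right h')
    refine ⟨a, (a : ℂ) * b * (z - z ^ 3) + (b : ℂ) ^ 2, ?_, ?_, ?_⟩
    · exact (((isIntegral_intCast' a).mul (isIntegral_intCast' b)).mul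
        (hzint.sub (hzint.pow 3))).add ((isIntegral_intCast' b).pow 2)
    · rw [e1, e5, hq]; ring
    · rw [hconj, hsum, e1, hq, hbe]
      linear_combination ((b : ℂ) ^ 2 * (z ^ 2 - 2)) * h4

/-- The defect group is the centraliser and one further coset. -/
theorem index_two_of (hP : IsPGroup 2 P) (h32 : Nat.card P ≤ 32) {v g : G} (hv : v ∈ P)
    (hord : orderOf v = 8) (hC : Nat.card (centP P v) = 16) (hg : g ∈ P) {j : ℕ}
    (hj : j = 3 ∨ j = 7) (hgv : g * v * g⁻¹ = v ^ j) :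
    (∀ y ∈ P, y * v * y⁻¹ ≠ v ^ 5) ∧ ∀ y ∈ P, y ∈ centP P v ∨ g⁻¹ * y ∈ centP P v := by
  have hne : ∀ i k : ℕ, i < 8 → k < 8 → v ^ i = v ^ k → i = k := fun i k hi hk h =>
    pow_injOn_Iio_orderOf (by rw [Set.mem_Iio, hord]; exact hi) (by rw [Set.mem_Iio, hord]; exact hk) h
  have hgC : g ∉ centP P v := fun h => by
    have h1 : v ^ j = v ^ 1 := by rw [← hgv, (mem_centP.1 h).2, mul_inv_cancel_right, pow_one]
    have := hne j 1 (by omega) (by omega) h1
    omega
  have hlt : centP P v < P := lt_of_le_of_ne inf_le_left fun e => hgC (e.symm ▸ hg)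
  have hidx : ((centP P v).subgroupOf P).index = 2 := by
    have h1 := Subgroup.card_mul_index ((centP P v).subgroupOf P)
    rw [Nat.card_congr (Subgroup.subgroupOfEquivOfLe hlt.le).toEquiv, hC] at h1
    have h2 : ((centP P v).subgroupOf P).index ≠ 1 := fun e =>
      hgC (Subgroup.subgroupOf_eq_top.1 (Subgroup.index_eq_one.1 e) hg)
    rcases Nat.lt_or_ge ((centP P v).subgroupOf P).index 3 with h3 | h3
    · rcases Nat.eq_zero_or_pos ((centP P v).subgroupOf P).index with h0 | h0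
      · rw [h0, mul_zero] at h1; exact absurd h1.symm Nat.card_pos.ne'
      · omega
    · have : 16 * 3 ≤ 32 := le_trans (Nat.mul_le_mul_left 16 h3) (h1.le.trans h32)
      omega
  have hcos : ∀ y ∈ P, y ∈ centP P v ∨ g⁻¹ * y ∈ centP P v := by
    intro y hy
    by_cases h : y ∈ centP P v
    · exact Or.inl h
    · right
      have h1 := Subgroup.mul_mem_iff_of_index_two hidx (a := (⟨g, hg⟩ : P)⁻¹) (b := ⟨y, hy⟩)
      simp only [Subgroup.mem_subgroupOf, Subgroup.coe_mul, Subgroup.coe_inv, inv_mem_iff] at h1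
      exact h1.2 (iff_of_false hgC h)
  refine ⟨fun y hy e => ?_, hcos⟩
  rcases hcos y hy with h | h
  · rw [(mem_centP.1 h).2, mul_inv_cancel_right] at e
    have := hne 1 5 (by omega) (by omega) (by rw [pow_one]; exact e)
    omega
  · have hcm : g⁻¹ * y * v * (g⁻¹ * y)⁻¹ = v := by rw [(mem_centP.1 h).2, mul_inv_cancel_right]
    have e2 : y * v * y⁻¹ = g * (g⁻¹ * y * v * (g⁻¹ * y)⁻¹) * g⁻¹ := by group
    rw [hcm, hgv, e] at e2
    have := hne 5 j (by omega) (by omega) e2
    omega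

theorem exists_eq_mk {Q : Subgroup G} (a : BrauerPairIdx G) (h : a.1 = Q) :
    ∃ f : Set (IrrCharacter (Subgroup.centralizer (Q : Set G))), a = ⟨Q, f⟩ := by
  obtain ⟨R, f⟩ := a
  obtain rfl : R = Q := h
  exact ⟨f, rfl⟩

/-- An element of order eight with centraliser of order sixteen, conjugate to its third or seventh
power. -/
theorem kZero_le_column (hM : IsPModular 2 M) {F : FusionSystem P}
    (hF : IsBlockFusionSystemOn 2 M B P c F) (h32 : Nat.card P ≤ 32) {v g : G} (hv : v ∈ P)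
    (hord : orderOf v = 8) (hC : Nat.card (centP P v) = 16) (hg : g ∈ P) {j : ℕ}
    (hj : j = 3 ∨ j = 7) (hgv : g * v * g⁻¹ = v ^ j)
    (hfc : ∀ R, F.IsConj (Subgroup.zpowers v) R →
      Nat.card (P ⊓ Subgroup.centralizer (R : Set G) : Subgroup G) ≤ Nat.card (centP P v)) :
    kZero B ≤ 8 := by
  classical
  haveI : Fact (Nat.Prime 2) := ⟨Nat.prime_two⟩
  have hP : IsPGroup 2 P := hF.1.1.1.1
  have he := hF.1.1.1.2
  set Q := Subgroup.zpowers v with hQdef
  have hQP : Q ≤ P := Subgroup.zpowers_le.2 hv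
  set H := Subgroup.centralizer (Q : Set G) with hH
  haveI : Fintype H := Fintype.ofFinite _
  obtain ⟨f, ⟨hf, hle⟩, -⟩ := existsUnique_subpair hM hP he _ hQP
  have hdef := (fullyCentralized_iff hM hF hf hle).1 ⟨hQP, fun R hR => hfc R hR⟩
  have hind : IsInducedBlock M H f B :=
    (induced_centralizer_iff hM (hP.to_le hQP)).2
      ((pairOf_subpair_iff hM (a := ⟨_, f⟩) (b := ⟨P, c⟩) hle B).2 hF.1.1)
  have hdefect : blockDefect 2 f = 4 := by
    have h := isDefectGroup_card_centP hM hf hdef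
    change Nat.card (centP P v) = 2 ^ blockDefect 2 f at h
    rw [hC, show 16 = 2 ^ 4 from rfl] at h
    exact (Nat.pow_right_injective le_rfl h).symm
  obtain ⟨c', hc'⟩ := exists_maximal_at hM hf hdef
  have hrank : blockRank 2 f = 1 := by
    have hQH : Q ≤ H := fun q hq q' hq' => by
      obtain ⟨a, rfl⟩ := hq
      obtain ⟨b, rfl⟩ := hq'
      exact ((Commute.refl v).zpow_zpow b a).eq
    have hUc : Q.subgroupOf H ≤ Subgroup.center H := fun q hq => Subgroup.mem_center_iff.2 fun y =>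
      Subtype.ext (y.2 (q : G) (Subgroup.mem_subgroupOf.1 hq)).symm
    haveI : (Q.subgroupOf H).Normal := normal_of_central hUc
    refine rank_one_index_two hM hc' hUc (Subgroup.comap_mono (le_inf hQP hQH)) ?_
    rw [Nat.card_congr (Subgroup.subgroupOfEquivOfLe hQH).toEquiv, hQdef, Nat.card_zpowers, hord,
      Nat.card_congr (Subgroup.subgroupOfEquivOfLe inf_le_right).toEquiv]
    exact hC
  obtain ⟨φ, dg, n, hbd, -, -, -, hdeg, -⟩ := single_block hM hf hrank
  have hvH : v ∈ H := (isCentr_zpowers v).self_mem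
  have hzc : (⟨v, hvH⟩ : H) ∈ Subgroup.center H :=
    Subgroup.mem_center_iff.2 fun y => Subtype.ext ((isCentr_zpowers v y).1 y.2)
  have hcyc5 : Subgroup.zpowers (v ^ 5) = Q := by
    refine le_antisymm (Subgroup.zpowers_le.2 (Subgroup.pow_mem _ (Subgroup.mem_zpowers v) 5))
      (Subgroup.zpowers_le.2 ?_)
    refine Subgroup.mem_zpowers_iff.2 ⟨5, ?_⟩
    rw [zpow_ofNat, ← pow_mul, ← pow_mod_orderOf, hord]
    norm_num
  have hc1 : IsCentr v H := isCentr_zpowers v
  have hc5 : IsCentr (v ^ 5) H := by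
    have h := isCentr_zpowers (v ^ 5)
    rwa [hcyc5] at h
  have ho1 : ∃ k : ℕ, orderOf v = 2 ^ k := ⟨3, hord⟩
  have ho5 : ∃ k : ℕ, orderOf (v ^ 5) = 2 ^ k := by
    refine ⟨3, ?_⟩
    rw [← Nat.card_zpowers, hcyc5, hQdef, Nat.card_zpowers, hord]
    norm_num
  -- the columns
  obtain ⟨d, hd⟩ : ∃ d : ℕ → IrrCharacter G → ℂ,
      ∀ k χ, d k χ = cval (v ^ k) ⟨Q, f⟩ (χ : G → ℂ) := ⟨_, fun k χ => rfl⟩
  have hd1e : ∀ χ, d 1 χ = cval v ⟨Q, f⟩ (χ : G → ℂ) := fun χ => by rw [hd, pow_one]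
  have hstab : conjIdx g ⟨Q, f⟩ = (⟨Q, f⟩ : BrauerPairIdx G) := by
    have hmap : Q.map (MulAut.conj g).toMonoidHom = Q := by
      refine Subgroup.eq_of_le_of_card_ge ?_ (card_map_conj Q g).ge
      rintro _ ⟨q, ⟨a, rfl⟩, rfl⟩
      show g * v ^ a * g⁻¹ ∈ Q
      rw [← conj_zpow, hgv]
      exact Subgroup.zpow_mem _ (Subgroup.pow_mem _ (Subgroup.mem_zpowers v) _) _
    obtain ⟨f', hf'⟩ := exists_eq_mk (conjIdx g ⟨Q, f⟩) hmap
    have h1 := subpair_conj_mem hM hle hg
    rw [hf'] at h1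
    rw [hf', subpair_unique hM hP he (subpairLE_left_block he h1) hf h1 hle]
  have hinv : ∀ k χ, d (j * k) χ = d k χ := fun k χ => by
    rw [hd, hd]
    conv_rhs => rw [← cval_conj χ g (v ^ k) ⟨Q, f⟩]
    rw [hstab, ← conj_pow, hgv, ← pow_mul]
  have hroots : ∀ χ : IrrCharacter G, ∃ a : ℤ, ∃ w : ℂ, IsIntegral ℤ w ∧
      d 1 χ + d 5 χ = 2 * (a : ℂ) ∧ d 1 χ * conj (d 1 χ) = (a : ℂ) ^ 2 + 2 * w := by
    intro χ
    choose k hk using fun θ : IrrCharacter H =>
      classInner_char_nat (isCharacter_restrict_irr H χ) (isCharacter_of_irr θ.2)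
    have hexp : ∀ y : H, (χ : G → ℂ) y = ∑ θ, (k θ : ℂ) * (θ : H → ℂ) y := fun y => by
      have := congrFun (eq_sum_irr (isClassFunction_char (isCharacter_restrict_irr H χ))) y
      simpa [hk] using this
    set z : H := ⟨v, hvH⟩ with hz
    have hpow : ∀ (θ : IrrCharacter H) (t : ℕ), (θ : H → ℂ) (z ^ t) / (θ : H → ℂ) 1 =
        ((θ : H → ℂ) z / (θ : H → ℂ) 1) ^ t := by
      intro θ t
      induction t with
      | zero => simp [div_self (irr_one_ne_zero θ)]
      | succ t ih => rw [pow_succ', central_value_mul hzc, mul_div_assoc, ih, pow_succ']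
    refine eight_roots (fun θ : IrrCharacter H => if θ ∈ f then k θ * dg θ else 0)
      (fun θ => (θ : H → ℂ) z / (θ : H → ℂ) 1) (fun θ => ?_) (fun t => d t χ) (fun t => ?_) hj
      (by simpa using hinv 1 χ) (by simpa [mul_comm] using hinv 5 χ)
    · rw [← hpow θ 8, show z ^ 8 = 1 from Subtype.ext (by
        rw [SubgroupClass.coe_pow, hz, OneMemClass.coe_one, ← hord, pow_orderOf_eq_one]),
        div_self (irr_one_ne_zero θ)]
    · show d t χ = _
      rw [hd, show v ^ t = ((z ^ t : H) : G) from rfl,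
        cval_sext_expand (H := H) (a := (⟨Q, f⟩ : BrauerPairIdx G)) (z ^ t).2 le_rfl
          (fun θ => (k θ : ℂ)) hexp]
      refine Finset.sum_congr rfl fun θ _ => ?_
      rw [cval_central (Subgroup.pow_mem _ hzc t) le_rfl θ, cval_self hM hbd hdeg θ, hpow]
      by_cases hθ : θ ∈ f
      · rw [ind_of_mem hθ, if_pos hθ]; push_cast; ring
      · rw [ind_of_notMem hθ, if_neg hθ]; simp
  choose A W hW hA hAA using hroots
  -- norms and orthogonality
  have hs1 : ∑ χ ∈ bset B, d 1 χ * conj (d 1 χ) = 16 := by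
    simp only [hd1e]
    rw [sum_cval_sq hM hc1 ho1 hind hrank, hdefect]; norm_num
  have hs5 : ∑ χ ∈ bset B, d 5 χ * conj (d 5 χ) = 16 := by
    simp only [hd]
    rw [sum_cval_sq hM hc5 ho5 hind hrank, hdefect]; norm_num
  have hs15 : ∑ χ ∈ bset B, d 1 χ * conj (d 5 χ) = 0 := by
    rw [Finset.sum_subset (Finset.subset_univ (bset B)) fun χ _ hχ => by
      rw [hd1e, cval_off hM hc1 ho1 hind (fun h => hχ (mem_bset.2 h)), zero_mul]]
    simp only [hd1e]
    simp only [hd]
    by_cases hcj : IsConj v (v ^ 5)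
    swap
    · exact sum_cval_ne hM hf hc1 hc5 ho1 ho5 hf hcj
    · obtain ⟨x, hx⟩ := isConj_iff.1 hcj
      have hmap : Q.map (MulAut.conj x).toMonoidHom = Q := by
        refine Subgroup.eq_of_le_of_card_ge ?_ (card_map_conj Q x).ge
        rintro _ ⟨q, ⟨a, rfl⟩, rfl⟩
        show x * v ^ a * x⁻¹ ∈ Q
        rw [← conj_zpow, hx]
        exact Subgroup.zpow_mem _ (Subgroup.pow_mem _ (Subgroup.mem_zpowers v) _) _
      obtain ⟨f', hf'⟩ := exists_eq_mk (conjIdx x ⟨Q, f⟩) hmap
      have hne : f' ≠ f := by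
        intro hff
        rw [hff] at hf'
        have hle' : Relation.ReflTransGen (NormalSubpairRel 2 M) (conjIdx x ⟨Q, f⟩) ⟨P, c⟩ :=
          hf'.symm ▸ hle
        have hxN : x ∈ Subgroup.normalizer (Q : Set G) := by
          refine Subgroup.mem_normalizer_iff.2 fun y => ?_
          conv_rhs => rw [← hmap]
          rw [conjMap_mem_iff, mul_assoc, mul_assoc, mul_assoc, inv_mul_cancel_left, inv_mul_cancel, mul_one]
        set α : MulAut Q := autHom Q (le_refl (Subgroup.normalizer (Q : Set G))) ⟨x, hxN⟩ with hα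
        have hαF : α ∈ F.autGroup Q := Subgroup.subset_closure (by
          show Q.subtype.comp α.toMonoidHom ∈ F.Hom Q
          refine (hF.2 Q _).2 ⟨hQP, x, fun y => rfl, by rw [hmap]; exact hQP, f, hle, hle'⟩)
        have hnorm : P ≤ Subgroup.normalizer (Q : Set G) := by
          have hCN : centP P v ≤ Subgroup.normalizer (Q : Set G) := inf_le_right.trans
            (Subgroup.centralizer_le_normalizer _)
          have hgN : g ∈ Subgroup.normalizer (Q : Set G) := by
            refine Subgroup.mem_normalizer_iff.2 fun y => ?_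
            conv_rhs => rw [show Q = Q.map (MulAut.conj g).toMonoidHom from
              (congrArg Sigma.fst hstab).symm]
            rw [conjMap_mem_iff, mul_assoc, mul_assoc, mul_assoc, inv_mul_cancel_left, inv_mul_cancel, mul_one]
          obtain ⟨-, h2⟩ := index_two_of hP h32 hv hord hC hg hj hgv
          intro y hy
          rcases h2 y hy with h | h
          · exact hCN h
          · have := mul_mem hgN (hCN h)
            rwa [mul_inv_cancel_left] at this
        have hfn : F.IsFullyNormalized Q := ⟨hQP, fun R _ => by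
          rw [show FusionSystem.normalizerIn P Q = P from inf_eq_left.2 hnorm]
          exact Subgroup.card_le_of_le inf_le_left⟩
        obtain ⟨-, R, hR⟩ :=
          (blockFusion_isSaturated hM hF).isFullyAutomized_of_isFullyNormalized hP hfn
        have h2g : IsPGroup 2 (F.autGroup Q) := by
          refine IsPGroup.to_subgroup (IsPGroup.of_card (n := 2) ?_) _
          rw [IsCyclic.card_mulAut, hQdef, Nat.card_zpowers, hord]
          decide
        have hR' : (R : Subgroup (F.autGroup Q)) = ⊤ :=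
          (R.is_maximal' (h2g.to_subgroup ⊤) le_top).symm
        have hmem : (⟨α, hαF⟩ : F.autGroup Q) ∈ (R : Subgroup (F.autGroup Q)) :=
          hR' ▸ Subgroup.mem_top _
        rw [hR] at hmem
        obtain ⟨y, hy, -, hya⟩ := mem_autInducedBy_iff.1 (Subgroup.mem_subgroupOf.1 hmem)
        have hyv : y * v * y⁻¹ = v ^ 5 :=
          ((hya ⟨v, Subgroup.mem_zpowers v⟩).symm.trans rfl).trans hx
        exact (index_two_of hP h32 hv hord hC hg hj hgv).1 y hy hyv
      have hb' : IsPBlock M f' := by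
        have h := isPBlock_conjBlock hf x
        have h2 : ∀ a b : BrauerPairIdx G, a = b → IsPBlock M a.2 → IsPBlock M b.2 := by
          rintro a b rfl h; exact h
        exact h2 _ _ hf' h
      have hval : ∀ χ : IrrCharacter G,
          cval (v ^ 5) ⟨Q, f'⟩ (χ : G → ℂ) = cval v ⟨Q, f⟩ (χ : G → ℂ) := fun χ => by
        rw [← hf', ← hx, cval_conj]
      simp only [← hval]
      exact sum_cval_disjoint hM hc5 ho5 hb' hf hne
  have hsA : ∑ χ ∈ bset B, A χ ^ 2 = 8 := by
    have hcr : ∑ χ ∈ bset B, d 5 χ * conj (d 1 χ) = 0 := by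
      have h := congrArg conj hs15
      rw [map_sum, map_zero] at h
      rw [← h]
      exact Finset.sum_congr rfl fun χ _ => by rw [map_mul, Complex.conj_conj, mul_comm]
    have h : ∀ χ, d 1 χ * conj (d 1 χ) + d 5 χ * conj (d 5 χ) + d 1 χ * conj (d 5 χ) +
        d 5 χ * conj (d 1 χ) = 4 * ((A χ : ℂ) ^ 2) := fun χ => by
      have h2 := congrArg conj (hA χ)
      rw [map_add, map_mul, map_ofNat, map_intCast] at h2
      linear_combination (conj (d 1 χ) + conj (d 5 χ)) * hA χ + 2 * (A χ : ℂ) * h2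
    have h3 := Finset.sum_congr (rfl : bset B = bset B) fun χ (_ : χ ∈ bset B) => h χ
    simp only [Finset.sum_add_distrib, hs1, hs5, hs15, hcr, ← Finset.mul_sum] at h3
    have h4 : ((∑ χ ∈ bset B, A χ ^ 2 : ℤ) : ℂ) = ((8 : ℤ) : ℂ) := by
      push_cast; linear_combination (-1 / 4 : ℂ) * h3
    exact_mod_cast h4
  -- parity on height zero
  rw [kZero, natCard_height_zero]
  have hodd : ∀ χ ∈ (bset B).filter (fun χ : IrrCharacter G => dv 2 (χ : G → ℂ) = minDv 2 B),
      1 ≤ A χ ^ 2 := by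
    intro χ hχ
    obtain ⟨hχB, hχ0⟩ := Finset.mem_filter.1 hχ
    have h := (secPair_res_ne hM hc1 ho1 hind (mem_bset.1 hχB) (mem_bset.1 hχB) hχ0 hχ0).2
    rw [secPair_eq_cval hM hf hrank, ← hd1e, hAA, res_add hM ((loc hM).pow_mem
      (memRing_intCast hM (A χ)) 2) (show MemLocalRing M ((2 : ℂ) * W χ) from
        (loc hM).mul_mem (by simpa using memRing_natCast hM 2)
          (memRing_of_isIntegral hM (hW χ)))] at h
    have h2 : res hM ((2 : ℂ) * W χ) = 0 := by
      haveI := res_charP hM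
      rw [show (2 : ℂ) = ((2 : ℕ) : ℂ) from by norm_num, res_mul hM (memRing_natCast hM 2)
        (memRing_of_isIntegral hM (hW χ)), res_natCast, CharP.cast_eq_zero, zero_mul]
    rw [h2, add_zero] at h
    have : A χ ≠ 0 := fun h0 => h (by rw [h0]; simp [res_zero])
    nlinarith [mul_self_pos.2 this]
  have h1 := Finset.sum_le_sum hodd
  have h2 : ∑ χ ∈ (bset B).filter (fun χ : IrrCharacter G => dv 2 (χ : G → ℂ) = minDv 2 B),
      A χ ^ 2 ≤ 8 :=
    hsA ▸ Finset.sum_le_sum_of_subset_of_nonneg (Finset.filter_subset _ _) fun χ _ _ => sq_nonneg _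
  rw [Finset.sum_const, nsmul_eq_mul, mul_one] at h1
  exact_mod_cast h1.trans h2

end CfsgLib.Blocks.OlssonFive
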