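import Cfsg.Agent.Lib.Blocks.OlssonFive.Quot
import Cfsg.Agent.Lib.Blocks.AbFree.Main
import Cfsg.Agent.Lib.Blocks.Star.Fixed

/-!
# Small inertial quotients of blocks with abelian defect group
-/

namespace CfsgLib.Blocks.OlssonFive

open Cfsg CfsgLib.CharTheory

set_option linter.unusedVariables false
set_option linter.unusedSimpArgs false
set_option linter.style.haveILetI false
set_option linter.unusedSectionVars false

universe u

/-- The inertial automiser of a pair. -/
noncomputable abbrev inert {G : Type u} [Group G] [Fintype G] (P : Subgroup G)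
    (c : Set (IrrCharacter (Subgroup.centralizer (P : Set G)))) : Subgroup (MulAut P) :=
  autInducedBy (pairStab P c) P

variable {p : ℕ} {M : Ideal AlgInt} {G : Type u} [Group G] [Fintype G]
  {B : Set (IrrCharacter G)} {P : Subgroup G}
  {c : Set (IrrCharacter (Subgroup.centralizer (P : Set G)))}

theorem finite_inert : Finite (inert P c) :=
  haveI : Finite (MulAut P) :=
    Finite.of_injective (fun a : MulAut P => (a : P → P)) fun a b h => MulEquiv.ext (congrFun h)
  inferInstance

theorem stab_le_normalizer : pairStab P c ≤ Subgroup.normalizer (P : Set G) :=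
  fun t ht => ((mem_pairStab t).1 ht).1

theorem stab_conj_mem {t y : G} (ht : t ∈ pairStab P c) (hy : y ∈ P) : t * y * t⁻¹ ∈ P :=
  (Subgroup.mem_normalizer_iff.1 (stab_le_normalizer ht) y).1 hy

theorem relIndex_eq_card :
    (Subgroup.centralizer (P : Set G)).relIndex (pairStab P c) = Nat.card (inert P c) :=
  card_autInducedBy_eq_index stab_le_normalizer

theorem cent_of_act_trivial {t : G} (h : ∀ y ∈ P, t * y * t⁻¹ = y) :
    t ∈ Subgroup.centralizer (P : Set G) :=
  Subgroup.mem_centralizer_iff.2 fun y hy => (mul_inv_eq_iff_eq_mul.1 (h y hy)).symm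

/-- An element of the stabilizer has a power prime to `p` in the centraliser. -/
theorem exists_pow_cent (hM : IsPModular p M) (hmax : IsMaximalBrauerPair p M B P c)
    (hab : ∀ x ∈ P, ∀ y ∈ P, x * y = y * x) {s : G} (hs : s ∈ pairStab P c) :
    ∃ m : ℕ, ¬ p ∣ m ∧ s ^ m ∈ Subgroup.centralizer (P : Set G) := by
  haveI : ((Subgroup.centralizer (P : Set G)).subgroupOf (pairStab P c)).Normal := by
    refine ⟨fun k hk x => Subgroup.mem_subgroupOf.2 ?_⟩
    exact (Subgroup.mem_normalizer_iff.1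
      (normalizer_le_normalizer_cent P (stab_le_normalizer x.2)) (k : G)).1
      (Subgroup.mem_subgroupOf.1 hk)
  refine ⟨((Subgroup.centralizer (P : Set G)).subgroupOf (pairStab P c)).index, ?_, ?_⟩
  · rw [show ((Subgroup.centralizer (P : Set G)).subgroupOf (pairStab P c)).index =
      Nat.card (inert P c) from card_autInducedBy_eq_index stab_le_normalizer]
    exact inertial_coprime hM hmax hab
  · have h := Subgroup.pow_index_mem
      ((Subgroup.centralizer (P : Set G)).subgroupOf (pairStab P c)) (⟨s, hs⟩ : pairStab P c)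
    exact Subgroup.mem_subgroupOf.1 h

/-- Fixed modulo a central subgroup means fixed. -/
theorem fix_of_fix_mod (hM : IsPModular p M) (hmax : IsMaximalBrauerPair p M B P c)
    (hab : ∀ x ∈ P, ∀ y ∈ P, x * y = y * x) {U : Subgroup G} [U.Normal]
    (hUc : U ≤ Subgroup.center G) (hUP : U ≤ P) {s y : G} (hs : s ∈ pairStab P c) (hy : y ∈ P)
    (h : ((s * y * s⁻¹ : G) : G ⧸ U) = (y : G ⧸ U)) : s * y * s⁻¹ = y := by
  obtain ⟨m, hm, hmc⟩ := exists_pow_cent hM hmax hab hs
  set z := y⁻¹ * (s * y * s⁻¹) with hz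
  have hzU : z ∈ U := QuotientGroup.eq.1 h.symm
  have hpow : ∀ k : ℕ, s ^ k * y * (s ^ k)⁻¹ = y * z ^ k := by
    intro k
    induction k with
    | zero => simp
    | succ k ih =>
      have hzs : s * z ^ k * s⁻¹ = z ^ k := by
        rw [Subgroup.mem_center_iff.1 (hUc (U.pow_mem hzU k)) s, mul_inv_cancel_right]
      calc s ^ (k + 1) * y * (s ^ (k + 1))⁻¹
          = s * (s ^ k * y * (s ^ k)⁻¹) * s⁻¹ := by rw [pow_succ']; group
        _ = (s * y * s⁻¹) * (s * z ^ k * s⁻¹) := by rw [ih]; group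
        _ = y * z * z ^ k := by rw [hzs, hz]; group
        _ = y * z ^ (k + 1) := by rw [mul_assoc, ← pow_succ']
  have h1 : z ^ m = 1 := by
    have h1 := hpow m
    rw [← Subgroup.mem_centralizer_iff.1 hmc y hy, mul_inv_cancel_right] at h1
    exact mul_eq_left.1 h1.symm
  have hz1 : z = 1 := by
    haveI : Fact p.Prime := ⟨hM.1⟩
    obtain ⟨k, hk⟩ := IsPGroup.iff_orderOf.1 hmax.1.1.1 ⟨z, hUP hzU⟩
    rw [← Subgroup.orderOf_coe] at hk
    refine orderOf_eq_one_iff.1 (Nat.eq_one_of_dvd_coprimes ?_ dvd_rfl (orderOf_dvd_of_pow_eq_one h1))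
    rw [show orderOf z = p ^ k from hk]
    exact (hM.1.coprime_iff_not_dvd.2 hm).pow_left k
  rw [hz, inv_mul_eq_one] at hz1
  exact hz1.symm

section quotient

variable {U : Subgroup G} [U.Normal] [Fintype (G ⧸ U)]
  {c' : Set (IrrCharacter (Subgroup.centralizer
      ((P.map (QuotientGroup.mk' U) : Subgroup (G ⧸ U)) : Set (G ⧸ U))))}

/-- The inertial automiser does not grow in the dominated block. -/
theorem card_inert_quot_le (hM : IsPModular p M) (hmax : IsMaximalBrauerPair p M B P c)
    (hUc : U ≤ Subgroup.center G) (hUP : U ≤ P)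
    (hc' : IsBrauerPairOf p M (quotBlock U B) (P.map (QuotientGroup.mk' U)) c') :
    Nat.card (inert (P.map (QuotientGroup.mk' U)) c') ≤ Nat.card (inert P c) := by
  classical
  haveI := finite_inert (P := P) (c := c)
  obtain ⟨n, hn, hstab⟩ := exists_quot_stab hM hmax hUc hUP hc'
  have key : ∀ β : inert (P.map (QuotientGroup.mk' U)) c', ∃ α : inert P c, ∀ y : P,
      (((β : MulAut _) ⟨QuotientGroup.mk' U (n * y * n⁻¹), Subgroup.mem_map_of_mem _
        ((Subgroup.mem_normalizer_iff.1 hn y).1 y.2)⟩ : P.map (QuotientGroup.mk' U)) : G ⧸ U) =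
        QuotientGroup.mk' U (n * (((α : MulAut P) y : P) : G) * n⁻¹) := by
    intro β
    obtain ⟨q, hq, -, hqact⟩ := mem_autInducedBy_iff.1 β.2
    obtain ⟨t, rfl⟩ := QuotientGroup.mk'_surjective U q
    obtain ⟨s, hs, hact⟩ := hstab t hq
    refine ⟨⟨autHom P (stab_le_normalizer (c := c)) ⟨s, hs⟩,
      mem_autInducedBy_iff.2 ⟨s, hs, stab_le_normalizer hs, fun x => rfl⟩⟩, fun y => ?_⟩
    rw [hqact, ← map_inv, ← map_mul, ← map_mul]
    exact hact y y.2
  choose α hα using key
  refine Nat.card_le_card_of_injective α fun β β' he => Subtype.ext (MulEquiv.ext fun q => ?_)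
  obtain ⟨_, w, hw, rfl⟩ := q
  have hy : n⁻¹ * w * n ∈ P := by
    have := (Subgroup.mem_normalizer_iff''.1 hn w).1 hw
    exact this
  refine Subtype.ext ?_
  have e : (⟨QuotientGroup.mk' U w, ⟨w, hw, rfl⟩⟩ : P.map (QuotientGroup.mk' U)) =
      ⟨QuotientGroup.mk' U (n * (⟨n⁻¹ * w * n, hy⟩ : P) * n⁻¹), Subgroup.mem_map_of_mem _
        ((Subgroup.mem_normalizer_iff.1 hn _).1 hy)⟩ := Subtype.ext (by
    show QuotientGroup.mk' U w = QuotientGroup.mk' U (n * (n⁻¹ * w * n) * n⁻¹)
    congr 1; group)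
  rw [e, hα β, hα β', he]

/-- The action in the dominated block is free when only elements of the subgroup are fixed. -/
theorem freeStab_quot (hM : IsPModular p M) (hmax : IsMaximalBrauerPair p M B P c)
    (hab : ∀ x ∈ P, ∀ y ∈ P, x * y = y * x)
    (hUc : U ≤ Subgroup.center G) (hUP : U ≤ P)
    (hc' : IsBrauerPairOf p M (quotBlock U B) (P.map (QuotientGroup.mk' U)) c')
    (hfix : ∀ s ∈ pairStab P c, ∀ y ∈ P, s * y * s⁻¹ = y →
      y ∈ U ∨ s ∈ Subgroup.centralizer (P : Set G)) :
    AbFree.FreeStab (P.map (QuotientGroup.mk' U)) c' := by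
  obtain ⟨n, hn, hstab⟩ := exists_quot_stab hM hmax hUc hUP hc'
  intro q hq x hx hx1 hqx
  obtain ⟨t, rfl⟩ := QuotientGroup.mk'_surjective U q
  obtain ⟨w, hw, rfl⟩ := hx
  obtain ⟨s, hs, hact⟩ := hstab t hq
  have hy : n⁻¹ * w * n ∈ P := (Subgroup.mem_normalizer_iff''.1 hn w).1 hw
  have h1 := hact _ hy
  rw [show n * (n⁻¹ * w * n) * n⁻¹ = w by group, QuotientGroup.mk_mul, QuotientGroup.mk_mul,
    QuotientGroup.mk_inv] at h1
  have h2 : ((s * (n⁻¹ * w * n) * s⁻¹ : G) : G ⧸ U) = ((n⁻¹ * w * n : G) : G ⧸ U) := by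
    have h3 : (w : G ⧸ U) = ((n * (s * (n⁻¹ * w * n) * s⁻¹) * n⁻¹ : G) : G ⧸ U) := by
      rw [← h1]; exact hqx.symm
    have h4 : ((n⁻¹ * w * n : G) : G ⧸ U) =
        ((n⁻¹ * (n * (s * (n⁻¹ * w * n) * s⁻¹) * n⁻¹) * n : G) : G ⧸ U) := by
      simp only [QuotientGroup.mk_mul, QuotientGroup.mk_inv] at h3 ⊢
      rw [← h3]
    rw [h4]
    congr 1
    group
  have h5 := fix_of_fix_mod hM hmax hab hUc hUP hs hy h2
  rcases hfix s hs _ hy h5 with h6 | h6
  · refine absurd ?_ hx1
    have h7 := (‹U.Normal›).conj_mem _ h6 n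
    rw [show n * (n⁻¹ * w * n) * n⁻¹ = w by group] at h7
    exact (QuotientGroup.eq_one_iff w).2 h7
  · refine cent_of_act_trivial ?_
    rintro _ ⟨v, hv, rfl⟩
    have hvn : n⁻¹ * v * n ∈ P := (Subgroup.mem_normalizer_iff''.1 hn v).1 hv
    have h8 := hact _ hvn
    rw [← map_inv, ← map_mul, ← map_mul]
    rw [show n * (n⁻¹ * v * n) * n⁻¹ = v by group,
      ← Subgroup.mem_centralizer_iff.1 h6 _ hvn, mul_inv_cancel_right,
      show n * (n⁻¹ * v * n) * n⁻¹ = v by group] at h8
    exact h8

end quotient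

theorem card_inert_dvd_three (hM : IsPModular 2 M) (hmax : IsMaximalBrauerPair 2 M B P c)
    (hab : ∀ x ∈ P, ∀ y ∈ P, x * y = y * x) {U : Subgroup G} [U.Normal]
    (hUc : U ≤ Subgroup.center G) (hUP : U ≤ P) (hcard : Nat.card P ≤ 4 * Nat.card U) :
    Nat.card (inert P c) ∣ 3 := by
  classical
  haveI := finite_inert (P := P) (c := c)
  set U' := U.subgroupOf P with hU'
  have hfixU : ∀ α ∈ inert P c, ∀ y : P, y ∈ U' → α y = y := by
    intro α hα y hy
    obtain ⟨s, hs, -, hsact⟩ := mem_autInducedBy_iff.1 hα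
    refine Subtype.ext ?_
    rw [hsact, Subgroup.mem_center_iff.1 (hUc (Subgroup.mem_subgroupOf.1 hy)) s,
      mul_inv_cancel_right]
  have hmapU : ∀ α : inert P c, U'.map ((α : MulAut P) : P →* P) = U' := by
    intro α
    ext y
    constructor
    · rintro ⟨z, hz, rfl⟩
      show (α : MulAut P) z ∈ U'
      rw [hfixU α α.2 z hz]; exact hz
    · exact fun hy => ⟨y, hy, hfixU α α.2 y hy⟩
  let ψ : inert P c →* MulAut (P ⧸ U') :=
    { toFun := fun α => QuotientGroup.congr U' U' (α : MulAut P) (hmapU α)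
      map_one' := by
        refine MulEquiv.ext fun q => ?_
        obtain ⟨y, rfl⟩ := QuotientGroup.mk_surjective q
        rfl
      map_mul' := fun α β => by
        refine MulEquiv.ext fun q => ?_
        obtain ⟨y, rfl⟩ := QuotientGroup.mk_surjective q
        rfl }
  let φ : inert P c →* Equiv.Perm {q : P ⧸ U' // q ≠ 1} :=
    { toFun := fun α => (ψ α).toEquiv.subtypeEquiv fun q => by
        simp [EmbeddingLike.map_eq_one_iff]
      map_one' := Equiv.ext fun q => Subtype.ext (by simp [map_one])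
      map_mul' := fun α β => Equiv.ext fun q => Subtype.ext (by simp [map_mul]) }
  have hinj : Function.Injective φ := by
    refine (injective_iff_map_eq_one φ).2 fun α hα => Subtype.ext (MulEquiv.ext fun y => ?_)
    obtain ⟨s, hs, -, hsact⟩ := mem_autInducedBy_iff.1 α.2
    refine Subtype.ext ?_
    show (((α : MulAut P) y : P) : G) = y
    rw [hsact]
    refine fix_of_fix_mod hM hmax hab hUc hUP hs y.2 ?_
    have h1 : ψ α (y : P ⧸ U') = (y : P ⧸ U') := by
      by_cases hy : (y : P ⧸ U') = 1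
      · rw [hy, map_one]
      · exact congrArg Subtype.val (Equiv.Perm.ext_iff.1 hα ⟨_, hy⟩)
    have h2 : (((α : MulAut P) y : P) : P ⧸ U') = (y : P ⧸ U') := h1
    rw [QuotientGroup.eq, Subgroup.mem_subgroupOf] at h2
    rw [QuotientGroup.eq, ← hsact]
    simpa using h2
  have hQ : Nat.card (P ⧸ U') ≤ 4 := by
    have h1 := Subgroup.card_eq_card_quotient_mul_card_subgroup U'
    rw [Nat.card_congr (Subgroup.subgroupOfEquivOfLe hUP).toEquiv] at h1
    have h2 : 0 < Nat.card U := Nat.card_pos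
    exact Nat.le_of_mul_le_mul_right (by rw [← h1]; linarith) h2
  haveI : Fintype (P ⧸ U') := Fintype.ofFinite _
  have hX : Nat.card {q : P ⧸ U' // q ≠ 1} ≤ 3 := by
    rw [Nat.card_eq_fintype_card, Fintype.card_subtype_compl, Fintype.card_subtype_eq,
      ← Nat.card_eq_fintype_card]
    omega
  have hdvd : Nat.card (inert P c) ∣ 6 := by
    refine (Subgroup.card_dvd_of_injective φ hinj).trans ?_
    rw [Nat.card_eq_fintype_card, Fintype.card_perm, ← Nat.card_eq_fintype_card]
    exact Nat.factorial_dvd_factorial hX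
  have h2 := inertial_coprime hM hmax hab
  exact (Nat.Coprime.dvd_of_dvd_mul_left
    ((Nat.prime_two.coprime_iff_not_dvd.2 h2).symm) (show _ ∣ 2 * 3 from hdvd))

/-- The inertial automiser of the pair in a centraliser is not larger. -/
theorem card_inert_down_le {Q : Subgroup G} [Fintype (Subgroup.centralizer (Q : Set G))]
    {a : BrauerPairIdx (Subgroup.centralizer (Q : Set G))}
    {ha : Subgroup.centralizer ((a.1.map (Subgroup.centralizer (Q : Set G)).subtype :
          Subgroup G) : Set G) ≤ Subgroup.centralizer (Q : Set G)}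
    (hup : upIdx a ha = ⟨P, c⟩) (hab : ∀ x ∈ P, ∀ y ∈ P, x * y = y * x) :
    Nat.card (inert a.1 a.2) ≤ Nat.card (inert P c) := by
  obtain ⟨-, -, hst, hcent⟩ := local_abelian_props hup hab
  rw [← relIndex_eq_card, ← relIndex_eq_card]
  have e : Subgroup.centralizer (a.1 : Set (Subgroup.centralizer (Q : Set G))) =
      (Subgroup.centralizer (P : Set G)).comap (Subgroup.centralizer (Q : Set G)).subtype :=
    Subgroup.ext fun y => (hcent y).symm
  rw [e, Subgroup.relIndex_comap]
  refine Subgroup.relIndex_le_of_le_right ?_ ?_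
  · rintro _ ⟨y, hy, rfl⟩
    exact hst y hy
  · rw [relIndex_eq_card]
    haveI := finite_inert (P := P) (c := c)
    exact Nat.card_pos.ne'

/-- The regular rank is at most that of the dominated block. -/
theorem blockRank_le_quot_rank (hM : IsPModular p M) (hmax : IsMaximalBrauerPair p M B P c)
    (hab : ∀ x ∈ P, ∀ y ∈ P, x * y = y * x) {U : Subgroup G} [U.Normal] [Fintype (G ⧸ U)]
    (hUc : U ≤ Subgroup.center G) (hUP : U ≤ P) :
    blockRank p B ≤ blockRank p (quotBlock U B) := by
  classical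
  let L : ((G ⧸ U) → ℂ) →ₗ[ℂ] (G → ℂ) :=
    { toFun := fun F g => if IsPRegular p g then F (g : G ⧸ U) else 0
      map_add' := fun F F' => funext fun g => by
        simp only [Pi.add_apply]; split_ifs <;> simp
      map_smul' := fun a F => funext fun g => by
        simp only [Pi.smul_apply, RingHom.id_apply]; split_ifs <;> simp }
  rw [blockRank, blockRank]
  refine le_trans (Submodule.finrank_mono (t := (Submodule.span ℂ
    ((fun ψ : IrrCharacter (G ⧸ U) => pRegularPart p (ψ : G ⧸ U → ℂ)) '' quotBlock U B)).map L) ?_)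
    (Submodule.finrank_map_le L _)
  rw [Submodule.span_le]
  rintro _ ⟨χ, hχ, rfl⟩
  obtain ⟨ψ, hψ, hreg⟩ := exists_quot_regular hM hmax hab hUc hUP hχ
  refine ⟨_, Submodule.subset_span ⟨ψ, hψ, rfl⟩, funext fun g => ?_⟩
  show (if IsPRegular p g then pRegularPart p (ψ : G ⧸ U → ℂ) (g : G ⧸ U) else 0) =
    pRegularPart p (χ : G → ℂ) g
  by_cases h1 : IsPRegular p g
  · have h2 : IsPRegular p (g : G ⧸ U) := mk_regular h1
    simp only [pRegularPart, if_pos h1, if_pos h2]
    exact (hreg g h1).symm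
  · simp only [pRegularPart, if_neg h1]

theorem card_map_mul {U : Subgroup G} [U.Normal] (hUP : U ≤ P) :
    Nat.card (P.map (QuotientGroup.mk' U)) * Nat.card U = Nat.card P := by
  rw [mul_comm]
  have h3 := Subgroup.card_mul_index (U.subgroupOf P)
  rw [Nat.card_congr (Subgroup.subgroupOfEquivOfLe hUP).toEquiv] at h3
  rw [← h3]
  congr 1
  have h4 := Subgroup.relIndex_ker (f := QuotientGroup.mk' U) (K := P)
  rw [QuotientGroup.ker_mk'] at h4
  exact h4.symm

theorem map_comm (hab : ∀ x ∈ P, ∀ y ∈ P, x * y = y * x) {U : Subgroup G} [U.Normal] :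
    ∀ a ∈ P.map (QuotientGroup.mk' U), ∀ b ∈ P.map (QuotientGroup.mk' U), a * b = b * a := by
  rintro _ ⟨a, ha, rfl⟩ _ ⟨b, hb, rfl⟩
  rw [← map_mul, ← map_mul, hab a ha b hb]

theorem rank_le_three_aux : ∀ (n : ℕ) (G : Type u) [Group G] [Fintype G] (M : Ideal AlgInt),
    IsPModular 2 M → ∀ (B : Set (IrrCharacter G)) (P : Subgroup G)
      (c : Set (IrrCharacter (Subgroup.centralizer (P : Set G)))),
      Nat.card P ≤ n → IsMaximalBrauerPair 2 M B P c → (∀ x ∈ P, ∀ y ∈ P, x * y = y * x) →
      Nat.card (inert P c) ≤ 3 → blockRank 2 B ≤ 3 := by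
  intro n
  induction n using Nat.strong_induction_on with
  | _ n ih =>
    intro G _ _ M hM B P c hn hmax hab he
    classical
    haveI : Fact (Nat.Prime 2) := ⟨Nat.prime_two⟩
    haveI := finite_inert (P := P) (c := c)
    by_cases htriv : pairStab P c ≤ Subgroup.centralizer (P : Set G)
    · rw [(rank_one_of_abelian_triv hM hmax hab htriv).1]; norm_num
    by_cases hfree : AbFree.FreeStab P c
    · have hP1 : P ≠ ⊥ := by
        rintro rfl
        exact htriv fun t _ => cent_of_act_trivial fun y hy => by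
          rw [Subgroup.mem_bot.1 hy]; simp
      obtain ⟨a, ha⟩ := AbFree.abData_of_free hM hmax hab hfree
      exact ((AbFree.counts ha hfree hP1).2.1.trans relIndex_eq_card.le).trans he
    simp only [AbFree.FreeStab] at hfree
    push Not at hfree
    obtain ⟨s, hs, v, hv, hv1, hsv, hsC⟩ := hfree
    let α : inert P c := ⟨autHom P (stab_le_normalizer (c := c)) ⟨s, hs⟩,
      mem_autInducedBy_iff.2 ⟨s, hs, stab_le_normalizer hs, fun x => rfl⟩⟩
    have hα : α ≠ 1 := fun h => hsC (cent_of_act_trivial fun y hy => by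
      have h1 := congrArg (fun β : inert P c => ((((β : MulAut P) ⟨y, hy⟩ : P)) : G)) h
      exact h1)
    have h3 : Nat.card (inert P c) = 3 := by
      have h2 := inertial_coprime hM hmax hab
      have h1 : 1 < Nat.card (inert P c) := Finite.one_lt_card_iff_nontrivial.2 ⟨α, 1, hα⟩
      rcases (show Nat.card (inert P c) = 2 ∨ Nat.card (inert P c) = 3 by omega) with h | h
      · exact absurd (dvd_of_eq h.symm) h2
      · exact h
    haveI : Fact (Nat.Prime 3) := ⟨Nat.prime_three⟩
    have hfixv : ∀ t ∈ pairStab P c, t * v * t⁻¹ = v := by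
      let S : Subgroup (inert P c) :=
        { carrier := {β | (β : MulAut P) ⟨v, hv⟩ = ⟨v, hv⟩}
          mul_mem' := fun {a b} ha hb => by
            show (a : MulAut P) ((b : MulAut P) ⟨v, hv⟩) = _
            rw [hb, ha]
          one_mem' := rfl
          inv_mem' := fun {a} ha => by
            show ((a : MulAut P))⁻¹ ⟨v, hv⟩ = _
            conv_lhs => rw [← ha]
            exact MulEquiv.symm_apply_apply _ _ }
      have hS : S = ⊤ := by
        haveI : Fact (Nat.card (inert P c)).Prime := ⟨h3 ▸ Nat.prime_three⟩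
        rcases S.eq_bot_or_eq_top_of_prime_card with h | h
        · exact absurd (Subgroup.mem_bot.1 (h ▸ (show α ∈ S from Subtype.ext hsv))) hα
        · exact h
      intro t ht
      have hmem : (⟨autHom P (stab_le_normalizer (c := c)) ⟨t, ht⟩,
        mem_autInducedBy_iff.2 ⟨t, ht, stab_le_normalizer ht, fun x => rfl⟩⟩ : inert P c) ∈ S :=
        hS ▸ Subgroup.mem_top _
      exact congrArg Subtype.val hmem
    have hQP : Subgroup.zpowers v ≤ P := Subgroup.zpowers_le.2 hv
    rw [(watanabe_fixed hM hmax hab hv hfixv).1]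
    haveI := Fintype.ofFinite (Subgroup.centralizer ((Subgroup.zpowers v : Subgroup G) : Set G))
    obtain ⟨f, hstep, hind, hdef, a, ha, hup, hmax'⟩ := exists_local_abelian hM hmax hab hQP
    obtain ⟨hcard', hab', -, -⟩ := local_abelian_props hup hab
    have e : (⟨Subgroup.zpowers v, (subIdx 2 M ⟨P, c⟩ (Subgroup.zpowers v)).2⟩ : BrauerPairIdx G) =
        ⟨Subgroup.zpowers v, f⟩ :=
      subIdx_unique hM (a := (⟨P, c⟩ : BrauerPairIdx G)) (b := ⟨Subgroup.zpowers v, f⟩)
        hmax.1.1.1 hmax.1.1.2 (Relation.ReflTransGen.single hstep)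
    rw [eq_of_heq (Sigma.mk.inj_iff.1 e).2]
    obtain ⟨U, hU⟩ : ∃ U, U = (Subgroup.zpowers v).subgroupOf
        (Subgroup.centralizer ((Subgroup.zpowers v : Subgroup G) : Set G)) := ⟨_, rfl⟩
    have hUc : U ≤ Subgroup.center _ := fun q hq => Subgroup.mem_center_iff.2 fun g =>
      Subtype.ext (g.2 (q : G) (Subgroup.mem_subgroupOf.1 (hU ▸ hq))).symm
    haveI : U.Normal := normal_of_central hUc
    haveI := Fintype.ofFinite (_ ⧸ U)
    have hUP : U ≤ a.1 := hU ▸ subgroupOf_le_down hup hQP
    obtain ⟨c'', hc''⟩ := exists_maximal_at hM (quotBlock_isPBlock hM hmax' hab' hUc hUP)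
      (quot_defectGroup hM hmax' hUc hUP)
    refine (blockRank_le_quot_rank hM hmax' hab' hUc hUP).trans ?_
    have hlt : Nat.card (a.1.map (QuotientGroup.mk' U)) < n := by
      refine lt_of_lt_of_le ?_ (hcard'.le.trans hn)
      rw [← card_map_mul hUP]
      refine lt_mul_of_one_lt_right Nat.card_pos ?_
      rw [hU, Nat.card_congr (Subgroup.subgroupOfEquivOfLe (fun q hq => ?_)).toEquiv,
        Nat.card_zpowers]
      · have h1 := orderOf_pos v
        have h2 : orderOf v ≠ 1 := fun h => hv1 (orderOf_eq_one_iff.1 h)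
        omega
      · exact fun q' hq' => hab q' (hQP hq') q (hQP hq)
    exact ih _ hlt _ M hM _ _ c'' le_rfl hc'' (map_comm hab')
      ((card_inert_quot_le hM hmax' hUc hUP hc''.1).trans ((card_inert_down_le hup hab).trans he))

/-- Abelian defect group and inertial index at most three. -/
theorem rank_le_three (hM : IsPModular 2 M) (hmax : IsMaximalBrauerPair 2 M B P c)
    (hab : ∀ x ∈ P, ∀ y ∈ P, x * y = y * x) (he : Nat.card (inert P c) ≤ 3) :
    blockRank 2 B ≤ 3 :=
  rank_le_three_aux _ G M hM B P c le_rfl hmax hab he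

end CfsgLib.Blocks.OlssonFive
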