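import Cfsg.Agent.Lib.Blocks.AbFree.Main
import Cfsg.Agent.Lib.Blocks.Rank
import Cfsg.Agent.Lib.Blocks.OlssonFive.Inert

/-!
# A free action of a group of order five on an elementary group of order sixteen

The projection matrix of the block is sixteen times the identity minus three integral columns, whose
parities agree.
-/

namespace CfsgLib.Blocks.OlssonFive

open Cfsg CfsgLib.CharTheory
open scoped ComplexConjugate

set_option linter.unusedVariables false
set_option linter.unusedSimpArgs false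
set_option linter.style.haveILetI false
set_option linter.unusedSectionVars false

universe u

variable {p : ℕ} {M : Ideal AlgInt} {G : Type u} [Group G] [Fintype G]
  {B : Set (IrrCharacter G)} {P : Subgroup G}
  {c : Set (IrrCharacter (Subgroup.centralizer (P : Set G)))} {a : ℕ}

/-- The number of characters and of Brauer characters. -/
theorem card_eq_rank_add (h : AbData p M B P c a) (hfree : AbFree.FreeStab P c) :
    Nat.card B * (Subgroup.centralizer (P : Set G)).relIndex (pairStab P c) =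
      blockRank p B * (Subgroup.centralizer (P : Set G)).relIndex (pairStab P c) +
        (Nat.card P - 1) := by
  classical
  have hM := h.mod
  haveI : Fact p.Prime := ⟨hM.1⟩
  haveI := res_charP hM
  haveI := res_isDomain hM
  haveI : ∀ Q : Subgroup G, Fintype (Subgroup.centralizer (Q : Set G)) :=
    fun Q => Fintype.ofFinite _
  set e := (Subgroup.centralizer (P : Set G)).relIndex (pairStab P c) with he
  letI : CommGroup P :=
    { (inferInstance : Group P) with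
      mul_comm := fun x y => Subtype.ext (h.comm x x.2 y y.2) }
  have hA : IsPGroup p P := h.isP
  -- the automorphisms
  have hTN : (pairStab P c) ≤ Subgroup.normalizer (P : Set G) := fun t ht => ((mem_pairStab t).1 ht).1
  set ρ := autHom P hTN with hρ
  set E : Subgroup (MulAut P) := ρ.range with hE
  haveI : Fintype E := Fintype.ofFinite _
  have hEauto : E = autInducedBy (pairStab P c) P := by
    ext α
    rw [mem_autInducedBy_iff]
    constructor
    · rintro ⟨t, rfl⟩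
      exact ⟨t, t.2, hTN t.2, fun x => rfl⟩
    · rintro ⟨g, hg, -, hga⟩
      exact ⟨⟨g, hg⟩, MulEquiv.ext fun x => Subtype.ext (hga x).symm⟩
  have hcop : ¬ p ∣ Nat.card E := by rw [hEauto]; exact inertial_coprime hM h.max h.comm
  have hker : ρ.ker = (Subgroup.centralizer (P : Set G)).subgroupOf (pairStab P c) := by
    ext t
    rw [MonoidHom.mem_ker, Subgroup.mem_subgroupOf]
    constructor
    · intro ht x hx
      have := congrArg (fun α : MulAut P => ((α ⟨x, hx⟩ : P) : G)) ht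
      exact (mul_inv_eq_iff_eq_mul.1 this).symm
    · intro ht
      refine MulEquiv.ext fun x => Subtype.ext ?_
      show (t : G) * x * (t : G)⁻¹ = x
      rw [← ht x x.2, mul_inv_cancel_right]
  have hcardE : Nat.card E = e := by
    rw [hE, ← Subgroup.index_ker, hker]; rfl
  have hEfree : ∀ β ∈ E, ∀ v : P, β v = v → v ≠ 1 → β = 1 := by
    rintro β ⟨t, rfl⟩ v hv hv1
    have : t ∈ ρ.ker := by
      rw [hker, Subgroup.mem_subgroupOf]
      exact hfree _ t.2 v v.2 (fun e' => hv1 (Subtype.ext e')) (congrArg Subtype.val hv)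
    exact this
  -- the count
  have hkl : Nat.card B * e = blockRank p B * e + (Nat.card P - 1) := by
    haveI := Fintype.ofFinite (pairStab P c)
    have h1 := sum_sRk hM h.max h.comm
    have hone : sRk p M P c ((1 : P) : G) = Nat.card (pairStab P c) * blockRank p B := by
      have htop : Subgroup.centralizer ((Subgroup.zpowers (1 : G) : Subgroup G) : Set G) = ⊤ := by
        refine eq_top_iff.2 fun g _ => (isCentr_zpowers (1 : G) g).2 (Commute.one_right g)
      rw [sRk, Subgroup.coe_one, subRk_central hM h.max (Subgroup.zpowers_le.2 P.one_mem) htop,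
        htop, inf_top_eq]
    have hoth : ∀ v : P, v ≠ 1 → sRk p M P c (v : G) = Nat.card (Subgroup.centralizer (P : Set G)) := by
      intro v hv
      have hv1 : (v : G) ≠ 1 := fun e' => hv (Subtype.ext e')
      have hQ : Subgroup.zpowers (v : G) ≤ P := h.zpowers_le v.2
      obtain ⟨h2, h3⟩ := subIdx_spec hM (a := (⟨P, c⟩ : BrauerPairIdx G)) h.isP h.isBlockC hQ
      have h4 : subIdx p M (⟨P, c⟩ : BrauerPairIdx G) (Subgroup.zpowers (v : G)) =
          belowIdx p M P c (Subgroup.zpowers (v : G)) := h.below_eq h2 h3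
      have h5 : subRk p M P c (Subgroup.zpowers (v : G)) = 1 := by
        rw [subRk, idxRank, h4]; exact h.rankOne v v.2 hv1
      have h6 : pairStab P c ⊓ Subgroup.centralizer
          ((Subgroup.zpowers (v : G) : Subgroup G) : Set G) = (Subgroup.centralizer (P : Set G)) := by
        refine le_antisymm (fun t ht => hfree t ht.1 v v.2 hv1 ?_)
          (le_inf (cent_le_pairStab P c) (Subgroup.centralizer_le hQ))
        exact mul_inv_eq_iff_eq_mul.2 ((isCentr_zpowers (v : G) t).1 ht.2)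
      rw [sRk, h5, mul_one, h6]
    rw [← Finset.add_sum_erase _ _ (Finset.mem_univ (1 : P)), hone,
      Finset.sum_congr rfl fun v hv => hoth v (Finset.ne_of_mem_erase hv), Finset.sum_const,
      Finset.card_erase_of_mem (Finset.mem_univ _), Finset.card_univ, smul_eq_mul,
      ← Nat.card_eq_fintype_card] at h1
    have h2 : Nat.card (pairStab P c) = Nat.card (Subgroup.centralizer (P : Set G)) * e := by
      rw [he, Subgroup.relIndex, ← Subgroup.card_mul_index ((Subgroup.centralizer (P : Set G)).subgroupOf (pairStab P c)),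
        Nat.card_congr (Subgroup.subgroupOfEquivOfLe (cent_le_pairStab P c)).toEquiv]
    change Nat.card (pairStab P c) * Nat.card B = _ at h1
    rw [h2] at h1
    refine Nat.eq_of_mul_eq_mul_left (Nat.card_pos (α := (Subgroup.centralizer (P : Set G)))) ?_
    linarith
  exact hkl

/-- The value on the subsection of an involution is an integer. -/
theorem exists_int_dsec (h : AbData 2 M B P c a) {v : G} (hv : v ∈ P) (hv1 : v ≠ 1)
    (hv2 : v * v = 1) (χ : IrrCharacter G) :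
    ∃ z : ℤ, dsec 2 M P c v (χ : G → ℂ) = (z : ℂ) := by
  classical
  haveI : ∀ Q : Subgroup G, Fintype (Subgroup.centralizer (Q : Set G)) :=
    fun Q => Fintype.ofFinite _
  haveI : Fact (Nat.Prime 2) := ⟨Nat.prime_two⟩
  have hord : orderOf v = 2 ^ 1 := by
    rw [pow_one]; exact orderOf_eq_prime (by rw [pow_two, hv2]) hv1
  obtain ⟨φ, d, n, hf, -, -, -, hdeg, -⟩ :=
    single_block h.mod (h.below_spec (h.zpowers_le hv)).1 (h.rankOne v hv hv1)
  have key : ∀ θ : IrrCharacter (Subgroup.centralizer ((Subgroup.zpowers v : Subgroup G) : Set G)),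
      ∃ z : ℤ, classInner (sec v _ (χ : G → ℂ))
        (θ : Subgroup.centralizer ((Subgroup.zpowers v : Subgroup G) : Set G) → ℂ) = (z : ℂ) := by
    intro θ
    obtain ⟨k, ω, -, hω, he⟩ := sec_coeff h.mod (isCentr_zpowers v) hord χ θ
    rw [pow_one, pow_two, mul_self_eq_one_iff] at hω
    rcases hω with rfl | rfl
    · exact ⟨k, by rw [he]; simp⟩
    · exact ⟨-k, by rw [he]; simp⟩
  choose z hz using key
  refine ⟨∑ θ ∈ bset (belowIdx 2 M P c (Subgroup.zpowers v)).2, z θ * (d θ : ℤ), ?_⟩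
  show cval v ⟨Subgroup.zpowers v, (belowIdx 2 M P c (Subgroup.zpowers v)).2⟩ (χ : G → ℂ) = _
  rw [cval_eq_sum h.mod (φ := 0) hf hdeg]
  push_cast
  exact Finset.sum_congr rfl fun θ _ => congrArg (· * _) (hz θ)

/-- The parity of the value does not depend on the involution. -/
theorem dsec_parity (h : AbData 2 M B P c a) (hfree : AbFree.FreeStab P c) {v w : G} (hv : v ∈ P)
    (hv1 : v ≠ 1) (hw : w ∈ P) (hw1 : w ≠ 1) (χ : IrrCharacter G) {x y : ℤ}
    (hx : dsec 2 M P c v (χ : G → ℂ) = (x : ℂ)) (hy : dsec 2 M P c w (χ : G → ℂ) = (y : ℂ)) :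
    (2 : ℤ) ∣ x - y := by
  classical
  letI : CommGroup P :=
    { (inferInstance : Group P) with
      mul_comm := fun a b => Subtype.ext (h.comm a a.2 b b.2) }
  have hM := h.mod
  obtain ⟨s, hs1, -, hsK⟩ :=
    AbFree.exists_signed h hfree (θ := P.subtype) Subtype.coe_injective P.range_subtype
  obtain ⟨K, hKA, hKv⟩ := hsK χ
  haveI := res_charP hM
  have key : ∀ (u : G) (hu : u ∈ P), u ≠ 1 → ∀ z : ℤ, dsec 2 M P c u (χ : G → ℂ) = (z : ℂ) →
      (z : AlgInt ⧸ M) = res hM (K 1) := by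
    intro u hu hu1 z hz
    have hne : (⟨u, hu⟩ : P) ≠ 1 := fun e => hu1 (congrArg Subtype.val e)
    obtain ⟨-, hr⟩ := hKA.mem_loc_of h.isP (⟨u, hu⟩ : P)
    rw [← hr, hKv _ hne]
    show (z : AlgInt ⧸ M) = res hM ((s _ : ℂ) * dsec 2 M P c u (χ : G → ℂ))
    rw [hz, ← Int.cast_mul, res_intCast']
    have h2 : (2 : AlgInt ⧸ M) = 0 := by exact_mod_cast CharP.cast_eq_zero (AlgInt ⧸ M) 2
    rcases hs1 _ hne with e | e <;> rw [e] <;> push_cast
    · rw [one_mul]
    · linear_combination (z : AlgInt ⧸ M) * h2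
  rw [show (2 : ℤ) = ((2 : ℕ) : ℤ) from rfl, ← CharP.intCast_eq_zero_iff (AlgInt ⧸ M) 2,
    Int.cast_sub, key v hv hv1 x hx, key w hw hw1 y hy, sub_self]

/-- Sums of squares of the regular pairing. -/
theorem sum_regS_regS (hM : IsPModular p M) (hB : IsPBlock M B) {χ ψ : IrrCharacter G}
    (hχ : χ ∈ B) : ∑ φ ∈ bset B, regS p (χ : G → ℂ) (φ : G → ℂ) * regS p (φ : G → ℂ) (ψ : G → ℂ) =
      (Nat.card G : ℂ) * regS p (χ : G → ℂ) (ψ : G → ℂ) := by
  classical
  simp only [regS, Finset.mul_sum]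
  rw [Finset.sum_comm]
  refine Finset.sum_congr rfl fun g _ => ?_
  have h := sum_regS_mul hM hB χ g
  by_cases hg : p ∣ orderOf g
  · simp [regFn, hg]
  · rw [if_neg hg, ind_of_mem hχ, one_mul] at h
    rw [Finset.sum_congr rfl fun (φ : IrrCharacter G) _ => show (∑ y, regFn p (φ : G → ℂ) y * (χ : G → ℂ) y) *
        (regFn p (ψ : G → ℂ) g * (φ : G → ℂ) g) =
        regFn p (ψ : G → ℂ) g * (regS p (χ : G → ℂ) (φ : G → ℂ) * (φ : G → ℂ) g) by
      rw [regS]; ring, ← Finset.mul_sum, h]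
    ring

/-- The value columns are orthogonal to the regular pairing. -/
theorem sum_regS_dsec (h : AbData p M B P c a) {v : G} (hv : v ∈ P) (hv1 : v ≠ 1)
    (ψ : IrrCharacter G) :
    ∑ φ ∈ bset B, regS p (φ : G → ℂ) (ψ : G → ℂ) * dsec p M P c v (φ : G → ℂ) = 0 := by
  classical
  simp only [regS, Finset.sum_mul]
  rw [Finset.sum_comm]
  refine Finset.sum_eq_zero fun g _ => ?_
  by_cases hg : p ∣ orderOf g
  · simp [regFn, hg]
  · rw [Finset.sum_congr rfl fun (φ : IrrCharacter G) _ => show regFn p (ψ : G → ℂ) g * (φ : G → ℂ) g *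
        dsec p M P c v (φ : G → ℂ) =
        regFn p (ψ : G → ℂ) g * (dsec p M P c v (φ : G → ℂ) * (φ : G → ℂ) g) by ring,
      ← Finset.mul_sum, h.dsec_regular hv hv1 hg, mul_zero]

theorem exists_notMem {α : Type*} [Fintype α] {S : Finset α} (h : S.card < Fintype.card α) :
    ∃ x, x ∉ S := by
  obtain ⟨x, -, hx⟩ := Finset.exists_mem_notMem_of_card_lt_card (show S.card < Finset.univ.card from h)
  exact ⟨x, hx⟩

/-- Three orbits of a group of order five on fifteen points. -/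
theorem exists_three (hP : Nat.card P = 16)
    (he : Nat.card (inert P c) ≤ 5) :
    ∃ v : Fin 3 → G, (∀ j, v j ∈ P ∧ v j ≠ 1) ∧
      ∀ i j, i ≠ j → ¬ ∃ t ∈ pairStab P c, t * v i * t⁻¹ = v j := by
  classical
  haveI := finite_inert (P := P) (c := c)
  haveI := Fintype.ofFinite (inert P c)
  haveI := Fintype.ofFinite P
  let O : P → Finset P := fun x => Finset.univ.image fun β : inert P c => (β : MulAut P) x
  have hO : ∀ x, (O x).card ≤ 5 := fun x => Finset.card_image_le.trans (by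
    rw [Finset.card_univ, ← Nat.card_eq_fintype_card]; exact he)
  have hrel : ∀ x y : P, (∃ t ∈ pairStab P c, t * (x : G) * t⁻¹ = y) → y ∈ O x := by
    rintro x y ⟨t, ht, e⟩
    exact Finset.mem_image.2 ⟨⟨autHom P (stab_le_normalizer (c := c)) ⟨t, ht⟩,
      mem_autInducedBy_iff.2 ⟨t, ht, stab_le_normalizer ht, fun x => rfl⟩⟩, Finset.mem_univ _,
      Subtype.ext e⟩
  have hsym : ∀ x y : G, (∃ t ∈ pairStab P c, t * x * t⁻¹ = y) →
      ∃ t ∈ pairStab P c, t * y * t⁻¹ = x := by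
    rintro x y ⟨t, ht, rfl⟩
    exact ⟨t⁻¹, inv_mem ht, by group⟩
  have hc16 : Fintype.card P = 16 := by rw [← Nat.card_eq_fintype_card, hP]
  obtain ⟨x₁, hx₁⟩ : ∃ x, x ∉ ({1} : Finset P) := exists_notMem (by simp [hc16])
  obtain ⟨x₂, hx₂⟩ : ∃ x, x ∉ insert 1 (O x₁) := exists_notMem (by
    have := Finset.card_insert_le 1 (O x₁); have := hO x₁; omega)
  obtain ⟨x₃, hx₃⟩ : ∃ x, x ∉ insert 1 (O x₁ ∪ O x₂) := exists_notMem (by
    have := Finset.card_insert_le 1 (O x₁ ∪ O x₂); have := Finset.card_union_le (O x₁) (O x₂)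
    have := hO x₁; have := hO x₂; omega)
  simp only [Finset.mem_singleton] at hx₁
  simp only [Finset.mem_insert, Finset.mem_union, not_or] at hx₂ hx₃
  refine ⟨![(x₁ : G), x₂, x₃], fun j => ?_, fun i j hij => ?_⟩
  · fin_cases j
    · exact ⟨x₁.2, fun e => hx₁ (Subtype.ext e)⟩
    · exact ⟨x₂.2, fun e => hx₂.1 (Subtype.ext e)⟩
    · exact ⟨x₃.2, fun e => hx₃.1 (Subtype.ext e)⟩
  · fin_cases i <;> fin_cases j <;> simp at hij ⊢ <;> intro t ht e
    · exact hx₂.2 (hrel _ _ ⟨t, ht, e⟩)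
    · exact hx₃.2.1 (hrel _ _ ⟨t, ht, e⟩)
    · exact hx₂.2 (hrel _ _ (hsym _ _ ⟨t, ht, e⟩))
    · exact hx₃.2.2 (hrel _ _ ⟨t, ht, e⟩)
    · exact hx₃.2.1 (hrel _ _ (hsym _ _ ⟨t, ht, e⟩))
    · exact hx₃.2.2 (hrel _ _ (hsym _ _ ⟨t, ht, e⟩))

/-- The projection matrix of the block. -/
theorem five_columns (h : AbData 2 M B P c 4) (hfree : AbFree.FreeStab P c)
    (hexp : ∀ x ∈ P, x * x = 1) (he : Nat.card (inert P c) = 5) :
    ∃ t : Fin 3 → IrrCharacter G → ℤ, (∀ j χ, (2 : ℤ) ∣ t j χ - t 0 χ) ∧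
      ∀ ψ ∈ B, ∀ φ ∈ B, ∀ q : ℤ,
        (16 : ℂ) * regS 2 (ψ : G → ℂ) (φ : G → ℂ) = (Nat.card G : ℂ) * (q : ℂ) →
        (16 : ℤ) ∣ q + ∑ j, t j ψ * t j φ := by
  classical
  have hM := h.mod
  have hB := h.isBlock
  have hG : (Nat.card G : ℂ) ≠ 0 := Nat.cast_ne_zero.2 Nat.card_pos.ne'
  have hcard : Nat.card B = blockRank 2 B + 3 := by
    have h1 := card_eq_rank_add h hfree
    rw [relIndex_eq_card, he, h.card] at h1
    rw [show (2 : ℕ) ^ 4 - 1 = 15 from rfl] at h1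
    omega
  obtain ⟨v, hv, hdis⟩ := exists_three (c := c) (h.card.trans (by norm_num)) he.le
  choose t ht using fun j χ => exists_int_dsec h (hv j).1 (hv j).2 (hexp _ (hv j).1) χ
  refine ⟨t, fun j χ => dsec_parity h hfree (hv j).1 (hv j).2 (hv 0).1 (hv 0).2 χ (ht j χ) (ht 0 χ),
    ?_⟩
  have horth : ∀ i j, ∑ χ ∈ bset B, t i χ * t j χ = if i = j then 16 else 0 := by
    intro i j
    have h1 := h.dsec_orth (hv i).1 (hv i).2 (hv j).1 (hv j).2
    simp only [ht, map_intCast] at h1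
    by_cases hij : i = j
    · subst hij
      rw [if_pos ⟨1, Subgroup.one_mem _, by simp⟩] at h1
      rw [if_pos rfl]
      norm_num at h1
      exact_mod_cast h1
    · rw [if_neg (hdis i j hij)] at h1
      rw [if_neg hij]
      exact_mod_cast h1
  obtain ⟨Q, hQ⟩ : ∃ Q : IrrCharacter G → IrrCharacter G → ℤ, ∀ ψ ∈ B, ∀ φ ∈ B,
      (16 : ℂ) * regS 2 (ψ : G → ℂ) (φ : G → ℂ) = (Nat.card G : ℂ) * (Q ψ φ : ℂ) := by
    have h0 : ∀ ψ φ : IrrCharacter G, ∃ q : ℤ, ψ ∈ B → φ ∈ B →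
        (16 : ℂ) * regS 2 (ψ : G → ℂ) (φ : G → ℂ) = (Nat.card G : ℂ) * (q : ℂ) := by
      intro ψ φ
      by_cases hh : ψ ∈ B ∧ φ ∈ B
      · obtain ⟨q, hq, -⟩ := exists_int_proj hM hB hh.1 hh.2
        rw [h.defect, show (((2 : ℕ) : ℂ)) ^ 4 = 16 by norm_num] at hq
        exact ⟨q, fun _ _ => hq⟩
      · exact ⟨0, fun h1 h2 => absurd ⟨h1, h2⟩ hh⟩
    choose Q hQ using h0
    exact ⟨Q, fun ψ hψ φ hφ => hQ ψ φ hψ hφ⟩
  have hQsq : ∀ ψ ∈ B, ∑ φ ∈ bset B, Q ψ φ * Q ψ φ = 16 * Q ψ ψ := by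
    intro ψ hψ
    have h1 := sum_regS_regS hM hB (ψ := ψ) hψ
    have h2 : ∑ φ ∈ bset B, (Q ψ φ : ℂ) * (Q ψ φ : ℂ) = 16 * (Q ψ ψ : ℂ) := by
      refine mul_left_cancel₀ (mul_ne_zero hG hG) ?_
      rw [Finset.mul_sum, show (Nat.card G : ℂ) * (Nat.card G : ℂ) * (16 * (Q ψ ψ : ℂ)) =
        16 * (Nat.card G : ℂ) * ((Nat.card G : ℂ) * (Q ψ ψ : ℂ)) by ring, ← hQ ψ hψ ψ hψ,
        show (16 : ℂ) * (Nat.card G : ℂ) * (16 * regS 2 (ψ : G → ℂ) (ψ : G → ℂ)) =
          256 * ((Nat.card G : ℂ) * regS 2 (ψ : G → ℂ) (ψ : G → ℂ)) by ring, ← h1, Finset.mul_sum]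
      refine Finset.sum_congr rfl fun φ hφ => ?_
      have e1 := hQ ψ hψ φ (mem_bset.1 hφ)
      rw [regS_comm (φ : G → ℂ)]
      linear_combination -((16 : ℂ) * regS 2 (ψ : G → ℂ) (φ : G → ℂ) +
        (Nat.card G : ℂ) * (Q ψ φ : ℂ)) * e1
    exact_mod_cast h2
  have hQt : ∀ ψ ∈ B, ∀ j, ∑ φ ∈ bset B, Q ψ φ * t j φ = 0 := by
    intro ψ hψ j
    have h1 := sum_regS_dsec h (hv j).1 (hv j).2 ψ
    have h2 : ∑ φ ∈ bset B, (Q ψ φ : ℂ) * (t j φ : ℂ) = 0 := by
      refine mul_left_cancel₀ hG ?_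
      rw [mul_zero, ← mul_zero (16 : ℂ), ← h1, Finset.mul_sum, Finset.mul_sum]
      refine Finset.sum_congr rfl fun φ hφ => ?_
      have e1 := hQ ψ hψ φ (mem_bset.1 hφ)
      rw [regS_comm (φ : G → ℂ), ht]
      linear_combination -(t j φ : ℂ) * e1
    exact_mod_cast h2
  have htr : ∑ ψ ∈ bset B, Q ψ ψ = 16 * (blockRank 2 B : ℤ) := by
    have h1 := card_mul_blockRank hM hB
    have h2 : ∑ ψ ∈ bset B, (Q ψ ψ : ℂ) = 16 * (blockRank 2 B : ℂ) := by
      refine mul_left_cancel₀ hG ?_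
      rw [← mul_assoc, mul_comm _ (16 : ℂ), mul_assoc, h1, Finset.mul_sum, Finset.mul_sum]
      exact Finset.sum_congr rfl fun φ hφ => (hQ φ (mem_bset.1 hφ) φ (mem_bset.1 hφ)).symm
    exact_mod_cast h2
  let T : IrrCharacter G → IrrCharacter G → ℤ := fun ψ φ => ∑ j, t j ψ * t j φ
  have hT : ∀ ψ φ, T ψ φ = t 0 ψ * t 0 φ + t 1 ψ * t 1 φ + t 2 ψ * t 2 φ := fun ψ φ =>
    Fin.sum_univ_three _
  have htrT : ∑ ψ ∈ bset B, T ψ ψ = 48 := by
    simp only [T]
    rw [Finset.sum_comm]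
    simp [horth]
  let R : IrrCharacter G → IrrCharacter G → ℤ := fun ψ φ =>
    (if ψ = φ then 16 else 0) - Q ψ φ - T ψ φ
  have hRrow : ∀ ψ ∈ B, ∑ φ ∈ bset B, R ψ φ * R ψ φ = 16 * R ψ ψ := by
    intro ψ hψ
    have e : ∀ φ, R ψ φ * R ψ φ = (if ψ = φ then 256 - 32 * Q ψ φ - 32 * T ψ φ else 0) +
        Q ψ φ * Q ψ φ +
        (2 * t 0 ψ * (Q ψ φ * t 0 φ) + 2 * t 1 ψ * (Q ψ φ * t 1 φ) +
          2 * t 2 ψ * (Q ψ φ * t 2 φ)) +
        (t 0 ψ * t 0 ψ * (t 0 φ * t 0 φ) + t 1 ψ * t 1 ψ * (t 1 φ * t 1 φ) +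
          t 2 ψ * t 2 ψ * (t 2 φ * t 2 φ) + 2 * t 0 ψ * t 1 ψ * (t 0 φ * t 1 φ) +
          2 * t 0 ψ * t 2 ψ * (t 0 φ * t 2 φ) + 2 * t 1 ψ * t 2 ψ * (t 1 φ * t 2 φ)) := fun φ => by
      simp only [R, hT]
      split_ifs <;> ring
    rw [Finset.sum_congr rfl fun φ _ => e φ]
    simp only [Finset.sum_add_distrib, ← Finset.mul_sum, Finset.sum_ite_eq, mem_bset, hψ, if_true,
      hQsq ψ hψ, hQt ψ hψ, horth]
    simp only [R, hT, if_true, Fin.reduceEq, if_false]
    ring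
  have hzero : ∑ ψ ∈ bset B, ∑ φ ∈ bset B, R ψ φ * R ψ φ = 0 := by
    rw [Finset.sum_congr rfl fun ψ hψ => hRrow ψ (mem_bset.1 hψ), ← Finset.mul_sum]
    simp only [R, if_true, Finset.sum_sub_distrib, Finset.sum_const, nsmul_eq_mul, htr, htrT]
    rw [← card_bset', hcard]
    push_cast
    ring
  intro ψ hψ φ hφ
  have h1 := (Finset.sum_eq_zero_iff_of_nonneg (fun χ _ =>
    Finset.sum_nonneg fun θ _ => mul_self_nonneg (R χ θ))).1 hzero ψ (mem_bset.2 hψ)
  have h2 := mul_self_eq_zero.1 ((Finset.sum_eq_zero_iff_of_nonneg (fun θ _ =>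
    mul_self_nonneg (R ψ θ))).1 h1 φ (mem_bset.2 hφ))
  intro q hq
  rw [hQ ψ hψ φ hφ] at hq
  obtain rfl : Q ψ φ = q := by exact_mod_cast mul_left_cancel₀ hG hq
  refine ⟨if ψ = φ then 1 else 0, ?_⟩
  simp only [R, T] at h2
  split_ifs at h2 ⊢ <;> linarith

end CfsgLib.Blocks.OlssonFive
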