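import Cfsg.Agent.Lib.Blocks.OlssonFive.AbelianSetup
import Cfsg.Agent.Lib.Blocks.OlssonFive.FiveColumns

/-!
# Elementary abelian defect group of order thirty two with a stabilizer of order five
-/

namespace CfsgLib.Blocks.OlssonFive

open Cfsg CfsgLib.CharTheory
open scoped ComplexConjugate

set_option linter.unusedVariables false
set_option linter.unusedSimpArgs false
set_option linter.style.haveILetI false
set_option linter.unusedSectionVars false
set_option maxHeartbeats 1000000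

universe u

variable {M : Ideal AlgInt} {G : Type u} [Group G] [Fintype G]
  {B : Set (IrrCharacter G)} {P : Subgroup G}
  {c : Set (IrrCharacter (Subgroup.centralizer (P : Set G)))}

theorem sq_mod_eight {x : ℤ} (hx : Odd x) : ∃ k : ℤ, x * x = 8 * k + 1 := by
  obtain ⟨j, rfl⟩ := hx
  obtain ⟨m, hm⟩ := Int.even_mul_succ_self j
  exact ⟨m, by linear_combination 4 * hm⟩

theorem five_le_of_parity {A : ℤ} (hA : Odd A) (hpos : 0 ≤ A) (s : Fin 3 → ℤ)
    (hpar : ∀ j, (2 : ℤ) ∣ s j - s 0) (hdvd : (16 : ℤ) ∣ A + ∑ j, s j * s j) : 5 ≤ A := by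
  rw [Fin.sum_univ_three] at hdvd
  obtain ⟨k, hk⟩ := hdvd
  obtain ⟨a, ha⟩ := hA
  obtain ⟨p1, hp1⟩ := hpar 1
  obtain ⟨p2, hp2⟩ := hpar 2
  have h0 : Odd (s 0) := by
    by_contra h
    obtain ⟨m, hm⟩ := Int.not_odd_iff_even.1 h
    have h1 : s 1 = 2 * (p1 + m) := by linarith
    have h2 : s 2 = 2 * (p2 + m) := by linarith
    rw [hm, h1, h2, ha] at hk
    ring_nf at hk
    omega
  obtain ⟨m, hm⟩ := h0
  obtain ⟨k0, e0⟩ := sq_mod_eight (x := s 0) ⟨m, hm⟩
  obtain ⟨k1, e1⟩ := sq_mod_eight (x := s 1) ⟨m + p1, by linarith⟩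
  obtain ⟨k2, e2⟩ := sq_mod_eight (x := s 2) ⟨m + p2, by linarith⟩
  rw [e0, e1, e2] at hk
  omega

/-- The exceptional abelian case. -/
theorem kZero_le_free_five (hM : IsPModular 2 M) (hmax : IsMaximalBrauerPair 2 M B P c)
    (hab : ∀ x ∈ P, ∀ y ∈ P, x * y = y * x) (hexp : ∀ x ∈ P, x * x = 1) (h32 : Nat.card P = 32)
    {u : G} (hu : u ∈ P) (hu1 : u ≠ 1)
    (he : Nat.card (autInducedBy (pairStab P c ⊓
      Subgroup.centralizer ((Subgroup.zpowers u : Subgroup G) : Set G)) P) = 5)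
    (hfree : ∀ s ∈ pairStab P c, s * u * s⁻¹ = u → ∀ y ∈ P, s * y * s⁻¹ = y →
      y = 1 ∨ y = u ∨ s ∈ Subgroup.centralizer (P : Set G)) :
    kZero B ≤ Nat.card P := by
  classical
  haveI : Fact (Nat.Prime 2) := ⟨Nat.prime_two⟩
  have hQP : Subgroup.zpowers u ≤ P := Subgroup.zpowers_le.2 hu
  have hu2 : orderOf u = 2 := orderOf_eq_prime (by rw [pow_two, hexp u hu]) hu1
  haveI := Fintype.ofFinite (Subgroup.centralizer ((Subgroup.zpowers u : Subgroup G) : Set G))
  obtain ⟨f, hstep, hind, hdef, a, ha, hup, hmax'⟩ := exists_local_abelian hM hmax hab hQP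
  obtain ⟨hcard', hab', hst, hcent⟩ := local_abelian_props hup hab
  have hmapP : a.1.map (Subgroup.centralizer ((Subgroup.zpowers u : Subgroup G) : Set G)).subtype = P :=
    le_map_subtype_of_eq hup
  obtain ⟨U, hU⟩ : ∃ U, U = (Subgroup.zpowers u).subgroupOf
      (Subgroup.centralizer ((Subgroup.zpowers u : Subgroup G) : Set G)) := ⟨_, rfl⟩
  have hUc : U ≤ Subgroup.center _ := fun q hq => Subgroup.mem_center_iff.2 fun g =>
    Subtype.ext (g.2 (q : G) (Subgroup.mem_subgroupOf.1 (hU ▸ hq))).symm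
  haveI : U.Normal := normal_of_central hUc
  haveI := Fintype.ofFinite (_ ⧸ U)
  have hUP : U ≤ a.1 := hU ▸ subgroupOf_le_down hup hQP
  have hQH : Subgroup.zpowers u ≤
      Subgroup.centralizer ((Subgroup.zpowers u : Subgroup G) : Set G) := fun q hq q' hq' =>
    hab q' (hQP hq') q (hQP hq)
  have hcU : Nat.card U = 2 := by
    rw [hU, Nat.card_congr (Subgroup.subgroupOfEquivOfLe hQH).toEquiv, Nat.card_zpowers, hu2]
  obtain ⟨c'', hc''⟩ := exists_maximal_at hM (quotBlock_isPBlock hM hmax' hab' hUc hUP)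
    (quot_defectGroup hM hmax' hUc hUP)
  haveI := finite_inert (P := P) (c := c)
  have hdown : Nat.card (inert a.1 a.2) ≤ 5 := by
    rw [← relIndex_eq_card, ← he, ← card_autInducedBy_eq_index
      (inf_le_left.trans (stab_le_normalizer (P := P) (c := c)))]
    have e : Subgroup.centralizer
        (a.1 : Set (Subgroup.centralizer ((Subgroup.zpowers u : Subgroup G) : Set G))) =
        (Subgroup.centralizer (P : Set G)).comap
          (Subgroup.centralizer ((Subgroup.zpowers u : Subgroup G) : Set G)).subtype :=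
      Subgroup.ext fun y => (hcent y).symm
    rw [e, Subgroup.relIndex_comap]
    refine Subgroup.relIndex_le_of_le_right ?_ ?_
    · rintro _ ⟨y, hy, rfl⟩
      exact ⟨hst y hy, y.2⟩
    · exact Subgroup.index_ne_zero_of_finite
  set e := Nat.card (inert (a.1.map (QuotientGroup.mk' U)) c'') with hedef
  have he5 : e ≤ 5 := (card_inert_quot_le hM hmax' hUc hUP hc''.1).trans hdown
  have hrank : blockRank 2 f ≤ blockRank 2 (quotBlock U f) :=
    blockRank_le_quot_rank hM hmax' hab' hUc hUP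
  have hdefP : 2 ^ blockDefect 2 f = Nat.card P := by
    rw [hdef]
    exact (card_defectGroup hM hmax.1.2.1 (maximal_isDefectGroup hM hmax)).symm
  by_cases h3 : e ≤ 3
  · exact (kZero_le_of_subsection hM (isCentr_zpowers u) (orderOf_pow_two hmax hu) hind
      (hrank.trans (rank_le_three hM hc'' (map_comm hab') h3))).trans hdefP.le
  have he' : e = 5 := by
    have h2 : ¬ 2 ∣ e := inertial_coprime hM hc'' (map_comm hab')
    omega
  have hfree' : AbFree.FreeStab (a.1.map (QuotientGroup.mk' U)) c'' := by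
    refine freeStab_quot hM hmax' hab' hUc hUP hc''.1 fun s hs y hy hsy => ?_
    have hyP : (y : G) ∈ P := hmapP ▸ Subgroup.mem_map_of_mem _ hy
    rcases hfree s (hst s hs) (mul_inv_eq_iff_eq_mul.2 (s.2 u (Subgroup.mem_zpowers u)).symm) y hyP
      (congrArg Subtype.val hsy) with h | h | h
    · exact Or.inl (by rw [show y = 1 from Subtype.ext h]; exact U.one_mem)
    · exact Or.inl (by rw [hU, Subgroup.mem_subgroupOf, h]; exact Subgroup.mem_zpowers u)
    · exact Or.inr ((hcent s).1 h)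
  obtain ⟨d, hd⟩ := AbFree.abData_of_free hM hc'' (map_comm hab') hfree'
  have h16 : Nat.card (a.1.map (QuotientGroup.mk' U)) = 16 := by
    have := card_map_mul hUP
    rw [hcU, hcard', h32] at this
    omega
  obtain rfl : d = 4 := Nat.pow_right_injective le_rfl (hd.card.symm.trans (h16.trans (by norm_num)))
  have hl5 : blockRank 2 f ≤ 5 := by
    refine hrank.trans ?_
    have hne : a.1.map (QuotientGroup.mk' U) ≠ ⊥ := fun h => by
      rw [h, Subgroup.card_bot] at h16; omega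
    exact ((AbFree.counts hd hfree' hne).2.1.trans relIndex_eq_card.le).trans he5
  obtain ⟨t, htpar, htdvd⟩ := five_columns hd hfree' (by
    rintro _ ⟨y, hy, rfl⟩
    rw [← map_mul, show y * y = 1 from Subtype.ext (hexp _ (hmapP ▸ Subgroup.mem_map_of_mem _ hy)),
      map_one]) he'
  -- the contributions
  have hf : IsPBlock M f := hind.1
  have h5 : blockDefect 2 f = 5 := by
    rw [h32] at hdefP
    exact Nat.pow_right_injective le_rfl (hdefP.trans (by norm_num))
  have hord : orderOf u = 2 ^ 1 := by rw [hu2, pow_one]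
  have hcoef : ∀ (χ : IrrCharacter G) (θ : IrrCharacter
      (Subgroup.centralizer ((Subgroup.zpowers u : Subgroup G) : Set G))), ∃ z : ℤ,
      classInner (sec u (Subgroup.centralizer ((Subgroup.zpowers u : Subgroup G) : Set G))
        (χ : G → ℂ)) (θ : _ → ℂ) = (z : ℂ) := by
    intro χ θ
    obtain ⟨k, ω, -, hω, he⟩ := sec_coeff hM (isCentr_zpowers u) hord χ θ
    rw [pow_one, pow_two, mul_self_eq_one_iff] at hω
    rcases hω with rfl | rfl
    · exact ⟨k, by rw [he]; simp⟩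
    · exact ⟨-k, by rw [he]; simp⟩
  choose z hz using hcoef
  let A : IrrCharacter G → ℤ := fun χ =>
    ∑ θ ∈ bset f, ∑ θ' ∈ bset f, z χ θ * z χ θ' * secQ 2 f θ θ'
  have hA : ∀ χ : IrrCharacter G, secPair 2 u f (χ : G → ℂ) (χ : G → ℂ) = (A χ : ℂ) := by
    intro χ
    rw [secPair_eq hM hf]
    simp only [A, hz, map_intCast]
    push_cast
    rfl
  have hnn : ∀ χ, 0 ≤ A χ := by
    intro χ
    have h1 := sum_secPair_row hM (isCentr_zpowers u) ⟨1, hord⟩ hind χ
    rw [hA χ, h5] at h1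
    simp only [Complex.mul_conj] at h1
    have h2 := congrArg Complex.re h1
    simp only [Complex.re_sum, Complex.ofReal_re] at h2
    have h3 : (0 : ℝ) ≤ ((((2 : ℕ) : ℂ)) ^ 5 * (A χ : ℂ)).re :=
      h2 ▸ Finset.sum_nonneg fun ψ _ => Complex.normSq_nonneg _
    norm_num at h3
    exact_mod_cast h3
  -- the regular values come from the quotient
  choose ψ hψ hψreg using fun θ : {θ // θ ∈ f} =>
    exists_quot_regular hM hmax' hab' hUc hUP θ.2
  let π : IrrCharacter (Subgroup.centralizer ((Subgroup.zpowers u : Subgroup G) : Set G)) →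
      IrrCharacter (_ ⧸ U) := fun θ => if h : θ ∈ f then ψ ⟨θ, h⟩ else
    Classical.choice ⟨ψ ⟨(block_nonempty hM hf).choose, (block_nonempty hM hf).choose_spec⟩⟩
  have hπ : ∀ θ (h : θ ∈ f), π θ = ψ ⟨θ, h⟩ := fun θ h => dif_pos h
  have hcong : ∀ θ ∈ f, ∀ θ' ∈ f, (16 : ℤ) ∣ secQ 2 f θ θ' + ∑ j, t j (π θ) * t j (π θ') := by
    intro θ hθ θ' hθ'
    rw [hπ θ hθ, hπ θ' hθ']
    refine htdvd _ (hψ ⟨θ, hθ⟩) _ (hψ ⟨θ', hθ'⟩) _ ?_
    have h1 := secQ_spec hM hf hθ hθ'
    rw [h5] at h1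
    have h2 : regS 2 θ.1 θ'.1 = regS 2 (ψ ⟨θ, hθ⟩).1 (ψ ⟨θ', hθ'⟩).1 := by
      rw [← regS_infl hM (hmax'.1.1.1.to_le hUP) hUc, regS_eq_sum, regS_eq_sum]
      refine Finset.sum_congr rfl fun g hg => ?_
      have hg' : ¬ 2 ∣ orderOf g := (Finset.mem_filter.1 hg).2
      rw [hψreg ⟨θ, hθ⟩ g hg', hψreg ⟨θ', hθ'⟩ g⁻¹ (by rwa [orderOf_inv])]
      rfl
    rw [h2, Subgroup.card_eq_card_quotient_mul_card_subgroup U, hcU] at h1
    push_cast at h1
    have key : ∀ a b q : ℂ, (2 : ℂ) ^ 5 * a = b * 2 * q → 16 * a = b * q :=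
      fun a b q h => by linear_combination h / 2
    exact key _ _ _ h1
  have hfive : ∀ χ ∈ (bset B).filter fun χ : IrrCharacter G => dv 2 (χ : G → ℂ) = minDv 2 B,
      5 ≤ A χ := by
    intro χ hχ
    obtain ⟨hχB, hχ0⟩ := Finset.mem_filter.1 hχ
    have hodd : Odd (A χ) := by
      refine odd_of_cast_ne hM ?_
      rw [← res_intCast' hM, ← hA]
      exact (secPair_res_ne hM (isCentr_zpowers u) ⟨1, hord⟩ hind (mem_bset.1 hχB) (mem_bset.1 hχB)
        hχ0 hχ0).2
    refine five_le_of_parity hodd (hnn χ) (fun j => ∑ θ ∈ bset f, z χ θ * t j (π θ)) (fun j => ?_) ?_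
    · rw [← Finset.sum_sub_distrib]
      refine Finset.dvd_sum fun θ _ => ?_
      rw [← mul_sub]
      exact (htpar j (π θ)).mul_left _
    · have e : A χ + ∑ j, (∑ θ ∈ bset f, z χ θ * t j (π θ)) * (∑ θ ∈ bset f, z χ θ * t j (π θ)) =
          ∑ θ ∈ bset f, ∑ θ' ∈ bset f,
            z χ θ * z χ θ' * (secQ 2 f θ θ' + ∑ j, t j (π θ) * t j (π θ')) := by
        simp only [A, mul_add, Finset.sum_add_distrib, Finset.sum_mul_sum, Fin.sum_univ_three]
        congr 1
        simp only [← Finset.sum_add_distrib]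
        exact Finset.sum_congr rfl fun θ _ => Finset.sum_congr rfl fun θ' _ => by ring
      rw [e]
      exact Finset.dvd_sum fun θ hθ => Finset.dvd_sum fun θ' hθ' =>
        (hcong θ (mem_bset.1 hθ) θ' (mem_bset.1 hθ')).mul_left _
  have hsum : ∑ χ ∈ bset B, A χ = 32 * (blockRank 2 f : ℤ) := by
    have h1 := sum_secPair_diag hM (isCentr_zpowers u) ⟨1, hord⟩ hind
    simp only [hA, h5] at h1
    norm_num at h1
    exact_mod_cast h1
  rw [kZero, natCard_height_zero, h32]
  set S0 := (bset B).filter fun χ : IrrCharacter G => dv 2 (χ : G → ℂ) = minDv 2 B with hS0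
  have h1 : (S0.card : ℤ) * 5 ≤ ∑ χ ∈ S0, A χ := by
    simpa [nsmul_eq_mul] using Finset.card_nsmul_le_sum S0 A 5 hfive
  have h2 : ∑ χ ∈ S0, A χ ≤ ∑ χ ∈ bset B, A χ :=
    Finset.sum_le_sum_of_subset_of_nonneg (Finset.filter_subset _ _) fun χ _ _ => hnn χ
  omega

/-- Abelian defect groups of order at most thirty two. -/
theorem kZero_le_abelian_thirty_two (hM : IsPModular 2 M) (hmax : IsMaximalBrauerPair 2 M B P c)
    (hab : ∀ x ∈ P, ∀ y ∈ P, x * y = y * x) (h32 : Nat.card P ≤ 32) :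
    kZero B ≤ Nat.card P := by
  rcases abelian_cases hM hmax hab h32 with h | ⟨hexp, hc, u, hu, hu1, he, hfree⟩
  · exact h
  · exact kZero_le_free_five hM hmax hab hexp hc hu hu1 he hfree

end CfsgLib.Blocks.OlssonFive
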