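import Cfsg.Agent.Lib.Blocks.OlssonFive.GroupTwo
import Mathlib.GroupTheory.Nilpotent
import Cfsg.Agent.Lib.Elementary

/-!
# Groups of order thirty two with derived group of order four
-/

namespace CfsgLib.Blocks.OlssonFive.Grp

set_option linter.unusedVariables false
set_option linter.style.haveILetI false
set_option linter.unusedSectionVars false

universe u

set_option maxHeartbeats 1600000

variable {S : Type u} [Group S]

theorem comm_sq {x y : S} (h : ∀ g w : S, g * w * g⁻¹ * w⁻¹ ∈ Subgroup.center S) :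
    (x * x) * y * (x * x)⁻¹ * y⁻¹ = (x * y * x⁻¹ * y⁻¹) * (x * y * x⁻¹ * y⁻¹) := by
  set d := x * y * x⁻¹ * y⁻¹ with hd
  have hdc := Subgroup.mem_center_iff.1 (h x y)
  calc x * x * y * (x * x)⁻¹ * y⁻¹ = x * d * (y * x⁻¹ * y⁻¹) := by rw [hd]; group
    _ = d * x * (y * x⁻¹ * y⁻¹) := by rw [hdc x]
    _ = d * d := by rw [hd]; group

theorem eight_le_cen [Finite S] (h32 : Nat.card S = 32) (h4 : Nat.card (commutator S) = 4) (w : S) :
    8 ≤ Nat.card (cen w) := by
  have h1 := Subgroup.card_mul_index (cen w)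
  have h2 := index_cen_le w
  rw [h4] at h2
  have : Nat.card (cen w) * (cen w).index ≤ Nat.card (cen w) * 4 := Nat.mul_le_mul_left _ h2
  omega

/-- Two subgroups data: the derived group is central. -/
theorem four_central [Finite S] (hS : IsPGroup 2 S) (h32 : Nat.card S = 32)
    (h4 : Nat.card (commutator S) = 4) (hT : commutator S ≤ Subgroup.center S) :
    ∃ u : S, Nat.card (cen u) = 8 ∧ (cen u).Normal ∧ (∀ x ∈ cen u, ∀ y ∈ cen u, x * y = y * x) ∧
      ((∀ g : S, ∀ x ∈ cen u, x * x = 1 → g * x * g⁻¹ = x) ∨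
        (u ∉ Subgroup.center S ∧ Nat.card (Subgroup.center S) = 4 ∧ (∀ x ∈ cen u, x * x = 1) ∧
          (∀ x ∈ cen u, x ∈ Subgroup.center S ∨ u⁻¹ * x ∈ Subgroup.center S) ∧
          ∀ k ∈ cen u, k ∉ Subgroup.center S → ∀ h ∈ Subgroup.center S,
            ∃ g : S, g * k * g⁻¹ = k * h)) := by
  classical
  haveI : Fact (Nat.Prime 2) := ⟨Nat.prime_two⟩
  set Z := Subgroup.center S with hZdef
  have hcc : ∀ g w : S, g * w * g⁻¹ * w⁻¹ ∈ Z := fun g w => hT (conj_mul_inv_mem w g)
  -- some class has four elements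
  obtain ⟨u, hu⟩ : ∃ u : S, Nat.card (cen u) = 8 := by
    by_contra hall
    push Not at hall
    have hle : ∀ w : S, (cen w).index ≤ 2 := by
      intro w
      have h1 := Subgroup.card_mul_index (cen w)
      have h2 := eight_le_cen h32 h4 w
      obtain ⟨i, hi⟩ := (hS.to_subgroup (cen w)).exists_card_eq
      have h3 := hall w
      have h16 : 16 ≤ Nat.card (cen w) := by
        rw [hi] at h2 h3 ⊢
        have : 4 ≤ i := by
          by_contra hlt
          interval_cases i <;> omega
        exact (show 16 = 2 ^ 4 by norm_num).le.trans (Nat.pow_le_pow_right two_pos this)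
      by_contra h5
      have : Nat.card (cen w) * 3 ≤ Nat.card (cen w) * (cen w).index := Nat.mul_le_mul_left _ (by omega)
      omega
    -- the values of commutators with a fixed element
    have hval : ∀ w g g' : S, g * w * g⁻¹ * w⁻¹ ≠ 1 → g' * w * g'⁻¹ * w⁻¹ ≠ 1 →
        g * w * g⁻¹ * w⁻¹ = g' * w * g'⁻¹ * w⁻¹ := by
      intro w g g' hg hg'
      have hi : (cen w).index = 2 := by
        have := hle w
        have := two_le_index_cen (x := w) (fun h => hg (by
          rw [Subgroup.mem_center_iff.1 h g]; group))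
        omega
      have hm : g⁻¹ * g' ∈ cen w := (Subgroup.mul_mem_iff_of_index_two hi).2 (by
        have a1 : g ∉ cen w := fun h => hg (by rw [mem_cen_iff.1 h, mul_inv_cancel])
        have a2 : g' ∉ cen w := fun h => hg' (by rw [mem_cen_iff.1 h, mul_inv_cancel])
        simp [inv_mem_iff, a1, a2])
      have h1 := mem_cen_iff.1 hm
      have e : g' * w * g'⁻¹ = g * (g⁻¹ * g' * w * (g⁻¹ * g')⁻¹) * g⁻¹ := by group
      rw [e, h1]
    obtain ⟨x, y, hxy⟩ : ∃ x y : S, x * y * x⁻¹ * y⁻¹ ≠ 1 := by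
      by_contra h
      push Not at h
      have : commutator S = ⊥ := by
        rw [_root_.commutator_def, eq_bot_iff, Subgroup.commutator_le]
        exact fun a _ b _ => Subgroup.mem_bot.2 (h a b)
      rw [this, Subgroup.card_bot] at h4
      omega
    set c := x * y * x⁻¹ * y⁻¹ with hc
    obtain ⟨a, b, hab⟩ : ∃ a b : S, a * b * a⁻¹ * b⁻¹ ∉ Subgroup.zpowers c := by
      by_contra h
      push Not at h
      have h1 : commutator S ≤ Subgroup.zpowers c := by
        rw [_root_.commutator_def, Subgroup.commutator_le]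
        exact fun a _ b _ => h a b
      have h2 := Subgroup.card_le_of_le h1
      rw [h4, Nat.card_zpowers] at h2
      have h3 : orderOf c ∣ 2 := by
        refine orderOf_dvd_of_pow_eq_one ?_
        rw [pow_two, hc, ← comm_sq hcc]
        have : x * x ∈ cen y := by
          by_cases hx : x ∈ cen y
          · exact (cen y).mul_mem hx hx
          · have hi : (cen y).index = 2 := by
              have := hle y
              have := two_le_index_cen (x := y) (fun h => hxy (by
                rw [hc, Subgroup.mem_center_iff.1 h x]; group))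
              omega
            exact (Subgroup.mul_mem_iff_of_index_two hi).2 Iff.rfl
        rw [mem_cen_iff.1 this, mul_inv_cancel]
      have := Nat.le_of_dvd two_pos h3
      omega
    set d := a * b * a⁻¹ * b⁻¹ with hd
    have hd1 : d ≠ 1 := fun e => hab (e ▸ one_mem _)
    have hdc : d ≠ c := fun e => hab (e ▸ Subgroup.mem_zpowers c)
    have hinv : ∀ g w : S, w * g * w⁻¹ * g⁻¹ = (g * w * g⁻¹ * w⁻¹)⁻¹ := fun g w => by group
    have hsq : ∀ g w : S, (g * w * g⁻¹ * w⁻¹) * (g * w * g⁻¹ * w⁻¹) = 1 := fun g w => by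
      rw [← comm_sq hcc]
      have : g * g ∈ cen w := by
        by_cases hg : g ∈ cen w
        · exact (cen w).mul_mem hg hg
        · have hi : (cen w).index = 2 := by
            have := hle w
            have := two_le_index_cen (x := w) (fun h => hg (mem_cen.2 (Subgroup.mem_center_iff.1 h g)))
            omega
          exact (Subgroup.mul_mem_iff_of_index_two hi).2 Iff.rfl
      rw [mem_cen_iff.1 this, mul_inv_cancel]
    have hsym : ∀ g w : S, w * g * w⁻¹ * g⁻¹ = g * w * g⁻¹ * w⁻¹ := fun g w => by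
      rw [hinv g w]
      exact inv_eq_of_mul_eq_one_right (hsq g w)
    -- a bilinear identity
    have hmul : ∀ g g' w : S, (g * g') * w * (g * g')⁻¹ * w⁻¹ =
        (g * w * g⁻¹ * w⁻¹) * (g' * w * g'⁻¹ * w⁻¹) := fun g g' w => by
      calc (g * g') * w * (g * g')⁻¹ * w⁻¹
          = g * (g' * w * g'⁻¹ * w⁻¹) * (w * g⁻¹ * w⁻¹) := by group
        _ = (g' * w * g'⁻¹ * w⁻¹) * g * (w * g⁻¹ * w⁻¹) := by
            rw [Subgroup.mem_center_iff.1 (hcc g' w) g]
        _ = (g' * w * g'⁻¹ * w⁻¹) * (g * w * g⁻¹ * w⁻¹) := by group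
        _ = _ := (Subgroup.mem_center_iff.1 (hcc g' w) _).symm
    -- the four cross values vanish
    have hva : ∀ g, g * a * g⁻¹ * a⁻¹ ≠ 1 → g * a * g⁻¹ * a⁻¹ = d := fun g hg => by
      have := hval a g b hg (by rw [hsym a b]; exact hd1)
      rw [this, hsym a b]
    have hvb : ∀ g, g * b * g⁻¹ * b⁻¹ ≠ 1 → g * b * g⁻¹ * b⁻¹ = d := fun g hg => hval b g a hg hd1
    have hvx : ∀ g, g * x * g⁻¹ * x⁻¹ ≠ 1 → g * x * g⁻¹ * x⁻¹ = c := fun g hg => by
      have := hval x g y hg (by rw [hsym x y]; exact hxy)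
      rw [this, hsym x y]
    have hvy : ∀ g, g * y * g⁻¹ * y⁻¹ ≠ 1 → g * y * g⁻¹ * y⁻¹ = c := fun g hg => hval y g x hg hxy
    have hzero : ∀ g w : S, (g * w * g⁻¹ * w⁻¹ ≠ 1 → g * w * g⁻¹ * w⁻¹ = d) →
        (g * w * g⁻¹ * w⁻¹ ≠ 1 → g * w * g⁻¹ * w⁻¹ = c) → g * w * g⁻¹ * w⁻¹ = 1 := by
      intro g w h1 h2
      by_contra h
      exact hdc ((h1 h).symm.trans (h2 h))
    have hay : a * y * a⁻¹ * y⁻¹ = 1 := hzero a y (fun h => by
      rw [← hsym a y] at h ⊢; exact hva y h) (hvy a)
    have hxb : x * b * x⁻¹ * b⁻¹ = 1 := hzero x b (hvb x) (fun h => by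
      rw [← hsym x b] at h ⊢; exact hvx b h)
    have e1 : (a * x) * y * (a * x)⁻¹ * y⁻¹ = c := by rw [hmul, hay, one_mul]
    have e2 : (a * x) * b * (a * x)⁻¹ * b⁻¹ = d := by rw [hmul, hxb, mul_one]
    have e3 := hval (a * x) y b (by rw [hsym (a * x) y, e1]; exact hxy)
      (by rw [hsym (a * x) b, e2]; exact hd1)
    rw [hsym (a * x) y, hsym (a * x) b, e1, e2] at e3
    exact hdc e3.symm
  have hnormal : (cen u).Normal := ⟨fun w hw g => by
    have h1 : g * w * g⁻¹ = (g * w * g⁻¹ * w⁻¹) * w := by group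
    rw [h1]
    exact (cen u).mul_mem (center_le_cen u (hcc g w)) hw⟩
  have huZ : u ∉ Z := fun h => by
    have : cen u = ⊤ := eq_top_iff.2 fun g _ => mem_cen.2 (Subgroup.mem_center_iff.1 h g)
    rw [this, Subgroup.card_top] at hu
    omega
  have hZ4 : Nat.card Z = 4 ∧ commutator S = Z := by
    have h1 : 4 ≤ Nat.card Z := h4 ▸ Subgroup.card_le_of_le hT
    obtain ⟨i, hi⟩ := (hS.to_subgroup Z).exists_card_eq
    have h2 : Nat.card Z < Nat.card (cen u) := lt_of_le_of_ne (Subgroup.card_le_of_le (center_le_cen u))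
      fun e => huZ ((SetLike.ext_iff.1 (Subgroup.eq_of_le_of_card_ge (center_le_cen u) e.ge) u).2 (self_mem_cen u))
    rw [hu] at h2
    have hi2 : i = 2 := by
      have a1 : i < 3 := (Nat.pow_lt_pow_iff_right (show 1 < 2 by norm_num)).1 (by rw [← hi]; exact h2)
      interval_cases i <;> omega
    rw [hi2] at hi
    exact ⟨hi.trans (by norm_num), Subgroup.eq_of_le_of_card_ge hT (by omega)⟩
  have hC : ∀ w ∈ cen u, w ∈ Z ∨ u⁻¹ * w ∈ Z := by
    intro w hw
    by_contra hne
    push Not at hne
    have h2' : (Z.subgroupOf (cen u)).index = 2 := by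
      have h5 := Subgroup.card_mul_index (Z.subgroupOf (cen u))
      rw [Nat.card_congr (Subgroup.subgroupOfEquivOfLe (center_le_cen u)).toEquiv, hu, hZ4.1] at h5
      omega
    have h7 : (⟨u, self_mem_cen u⟩ : cen u)⁻¹ * ⟨w, hw⟩ ∈ Z.subgroupOf (cen u) :=
      (Subgroup.mul_mem_iff_of_index_two h2').2
        (by simp [inv_mem_iff, Subgroup.mem_subgroupOf, huZ, hne.1])
    exact hne.2 (Subgroup.mem_subgroupOf.1 h7)
  have hab : ∀ a ∈ cen u, ∀ b ∈ cen u, a * b = b * a := by
    intro a ha b hb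
    rcases hC a ha with h | h
    · exact (Subgroup.mem_center_iff.1 h b).symm
    · rcases hC b hb with h' | h'
      · exact Subgroup.mem_center_iff.1 h' a
      · have e1 : Commute u (u⁻¹ * a) := Subgroup.mem_center_iff.1 h u
        have e2 : Commute u (u⁻¹ * b) := Subgroup.mem_center_iff.1 h' u
        have e3 : Commute (u⁻¹ * a) (u⁻¹ * b) := Subgroup.mem_center_iff.1 h' _
        have := (((Commute.refl u).mul_right e2).mul_left (e1.symm.mul_right e3))
        simpa using this.eq
  refine ⟨u, hu, hnormal, hab, ?_⟩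
  by_cases hinv : ∀ w ∈ cen u, w * w = 1 → w ∈ Z
  · exact Or.inl fun g w hw hw2 => by
      rw [Subgroup.mem_center_iff.1 (hinv w hw hw2) g, mul_inv_cancel_right]
  push Not at hinv
  obtain ⟨w0, hw0, hw02, hw0Z⟩ := hinv
  -- squares of commutators are trivial
  have hexpZ : ∀ z ∈ Z, z * z = 1 := by
    intro z hz
    rw [← hZ4.2] at hz
    let Q : Subgroup S :=
      { carrier := {z | z ∈ Z ∧ z * z = 1}
        one_mem' := ⟨Z.one_mem, one_mul 1⟩
        mul_mem' := fun {p q} hp hq => ⟨Z.mul_mem hp.1 hq.1, by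
          calc p * q * (p * q) = p * (q * p) * q := by group
            _ = p * p * (q * q) := by rw [Subgroup.mem_center_iff.1 hp.1 q]; group
            _ = 1 := by rw [hp.2, hq.2, one_mul]⟩
        inv_mem' := fun {p} hp => ⟨Z.inv_mem hp.1, by rw [← mul_inv_rev, hp.2, inv_one]⟩ }
    have hle : commutator S ≤ Q := by
      rw [_root_.commutator_def, Subgroup.commutator_le]
      intro p _ q _
      refine ⟨hcc p q, ?_⟩
      show (p * q * p⁻¹ * q⁻¹) * (p * q * p⁻¹ * q⁻¹) = 1
      by_contra h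
      have hp2 : p * p ∉ Z := fun hh => h (by
        rw [← comm_sq hcc, ← Subgroup.mem_center_iff.1 hh q, mul_inv_cancel_right, mul_inv_cancel])
      -- the centraliser of `p` has index two, so squares lie in it
      have hi : (cen p).index ≤ 2 := by
        have hpp : p * p ∈ cen p := (cen p).mul_mem (self_mem_cen p) (self_mem_cen p)
        have hp1 : p ∉ Z := fun hh => hp2 (Z.mul_mem hh hh)
        have h5 : 8 ≤ Nat.card (cen p) := eight_le_cen h32 h4 p
        have h6 : Nat.card (cen p) ≠ 8 := fun h8 => by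
          have h2' : (Z.subgroupOf (cen p)).index = 2 := by
            have h9 := Subgroup.card_mul_index (Z.subgroupOf (cen p))
            rw [Nat.card_congr (Subgroup.subgroupOfEquivOfLe (center_le_cen p)).toEquiv, h8, hZ4.1] at h9
            omega
          have h9 : (⟨p, self_mem_cen p⟩ : cen p) * ⟨p, self_mem_cen p⟩ ∈ Z.subgroupOf (cen p) :=
            (Subgroup.mul_mem_iff_of_index_two h2').2 Iff.rfl
          exact hp2 (Subgroup.mem_subgroupOf.1 h9)
        obtain ⟨i, hi⟩ := (hS.to_subgroup (cen p)).exists_card_eq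
        have h16 : 16 ≤ Nat.card (cen p) := by
          rw [hi] at h5 h6 ⊢
          have : 4 ≤ i := by
            by_contra hlt
            interval_cases i <;> omega
          exact (show 16 = 2 ^ 4 by norm_num).le.trans (Nat.pow_le_pow_right two_pos this)
        have h7 := Subgroup.card_mul_index (cen p)
        by_contra h8
        have : Nat.card (cen p) * 3 ≤ Nat.card (cen p) * (cen p).index := Nat.mul_le_mul_left _ (by omega)
        omega
      have hqq : q * q ∈ cen p := by
        by_cases hq : q ∈ cen p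
        · exact (cen p).mul_mem hq hq
        · have h0 : (cen p).index ≠ 0 := Subgroup.index_ne_zero_of_finite
          have h1 : (cen p).index ≠ 1 := fun e => hq (Subgroup.index_eq_one.1 e ▸ Subgroup.mem_top q)
          exact (Subgroup.mul_mem_iff_of_index_two (show (cen p).index = 2 by omega)).2 Iff.rfl
      have e := comm_sq (x := q) (y := p) hcc
      rw [mem_cen_iff.1 hqq, mul_inv_cancel] at e
      refine h ?_
      have e' : p * q * p⁻¹ * q⁻¹ = (q * p * q⁻¹ * p⁻¹)⁻¹ := by group
      rw [e', ← mul_inv_rev, ← e, inv_one]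
    exact (hle hz).2
  refine Or.inr ⟨huZ, hZ4.1, fun w hw => ?_, hC, fun k hk hkZ h hh => ?_⟩
  · have hu2 : u * u = 1 := by
      rcases hC w0 hw0 with h | h
      · exact absurd h hw0Z
      · obtain ⟨r, hr, rfl⟩ : ∃ r ∈ Z, w0 = u * r := ⟨_, h, (mul_inv_cancel_left _ w0).symm⟩
        have e : Commute u r := Subgroup.mem_center_iff.1 hr u
        calc u * u = u * u * (r * r) := by rw [hexpZ r hr, mul_one]
          _ = u * (u * r) * r := by group
          _ = u * (r * u) * r := by rw [e.eq]
          _ = u * r * (u * r) := by group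
          _ = 1 := hw02
    rcases hC w hw with h | h
    · exact hexpZ w h
    · obtain ⟨r, hr, rfl⟩ : ∃ r ∈ Z, w = u * r := ⟨_, h, (mul_inv_cancel_left _ w).symm⟩
      have e : Commute u r := Subgroup.mem_center_iff.1 hr u
      calc u * r * (u * r) = u * (r * u) * r := by group
        _ = u * (u * r) * r := by rw [← e.eq]
        _ = u * u * (r * r) := by group
        _ = 1 := by rw [hu2, hexpZ r hr, one_mul]
  · -- the conjugates fill the coset
    obtain ⟨r, hr, rfl⟩ : ∃ r ∈ Z, k = u * r :=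
      ⟨_, (hC k hk).resolve_left hkZ, (mul_inv_cancel_left _ k).symm⟩
    haveI := Fintype.ofFinite S
    let f : S ⧸ cen u → Z := Quotient.lift
      (fun g : S => (⟨g * u * g⁻¹ * u⁻¹, hcc g u⟩ : Z))
      (fun p q hpq => Subtype.ext (by
        have h1 := mem_cen_iff.1 (QuotientGroup.leftRel_apply.1 hpq)
        have e : q * u * q⁻¹ = p * ((p⁻¹ * q) * u * (p⁻¹ * q)⁻¹) * p⁻¹ := by group
        show p * u * p⁻¹ * u⁻¹ = q * u * q⁻¹ * u⁻¹
        rw [e, h1]))
    have hinj : Function.Injective f := by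
      intro p q hpq
      induction p using QuotientGroup.induction_on with
      | H p =>
        induction q using QuotientGroup.induction_on with
        | H q =>
          refine QuotientGroup.eq.2 (mem_cen_iff.2 ?_)
          have h1 := mul_right_cancel (congrArg Subtype.val hpq : p * u * p⁻¹ * u⁻¹ = q * u * q⁻¹ * u⁻¹)
          rw [show p⁻¹ * q * u * (p⁻¹ * q)⁻¹ = p⁻¹ * (q * u * q⁻¹) * p by group, ← h1]
          group
    have hcard : Nat.card (S ⧸ cen u) = Nat.card Z := by
      rw [← Subgroup.index_eq_card, hZ4.1]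
      have := Subgroup.card_mul_index (cen u)
      rw [hu, h32] at this
      omega
    obtain ⟨q, hq⟩ := (Function.Injective.bijective_of_nat_card_le hinj hcard.ge).2 ⟨h, hh⟩
    induction q using QuotientGroup.induction_on with
    | H g =>
      have hg : g * u * g⁻¹ * u⁻¹ = h := congrArg Subtype.val hq
      refine ⟨g, ?_⟩
      calc g * (u * r) * g⁻¹ = g * u * (r * g⁻¹) := by group
        _ = g * u * (g⁻¹ * r) := by rw [← Subgroup.mem_center_iff.1 hr g⁻¹]
        _ = (g * u * g⁻¹ * u⁻¹) * (u * r) := by group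
        _ = u * r * h := by rw [hg, Subgroup.mem_center_iff.1 hh]

/-- The derived group is not central. -/
theorem four_noncentral [Finite S] (hS : IsPGroup 2 S) (h32 : Nat.card S = 32)
    (h4 : Nat.card (commutator S) = 4) (hT : ¬ commutator S ≤ Subgroup.center S) :
    (∃ u : S, u ≠ 1 ∧ Nat.card (cen u) = 8 ∧ ∀ v : S, orderOf v = orderOf u → Nat.card (cen v) ≤ 8) ∨
    (∃ u z : S, u ≠ 1 ∧ Nat.card (cen u) = 8 ∧ u * u ∈ Subgroup.center S ∧ z ∈ Subgroup.center S ∧
      u * u ≠ z ∧ (∀ ψ : S →* S, Function.Injective ψ → ψ z = z) ∧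
      ∀ v : S, orderOf v = orderOf u → 8 < Nat.card (cen v) → v * v = z) ∨
    (∃ (v g : S) (j : ℕ), (j = 3 ∨ j = 7) ∧ orderOf v = 8 ∧ Nat.card (cen v) = 16 ∧
      g * v * g⁻¹ = v ^ j ∧ ∀ w : S, orderOf w = 8 → Nat.card (cen w) ≤ 16) := by
  classical
  haveI : Fact (Nat.Prime 2) := ⟨Nat.prime_two⟩
  set T := commutator S with hTdef
  haveI hTn : T.Normal := inferInstance
  set M := Subgroup.centralizer (T : Set S) with hM
  haveI hMn : M.Normal := inferInstance
  set Z := Subgroup.center S with hZdef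
  have hcomm : ∀ g w : S, g * w * g⁻¹ * w⁻¹ ∈ T := fun g w => conj_mul_inv_mem w g
  have hTab : ∀ a ∈ T, ∀ b ∈ T, a * b = b * a := by
    haveI : IsMulCommutative T := IsPGroup.isMulCommutative_of_card_eq_prime_sq (p := 2)
      (h4.trans (by norm_num))
    exact fun a ha b hb => congrArg Subtype.val
      ((IsMulCommutative.is_comm (M := T)).comm ⟨a, ha⟩ ⟨b, hb⟩)
  have hTM : T ≤ M := fun a ha b hb => hTab b hb a ha
  -- the central element of `T`
  obtain ⟨z, hzT, hzZ, hz1⟩ : ∃ z ∈ T, z ∈ Z ∧ z ≠ 1 := by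
    haveI : Group.IsNilpotent S := hS.isNilpotent
    have hne : T ≠ ⊥ := fun e => by rw [e, Subgroup.card_bot] at h4; omega
    obtain ⟨⟨z, hz⟩, hz1⟩ := Subgroup.ne_bot_iff_exists_ne_one.1
      (CfsgLib.inf_center_ne_bot_of_nilpotent hne)
    exact ⟨z, hz.1, hz.2, fun e => hz1 (Subtype.ext e)⟩
  have hcover : ∀ a ∈ T, ∀ b ∈ T, a ∉ Subgroup.zpowers z → b ∉ Subgroup.zpowers z →
      a⁻¹ * b ∈ Subgroup.zpowers z := by
    intro a ha b hb ha' hb'
    have hz2 : Nat.card (Subgroup.zpowers z) ≠ 4 := fun e => hT fun t ht => by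
      have : Subgroup.zpowers z = T := Subgroup.eq_of_le_of_card_ge (Subgroup.zpowers_le.2 hzT) (by rw [h4, e])
      exact (Subgroup.zpowers_le.2 hzZ : Subgroup.zpowers z ≤ Z) (this.symm ▸ ht)
    have hd : Nat.card (Subgroup.zpowers z) ∣ 4 := h4 ▸ Subgroup.card_dvd_of_le (Subgroup.zpowers_le.2 hzT)
    have h1 : Nat.card (Subgroup.zpowers z) ≠ 1 := by
      rw [Nat.card_zpowers]; exact fun e => hz1 (orderOf_eq_one_iff.1 e)
    have h2 : Nat.card (Subgroup.zpowers z) = 2 := by
      have := Nat.le_of_dvd (by norm_num) hd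
      generalize Nat.card (Subgroup.zpowers z) = n at *
      interval_cases n <;> omega
    have hi : ((Subgroup.zpowers z).subgroupOf T).index = 2 := by
      have h5 := Subgroup.card_mul_index ((Subgroup.zpowers z).subgroupOf T)
      rw [Nat.card_congr (Subgroup.subgroupOfEquivOfLe (Subgroup.zpowers_le.2 hzT)).toEquiv, h2, h4] at h5
      omega
    exact Subgroup.mem_subgroupOf.1 ((Subgroup.mul_mem_iff_of_index_two hi
      (a := (⟨a, ha⟩ : T)⁻¹) (b := ⟨b, hb⟩)).2 (by simp [inv_mem_iff, Subgroup.mem_subgroupOf, ha', hb']))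
  have hz2 : z * z = 1 := by
    by_contra h
    refine hT fun t ht => ?_
    have : 4 ≤ orderOf z := by
      obtain ⟨k, hk⟩ := IsPGroup.iff_orderOf.1 hS z
      have hk2 : 2 ≤ k := by
        by_contra hlt
        interval_cases k
        · exact hz1 (orderOf_eq_one_iff.1 (by simpa using hk))
        · exact h (by rw [← pow_two, ← show orderOf z = 2 by simpa using hk, pow_orderOf_eq_one])
      rw [hk]
      exact (show 4 = 2 ^ 2 by norm_num).le.trans (Nat.pow_le_pow_right two_pos hk2)
    have e : Subgroup.zpowers z = T := Subgroup.eq_of_le_of_card_ge (Subgroup.zpowers_le.2 hzT)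
      (by rw [h4, Nat.card_zpowers]; exact this)
    exact (Subgroup.zpowers_le.2 hzZ : Subgroup.zpowers z ≤ Z) (e.symm ▸ ht)
  have hzp : ∀ a ∈ Subgroup.zpowers z, a = 1 ∨ a = z := by
    rintro a ⟨i, rfl⟩
    rcases Int.even_or_odd' i with ⟨k, rfl | rfl⟩
    · exact Or.inl (by simp only [zpow_mul, zpow_two, hz2, one_zpow])
    · exact Or.inr (by simp only [zpow_add, zpow_mul, zpow_two, hz2, one_zpow, one_mul, zpow_one])
  -- an element not centralising `T`
  obtain ⟨t, htT, x, htx⟩ : ∃ t ∈ T, ∃ x : S, x * t * x⁻¹ ≠ t := by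
    by_contra h
    push Not at h
    exact hT fun t ht => Subgroup.mem_center_iff.2 fun g => mul_inv_eq_iff_eq_mul.1 (h t ht g)
  have hxM : x ∉ M := fun h => htx (by
    rw [← Subgroup.mem_centralizer_iff.1 h t htT, mul_inv_cancel_right])
  have hnz : ∀ a : S, a ∈ Subgroup.zpowers z → ∀ g : S, g * a * g⁻¹ = a := fun a ha g => by
    rw [Subgroup.mem_center_iff.1 ((Subgroup.zpowers_le.2 hzZ : Subgroup.zpowers z ≤ Z) ha) g,
      mul_inv_cancel_right]
  have htz : t ∉ Subgroup.zpowers z := fun h => htx (hnz t h x)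
  have hact : ∀ g : S, g ∉ M → ∀ a ∈ T, a ∉ Subgroup.zpowers z → g * a * g⁻¹ = a * z := by
    intro g hg a ha ha'
    have hga : g * a * g⁻¹ ∈ T := hTn.conj_mem a ha g
    have hga' : g * a * g⁻¹ ∉ Subgroup.zpowers z := fun h => ha' (by
      have e := hnz _ h g⁻¹
      have e2 : a = g * a * g⁻¹ := by
        rw [← e]; group
      rw [e2]; exact h)
    rcases hzp _ (hcover a ha _ hga ha' hga') with h | h
    · refine absurd (fun b hb => ?_) hg
      have hb' : g * b * g⁻¹ = b := by
        by_cases hbz : b ∈ Subgroup.zpowers z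
        · exact hnz b hbz g
        · obtain ⟨r, hr, rfl⟩ : ∃ r ∈ Subgroup.zpowers z, b = a * r :=
            ⟨_, hcover a ha b hb ha' hbz, (mul_inv_cancel_left _ b).symm⟩
          rw [← conj_mul, hnz r hr g, (inv_mul_eq_one.1 h).symm]
      exact (mul_inv_eq_iff_eq_mul.1 hb').symm
    · exact inv_mul_eq_iff_eq_mul.1 h
  have hMidx : M.index = 2 := by
    have hne : M.index ≠ 1 := fun e => hxM (Subgroup.index_eq_one.1 e ▸ Subgroup.mem_top x)
    have h0 : M.index ≠ 0 := Subgroup.index_ne_zero_of_finite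
    by_contra h2
    rw [Subgroup.index_eq_card] at hne h0 h2
    haveI := Fintype.ofFinite (S ⧸ M)
    have h3 : 2 < Fintype.card (S ⧸ M) := by rw [← Nat.card_eq_fintype_card]; omega
    obtain ⟨q, hq⟩ : ∃ q : S ⧸ M, q ∉ ({((1 : S) : S ⧸ M), (x : S ⧸ M)} : Finset (S ⧸ M)) := by
      by_contra hall
      push Not at hall
      have := Finset.card_le_card (show (Finset.univ : Finset (S ⧸ M)) ⊆ _ from fun q _ => hall q)
      have := Finset.card_le_two (a := ((1 : S) : S ⧸ M)) (b := (x : S ⧸ M))
      rw [Finset.card_univ] at *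
      omega
    induction q using QuotientGroup.induction_on with
    | H g =>
      simp only [Finset.mem_insert, Finset.mem_singleton, not_or] at hq
      have hg : g ∉ M := fun h => hq.1 (QuotientGroup.eq.2 (by simpa using h))
      refine hq.2 (QuotientGroup.eq.2 fun b hb => ?_)
      have e : g * b * g⁻¹ = x * b * x⁻¹ := by
        by_cases hbz : b ∈ Subgroup.zpowers z
        · rw [hnz b hbz g, hnz b hbz x]
        · rw [hact g hg b hb hbz, hact x hxM b hb hbz]
      refine (mul_inv_eq_iff_eq_mul.1 ?_).symm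
      rw [show g⁻¹ * x * b * (g⁻¹ * x)⁻¹ = g⁻¹ * (x * b * x⁻¹) * g by group, ← e]
      group
  have hM16 : Nat.card M = 16 := by
    have := Subgroup.card_mul_index M
    rw [hMidx, h32] at this
    omega
  -- big centralisers lie inside
  have hbig : ∀ v : S, 8 < Nat.card (cen v) → v ∈ M := by
    intro v hv
    have h1 := Subgroup.card_mul_index (cen v)
    have hi : (cen v).index ≤ 2 := by
      obtain ⟨i, hi⟩ := (hS.to_subgroup (cen v)).exists_card_eq
      have : 4 ≤ i := by
        by_contra hlt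
        interval_cases i <;> omega
      have h16 : 16 ≤ Nat.card (cen v) := by
        rw [hi]; exact (show 16 = 2 ^ 4 by norm_num).le.trans (Nat.pow_le_pow_right two_pos this)
      by_contra h5
      have : Nat.card (cen v) * 3 ≤ Nat.card (cen v) * (cen v).index := Nat.mul_le_mul_left _ (by omega)
      omega
    have hTc : T ≤ cen v := by
      have h0 : (cen v).index ≠ 0 := Subgroup.index_ne_zero_of_finite
      by_cases h2 : (cen v).index = 1
      · rw [Subgroup.index_eq_one.1 h2]; exact le_top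
      have h2' : (cen v).index = 2 := by omega
      rw [hTdef, _root_.commutator_def, Subgroup.commutator_le]
      intro a _ b _
      show a * b * a⁻¹ * b⁻¹ ∈ cen v
      rw [Subgroup.mul_mem_iff_of_index_two h2', Subgroup.mul_mem_iff_of_index_two h2',
        Subgroup.mul_mem_iff_of_index_two h2']
      simp only [inv_mem_iff]
      tauto
    exact fun b hb => mem_cen.1 (hTc hb)
  have height : ∀ v : S, v ∉ M → Nat.card (cen v) = 8 := fun v hv =>
    le_antisymm (Nat.not_lt.1 fun h => hv (hbig v h)) (eight_le_cen h32 h4 v)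
  have hord : ∀ w : S, w * w ≠ 1 → w * w * (w * w) = 1 → orderOf w = 4 := by
    intro w h2 h4'
    have hd : orderOf w ∣ 4 := orderOf_dvd_of_pow_eq_one (by
      rw [show (4 : ℕ) = 2 * 2 by norm_num, pow_mul, pow_two, pow_two]; exact h4')
    have := Nat.le_of_dvd (by norm_num) hd
    have h1 : orderOf w ≠ 1 := fun e => h2 (by rw [orderOf_eq_one_iff.1 e, one_mul])
    have h3 : orderOf w ≠ 2 := fun e => h2 (by rw [← pow_two, ← e, pow_orderOf_eq_one])
    generalize orderOf w = n at *
    interval_cases n <;> omega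
  have hord8 : ∀ w : S, w ^ 4 ≠ 1 → 8 ≤ orderOf w := by
    intro w hw
    obtain ⟨k, hk⟩ := IsPGroup.iff_orderOf.1 hS w
    have : 3 ≤ k := by
      by_contra hlt
      exact hw (orderOf_dvd_iff_pow_eq_one.1 (hk ▸ ((show 4 = 2 ^ 2 by norm_num) ▸
        pow_dvd_pow 2 (by omega) : 2 ^ k ∣ 4)))
    rw [hk]
    exact (show 8 = 2 ^ 3 by norm_num).le.trans (Nat.pow_le_pow_right two_pos this)
  by_cases hMab : ∀ a ∈ M, ∀ b ∈ M, a * b = b * a
  swap
  · -- `M` nonabelian: its centre is `T`
    have hCM : ∀ v ∈ M, v ∉ T → ∀ w ∈ M, w * v = v * w → w ∈ T ∨ v⁻¹ * w ∈ T := by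
      intro v hv hvT w hw hwv
      by_contra hne
      push Not at hne
      refine hMab fun a ha b hb => ?_
      -- `v` and `w` generate `M` over `T`
      set Q := T.subgroupOf M with hQ
      haveI : Q.Normal := inferInstance
      haveI := Fintype.ofFinite (M ⧸ Q)
      have hQ4 : Fintype.card (M ⧸ Q) = 4 := by
        rw [← Nat.card_eq_fintype_card, ← Subgroup.index_eq_card]
        have h5 := Subgroup.card_mul_index Q
        rw [Nat.card_congr (Subgroup.subgroupOfEquivOfLe hTM).toEquiv, h4, hM16] at h5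
        omega
      have hvw : v * w ∈ M := M.mul_mem hv hw
      have hall : ∀ q : M ⧸ Q, q ∈ ({((1 : M) : M ⧸ Q), ((⟨v, hv⟩ : M) : M ⧸ Q),
          ((⟨w, hw⟩ : M) : M ⧸ Q), ((⟨v * w, hvw⟩ : M) : M ⧸ Q)} : Finset (M ⧸ Q)) := by
        refine fun q => Finset.eq_univ_iff_forall.1 (Finset.eq_univ_of_card _ ?_) q
        rw [hQ4]
        have e1 : ∀ (p r : M), ((p : M) : M ⧸ Q) = (r : M ⧸ Q) ↔ ((p : S))⁻¹ * r ∈ T := fun p r => by
          rw [QuotientGroup.eq, hQ, Subgroup.mem_subgroupOf]; rfl
        have n1 : v ∉ T := hvT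
        have n2 : w ∉ T := hne.1
        have n3 : v⁻¹ * w ∉ T := hne.2
        have n4 : v * w ∉ T := fun h => n3 (by
          have hvv : v * v ∈ T := by
            by_contra hvv
            apply hMab
            intro a ha b hb
            -- a cyclic quotient over a central subgroup
            haveI : IsCyclic (M ⧸ Q) := by
              refine isCyclic_of_orderOf_eq_card ((⟨v, hv⟩ : M) : M ⧸ Q) ?_
              rw [Nat.card_eq_fintype_card, hQ4]
              refine (?_ : orderOf _ = 2 ^ 2).trans (by norm_num)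
              refine orderOf_eq_prime_pow (fun h2 => hvv ?_) ?_
              · rw [pow_one, pow_two, ← QuotientGroup.mk_mul, QuotientGroup.eq_one_iff] at h2
                exact h2
              · rw [show (2 : ℕ) ^ (1 + 1) = Fintype.card (M ⧸ Q) by rw [hQ4]; norm_num,
                  pow_card_eq_one]
            have hker : (QuotientGroup.mk' Q).ker ≤ Subgroup.center M := by
              rw [QuotientGroup.ker_mk']
              intro p hp
              exact Subgroup.mem_center_iff.2 fun r => Subtype.ext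
                (Subgroup.mem_centralizer_iff.1 r.2 _ (Subgroup.mem_subgroupOf.1 hp)).symm
            exact congrArg Subtype.val
              (commutative_of_cyclic_center_quotient (QuotientGroup.mk' Q) hker ⟨a, ha⟩ ⟨b, hb⟩)
          have e : v⁻¹ * w = (v * v)⁻¹ * (v * w) := by group
          rw [e]
          exact T.mul_mem (T.inv_mem hvv) h)
        rw [Finset.card_insert_of_notMem, Finset.card_insert_of_notMem, Finset.card_insert_of_notMem,
          Finset.card_singleton]
        · rw [Finset.mem_singleton, e1]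
          intro h
          refine n1 ?_
          have hh : w⁻¹ * (v * w) ∈ T := h
          rwa [← hwv, inv_mul_cancel_left] at hh
        · simp only [Finset.mem_insert, Finset.mem_singleton, e1, inv_mul_cancel_left, not_or]
          exact ⟨n3, n2⟩
        · simp only [Finset.mem_insert, Finset.mem_singleton, e1, Subgroup.coe_one, inv_one, one_mul,
            not_or]
          exact ⟨n1, n2, n4⟩
      have key : ∀ p ∈ M, p ∈ Subgroup.centralizer ({v, w} : Set S) := by
        intro p hp
        have h5 := hall ((⟨p, hp⟩ : M) : M ⧸ Q)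
        simp only [Finset.mem_insert, Finset.mem_singleton, QuotientGroup.eq, hQ,
          Subgroup.mem_subgroupOf, Subgroup.coe_mul, Subgroup.coe_inv, Subgroup.coe_one, mul_one] at h5
        have hTc : ∀ r ∈ T, r ∈ Subgroup.centralizer ({v, w} : Set S) := fun r hr q hq => by
          rcases hq with rfl | rfl
          · exact (Subgroup.mem_centralizer_iff.1 hv r hr).symm
          · exact (Subgroup.mem_centralizer_iff.1 hw r hr).symm
        have hv' : v ∈ Subgroup.centralizer ({v, w} : Set S) := fun q hq => by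
          rcases hq with rfl | rfl
          · rfl
          · exact hwv
        have hw' : w ∈ Subgroup.centralizer ({v, w} : Set S) := fun q hq => by
          rcases hq with rfl | rfl
          · exact hwv.symm
          · rfl
        set C' := Subgroup.centralizer ({v, w} : Set S)
        rcases h5 with h | h | h | h
        · simpa using C'.inv_mem (hTc _ h)
        · simpa using C'.mul_mem hv' (C'.inv_mem (hTc _ h))
        · simpa using C'.mul_mem hw' (C'.inv_mem (hTc _ h))
        · simpa [mul_assoc] using C'.mul_mem (C'.mul_mem hv' hw') (C'.inv_mem (hTc _ h))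
      have h5 := hall ((⟨a, ha⟩ : M) : M ⧸ Q)
      simp only [Finset.mem_insert, Finset.mem_singleton, QuotientGroup.eq, hQ,
        Subgroup.mem_subgroupOf, Subgroup.coe_mul, Subgroup.coe_inv, Subgroup.coe_one, mul_one] at h5
      have hb' := key b hb
      have hbv : Commute b v := (hb' v (Or.inl rfl)).symm
      have hbw : Commute b w := (hb' w (Or.inr rfl)).symm
      have hbT : ∀ r ∈ T, Commute b r := fun r hr => (Subgroup.mem_centralizer_iff.1 hb r hr).symm
      suffices h : Commute b a from h.symm.eq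
      rcases h5 with h | h | h | h
      · simpa using (hbT _ h).inv_right
      · simpa using hbv.mul_right (hbT _ h).inv_right
      · simpa using hbw.mul_right (hbT _ h).inv_right
      · simpa [mul_assoc] using (hbv.mul_right hbw).mul_right (hbT _ h).inv_right
    have hCv : ∀ v ∈ M, v ∉ T → 8 < Nat.card (cen v) → ∃ y ∈ cen v, y ∉ M := by
      intro v hv hvT h
      by_contra hall
      push Not at hall
      let f : ({p : S // p ∈ T} ⊕ {p : S // p ∈ T}) → cen v := Sum.elim
        (fun p => ⟨p.1, mem_cen.2 (Subgroup.mem_centralizer_iff.1 hv p.1 p.2)⟩)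
        (fun p => ⟨v * p.1, (cen v).mul_mem (self_mem_cen v)
          (mem_cen.2 (Subgroup.mem_centralizer_iff.1 hv p.1 p.2))⟩)
      have hf : Function.Surjective f := by
        intro p
        rcases hCM v hv hvT p.1 (hall _ p.2) (mem_cen.1 p.2) with h' | h'
        · exact ⟨Sum.inl ⟨_, h'⟩, rfl⟩
        · exact ⟨Sum.inr ⟨_, h'⟩, Subtype.ext (mul_inv_cancel_left v p.1)⟩
      have := Nat.card_le_card_of_surjective f hf
      rw [Nat.card_sum, show Nat.card {p : S // p ∈ T} = 4 from h4] at this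
      omega
    by_cases h8 : ∃ v : S, orderOf v = 8
    · left
      obtain ⟨v, hv⟩ := h8
      have hle : ∀ w : S, orderOf w = 8 → Nat.card (cen w) ≤ 8 := by
        intro w hw
        by_contra h
        have hwM := hbig w (by omega)
        have hwT : w ∉ T := fun hh => by
          have := Nat.le_of_dvd (by norm_num) (h4 ▸ Subgroup.orderOf_dvd_natCard T hh)
          omega
        obtain ⟨y, hy, hyM⟩ := hCv w hwM hwT (by omega)
        have hw2 : w * w ∈ T := by
          rcases hCM w hwM hwT (w * w) (M.mul_mem hwM hwM) (by group) with h' | h'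
          · exact h'
          · exact absurd (by simpa using h' : w ∈ T) hwT
        have hw2z : w * w ∉ Subgroup.zpowers z := fun hh => by
          have h5 : orderOf w ∣ 4 := orderOf_dvd_of_pow_eq_one (by
            rw [show (4 : ℕ) = 2 * 2 by norm_num, pow_mul, pow_two, pow_two]
            rcases hzp _ hh with e | e <;> rw [e]
            · rw [one_mul]
            · exact hz2)
          have := Nat.le_of_dvd (by norm_num) h5
          omega
        have e1 := hact y hyM _ hw2 hw2z
        have e2 : y * (w * w) * y⁻¹ = w * w :=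
          mem_cen_iff.1 (mem_cen.2 ((show Commute y w from mem_cen.1 hy).mul_right
            (show Commute y w from mem_cen.1 hy)).eq)
        rw [e2] at e1
        exact hz1 (left_eq_mul.1 e1)
      exact ⟨v, fun e => (by rw [e, orderOf_one] at hv; omega),
        le_antisymm (hle v hv) (eight_le_cen h32 h4 v), fun w hw => hle w (hw.trans hv)⟩
    · -- exponent four
      left
      push Not at h8
      have hexp : ∀ w : S, w ^ 4 = 1 := by
        intro w
        by_contra hw
        obtain ⟨k, hk⟩ := IsPGroup.iff_orderOf.1 hS w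
        have h3 := hord8 w hw
        have h5 : 3 ≤ k := by
          by_contra hlt
          have : 2 ^ k ≤ 2 ^ 2 := Nat.pow_le_pow_right two_pos (by omega)
          omega
        refine h8 (w ^ (2 ^ (k - 3))) ?_
        rw [orderOf_pow' w (pow_ne_zero _ two_ne_zero), hk,
          Nat.gcd_eq_right (pow_dvd_pow 2 (by omega)), Nat.pow_div (by omega) two_pos,
          show k - (k - 3) = 3 by omega]
        norm_num
      -- an element moved out of the central part
      obtain ⟨m, hm, hma⟩ : ∃ m ∈ M, x * m * x⁻¹ * m⁻¹ ∉ Subgroup.zpowers z := by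
        by_contra hall
        push Not at hall
        haveI : (Subgroup.zpowers z).Normal := ⟨fun a ha g => by rw [hnz a ha g]; exact ha⟩
        refine htz ((?_ : T ≤ Subgroup.zpowers z) htT)
        have hgx : ∀ p ∈ M, Commute ((x : S ⧸ Subgroup.zpowers z)) (p : S ⧸ Subgroup.zpowers z) :=
          fun p hp => by
            show _ = _
            rw [← mul_inv_eq_one, ← QuotientGroup.mk_mul, ← QuotientGroup.mk_mul,
              ← QuotientGroup.mk_inv, ← QuotientGroup.mk_mul, QuotientGroup.eq_one_iff,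
              show x * p * (p * x)⁻¹ = x * p * x⁻¹ * p⁻¹ by group]
            exact hall p hp
        have hMM : ∀ p ∈ M, ∀ q ∈ M,
            Commute ((p : S ⧸ Subgroup.zpowers z)) (q : S ⧸ Subgroup.zpowers z) := by
          intro p hp q hq
          show _ = _
          rw [← mul_inv_eq_one, ← QuotientGroup.mk_mul, ← QuotientGroup.mk_mul,
            ← QuotientGroup.mk_inv, ← QuotientGroup.mk_mul, QuotientGroup.eq_one_iff,
            show p * q * (q * p)⁻¹ = p * q * p⁻¹ * q⁻¹ by group]
          by_contra hne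
          have e1 := hact x hxM _ (hcomm p q) hne
          obtain ⟨a, haz, ea⟩ : ∃ a ∈ Subgroup.zpowers z, x * p * x⁻¹ = a * p :=
            ⟨_, hall p hp, (inv_mul_cancel_right _ _).symm⟩
          obtain ⟨b, hbz, eb⟩ : ∃ b ∈ Subgroup.zpowers z, x * q * x⁻¹ = b * q :=
            ⟨_, hall q hq, (inv_mul_cancel_right _ _).symm⟩
          have ca : ∀ g, Commute a g := fun g =>
            (Subgroup.mem_center_iff.1 ((Subgroup.zpowers_le.2 hzZ :) haz) g).symm
          have cb : ∀ g, Commute b g := fun g =>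
            (Subgroup.mem_center_iff.1 ((Subgroup.zpowers_le.2 hzZ :) hbz) g).symm
          have e2 : x * (p * q * p⁻¹ * q⁻¹) * x⁻¹ = p * q * p⁻¹ * q⁻¹ := by
            calc x * (p * q * p⁻¹ * q⁻¹) * x⁻¹
                = (x * p * x⁻¹) * (x * q * x⁻¹) * (x * p * x⁻¹)⁻¹ * (x * q * x⁻¹)⁻¹ := by group
              _ = a * (p * (b * q)) * (p⁻¹ * a⁻¹) * (q⁻¹ * b⁻¹) := by rw [ea, eb]; group
              _ = a * (b * (p * q * p⁻¹)) * a⁻¹ * (q⁻¹ * b⁻¹) := by
                  rw [← mul_assoc p b q, ← (cb p).eq]; group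
              _ = b * (p * q * p⁻¹ * q⁻¹) * b⁻¹ := by rw [(ca (b * (p * q * p⁻¹))).eq]; group
              _ = p * q * p⁻¹ * q⁻¹ := by rw [(cb _).eq, mul_inv_cancel_right]
          rw [e2] at e1
          exact hz1 (left_eq_mul.1 e1)
        have hdec : ∀ g : S, g ∈ M ∨ x⁻¹ * g ∈ M := fun g => by
          by_cases hg : g ∈ M
          · exact Or.inl hg
          · exact Or.inr ((Subgroup.mul_mem_iff_of_index_two hMidx).2 (by simp [inv_mem_iff, hxM, hg]))
        have hallc : ∀ g : S, ∀ q ∈ M,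
            Commute ((g : S ⧸ Subgroup.zpowers z)) (q : S ⧸ Subgroup.zpowers z) := by
          intro g q hq
          rcases hdec g with h | h
          · exact hMM g h q hq
          · have := (hgx q hq).mul_left (hMM _ h q hq)
            rwa [← QuotientGroup.mk_mul, mul_inv_cancel_left] at this
        rw [hTdef, _root_.commutator_def, Subgroup.commutator_le]
        intro a _ b _
        rw [← QuotientGroup.eq_one_iff, ← QuotientGroup.mk'_apply, map_commutatorElement,
          commutatorElement_eq_one_iff_mul_comm]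
        show Commute ((a : S ⧸ Subgroup.zpowers z)) (b : S ⧸ Subgroup.zpowers z)
        rcases hdec b with h | h
        · exact hallc a b h
        · have hax : Commute ((a : S ⧸ Subgroup.zpowers z)) (x : S ⧸ Subgroup.zpowers z) := by
            rcases hdec a with h' | h'
            · exact (hgx a h').symm
            · have := (Commute.refl ((x : S ⧸ Subgroup.zpowers z))).mul_left (hgx _ h').symm
              rwa [← QuotientGroup.mk_mul, mul_inv_cancel_left] at this
          have := hax.mul_right (hallc a _ h)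
          rwa [← QuotientGroup.mk_mul, mul_inv_cancel_left] at this
      set a := x * m * x⁻¹ * m⁻¹ with ha
      have haT : a ∈ T := hcomm x m
      have hxm : x * m * x⁻¹ = a * m := (inv_mul_cancel_right _ _).symm
      have ham : Commute a m := Subgroup.mem_centralizer_iff.1 hm a haT
      have hmT : m ∉ T := fun h => hma (by
        by_cases hmz : m ∈ Subgroup.zpowers z
        · rw [ha, hnz m hmz x, mul_inv_cancel]; exact one_mem _
        · rw [ha, hact x hxM m h hmz, Subgroup.mem_center_iff.1 hzZ m, mul_inv_cancel_right]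
          exact Subgroup.mem_zpowers z)
      have hm2 : m * m ∈ T := by
        rcases hCM m hm hmT (m * m) (M.mul_mem hm hm) (by group) with h | h
        · exact h
        · exact absurd (by simpa using h : m ∈ T) hmT
      -- the derived group has exponent two
      have ha2 : a * a = 1 := by
        have e : x * (m * m) * x⁻¹ = (a * a) * (m * m) := by
          rw [← conj_mul, hxm, ham.mul_mul_mul_comm]
        by_cases hmz : m * m ∈ Subgroup.zpowers z
        · rw [hnz _ hmz x] at e
          exact mul_eq_right.1 e.symm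
        · exfalso
          have h4m := hexp m
          rw [show (4 : ℕ) = 2 * 2 by norm_num, pow_mul, pow_two, pow_two] at h4m
          rw [hact x hxM _ hm2 hmz, Subgroup.mem_center_iff.1 hzZ (m * m)] at e
          have haa : a * a = z := (mul_right_cancel e).symm
          rcases hzp _ (hcover a haT (m * m) hm2 hma hmz) with h | h
          · have h1 : a = m * m := inv_mul_eq_one.1 h
            exact hz1 (by rw [← haa, h1, h4m])
          · have h1 : m * m = a * z := inv_mul_eq_iff_eq_mul.1 h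
            refine hz1 ?_
            rw [h1] at h4m
            calc z = a * a * (z * z) := by rw [hz2, mul_one, haa]
              _ = a * z * (a * z) := by
                  rw [(show Commute a z from Subgroup.mem_center_iff.1 hzZ a).symm.mul_mul_mul_comm]
              _ = 1 := h4m
      have hle : ∀ v : S, orderOf v = 4 → Nat.card (cen v) ≤ 8 := by
        intro v hv
        by_contra h
        have hvM := hbig v (by omega)
        have hTsq : ∀ b ∈ T, b * b = 1 := by
          intro b hb
          by_cases hbz : b ∈ Subgroup.zpowers z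
          · rcases hzp b hbz with e | e <;> rw [e]
            · exact one_mul 1
            · exact hz2
          · obtain ⟨r, hr, rfl⟩ : ∃ r ∈ Subgroup.zpowers z, b = a * r :=
              ⟨_, hcover a haT b hb hma hbz, (mul_inv_cancel_left _ b).symm⟩
            rcases hzp r hr with e | e <;> rw [e]
            · rw [mul_one, ha2]
            · rw [(show Commute a z from Subgroup.mem_center_iff.1 hzZ a).symm.mul_mul_mul_comm,
                ha2, hz2, one_mul]
        have hvT : v ∉ T := fun hh => by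
          have h5 : orderOf v ∣ 2 := orderOf_dvd_of_pow_eq_one (by rw [pow_two]; exact hTsq v hh)
          have := Nat.le_of_dvd two_pos h5
          omega
        obtain ⟨y, hy, hyM⟩ := hCv v hvM hvT (by omega)
        have hvy : Commute y v := mem_cen.1 hy
        have hy2M : y * y ∈ M := Subgroup.mul_self_mem_of_index_two hMidx y
        -- `y` moves some element of `M` out of the central part
        obtain ⟨q, hq, rfl⟩ : ∃ q ∈ M, y = x * q :=
          ⟨_, (Subgroup.mul_mem_iff_of_index_two hMidx).2 (by simp [inv_mem_iff, hxM, hyM]),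
            (mul_inv_cancel_left _ y).symm⟩
        set a' := x * q * m * (x * q)⁻¹ * m⁻¹ with ha'
        have hqm : q * m * q⁻¹ * m⁻¹ ∈ Subgroup.zpowers z := by
          by_contra hne
          have hqmT : q * m * q⁻¹ * m⁻¹ ∈ T := hcomm q m
          -- commutators inside `M` are fixed outside `M`
          have e1 := hact x hxM _ hqmT hne
          obtain ⟨b, hbT, eb⟩ : ∃ b ∈ T, x * q * x⁻¹ = b * q :=
            ⟨_, hcomm x q, (inv_mul_cancel_right _ _).symm⟩
          have cb : ∀ g ∈ M, Commute b g := fun g hg => Subgroup.mem_centralizer_iff.1 hg b hbT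
          have cam : ∀ g ∈ M, Commute a g := fun g hg => Subgroup.mem_centralizer_iff.1 hg a haT
          have e2 : x * (q * m * q⁻¹ * m⁻¹) * x⁻¹ = q * m * q⁻¹ * m⁻¹ := by
            calc x * (q * m * q⁻¹ * m⁻¹) * x⁻¹
                = (x * q * x⁻¹) * (x * m * x⁻¹) * (x * q * x⁻¹)⁻¹ * (x * m * x⁻¹)⁻¹ := by group
              _ = b * (q * a) * m * (q⁻¹ * b⁻¹) * (m⁻¹ * a⁻¹) := by rw [eb, hxm]; group
              _ = b * (a * (q * m * q⁻¹)) * b⁻¹ * (m⁻¹ * a⁻¹) := by
                  rw [← (cam q hq).eq]; group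
              _ = a * (q * m * q⁻¹) * (m⁻¹ * a⁻¹) := by
                  rw [(cb _ (M.mul_mem (hTM haT) (M.mul_mem (M.mul_mem hq hm) (M.inv_mem hq)))).eq]
                  group
              _ = a * (q * m * q⁻¹ * m⁻¹) * a⁻¹ := by group
              _ = q * m * q⁻¹ * m⁻¹ := by rw [(cam _ (hTM hqmT)).eq, mul_inv_cancel_right]
          rw [e2] at e1
          exact hz1 (left_eq_mul.1 e1)
        have ha'z : a' ∉ Subgroup.zpowers z := by
          intro h'
          refine hma ?_
          have e : a' = x * (q * m * q⁻¹ * m⁻¹) * x⁻¹ * a := by rw [ha', ha]; group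
          rw [hnz _ hqm x] at e
          rw [e] at h'
          exact (Subgroup.mul_mem_cancel_left _ hqm).1 h'
        have ha'T : a' ∈ T := hcomm (x * q) m
        have hym : x * q * m * (x * q)⁻¹ = a' * m := (inv_mul_cancel_right _ _).symm
        have hmove : (x * q * (x * q)) * m * (x * q * (x * q))⁻¹ ≠ m := fun e => hz1 (by
          rw [show (x * q * (x * q)) * m * (x * q * (x * q))⁻¹ =
            x * q * (x * q * m * (x * q)⁻¹) * (x * q)⁻¹ by group, hym, ← conj_mul, hym,
            hact _ hyM a' ha'T ha'z] at e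
          have : a' * z * a' = 1 := mul_eq_right.1 (by rw [← mul_assoc] at e; exact e)
          rwa [mul_assoc, ← Subgroup.mem_center_iff.1 hzZ a', ← mul_assoc, hTsq a' ha'T, one_mul]
            at this)
        have hy2 : v⁻¹ * (x * q * (x * q)) ∈ T := by
          rcases hCM v hvM hvT _ hy2M ((hvy.mul_left hvy).eq) with h' | h'
          · exact absurd (by rw [Subgroup.mem_centralizer_iff.1 hm _ h', mul_inv_cancel_right]) hmove
          · exact h'
        obtain ⟨r, hr, er⟩ : ∃ r ∈ T, x * q * (x * q) = v * r :=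
          ⟨_, hy2, (mul_inv_cancel_left _ _).symm⟩
        have h5 : v * v = 1 := by
          have e := hexp (x * q)
          rw [show (4 : ℕ) = 2 * 2 by norm_num, pow_mul, pow_two, pow_two, er,
            (show Commute r v from Subgroup.mem_centralizer_iff.1 hvM r hr).mul_mul_mul_comm,
            hTsq r hr, mul_one] at e
          exact e
        have h6 : orderOf v ∣ 2 := orderOf_dvd_of_pow_eq_one (by rw [pow_two]; exact h5)
        have := Nat.le_of_dvd two_pos h6
        omega
      obtain ⟨w, hw⟩ : ∃ w : S, w * w ≠ 1 := by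
        by_contra h
        push Not at h
        refine hMab fun p hp q hq => ?_
        calc p * q = p * (p * q * (p * q)) * q := by rw [h (p * q), mul_one]
          _ = (p * p) * (q * p) * (q * q) := by group
          _ = q * p := by rw [h p, h q, one_mul, mul_one]
      have hw4 : orderOf w = 4 := hord w hw (by
        have := hexp w
        rwa [show (4 : ℕ) = 2 * 2 by norm_num, pow_mul, pow_two, pow_two] at this)
      exact ⟨w, fun e => hw (by rw [e, one_mul]),
        le_antisymm (hle w hw4) (eight_le_cen h32 h4 w), fun v hv => hle v (hv.trans hw4)⟩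
  -- `M` abelian
  have hθmul : ∀ p ∈ M, ∀ q ∈ M,
      x * (p * q) * x⁻¹ * (p * q)⁻¹ = (x * p * x⁻¹ * p⁻¹) * (x * q * x⁻¹ * q⁻¹) := by
    intro p hp q hq
    have h1 : Commute p (x * q * x⁻¹ * q⁻¹) := hMab p hp _ (hTM (hcomm x q))
    calc x * (p * q) * x⁻¹ * (p * q)⁻¹
        = (x * p * x⁻¹ * p⁻¹) * (p * (x * q * x⁻¹ * q⁻¹)) * p⁻¹ := by group
      _ = (x * p * x⁻¹ * p⁻¹) * ((x * q * x⁻¹ * q⁻¹) * p) * p⁻¹ := by rw [h1.eq]
      _ = _ := by group
  let θ : M →* S :=
    { toFun := fun p => x * p * x⁻¹ * (p : S)⁻¹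
      map_one' := by simp
      map_mul' := fun p q => hθmul p p.2 q q.2 }
  have hθZ : ∀ p : M, θ p = 1 → (p : S) ∈ Z := by
    intro p hp
    refine Subgroup.mem_center_iff.2 fun g => ?_
    have hxp : Commute x (p : S) := mul_inv_eq_iff_eq_mul.1 (mul_inv_eq_one.1 hp)
    by_cases hg : g ∈ M
    · exact hMab g hg p p.2
    · obtain ⟨q, hq, rfl⟩ : ∃ q ∈ M, g = x * q :=
        ⟨_, (Subgroup.mul_mem_iff_of_index_two hMidx).2 (by simp [inv_mem_iff, hxM, hg]),
          (mul_inv_cancel_left _ g).symm⟩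
      exact (hxp.mul_left (hMab q hq p p.2)).eq
  have hZM : Z ≤ M := fun p hp b hb => (Subgroup.mem_center_iff.1 hp b)
  have hθ1 : ∀ p ∈ Z, ∀ h : p ∈ M, θ ⟨p, h⟩ = 1 := fun p hp h => by
    show x * p * x⁻¹ * p⁻¹ = 1
    rw [Subgroup.mem_center_iff.1 hp x]; group
  have hrange : θ.range = T := by
    refine le_antisymm (by rintro _ ⟨p, rfl⟩; exact hcomm x p) ?_
    have hn : ∀ g : S, ∀ a ∈ θ.range, g * a * g⁻¹ ∈ θ.range := by
      rintro g _ ⟨p, rfl⟩
      by_cases hg : g ∈ M
      · refine ⟨p, ?_⟩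
        show x * p * x⁻¹ * (p : S)⁻¹ = g * (x * p * x⁻¹ * (p : S)⁻¹) * g⁻¹
        rw [hMab g hg _ (hTM (hcomm x p)), mul_inv_cancel_right]
      · obtain ⟨q, hq, rfl⟩ : ∃ q ∈ M, g = x * q :=
          ⟨_, (Subgroup.mul_mem_iff_of_index_two hMidx).2 (by simp [inv_mem_iff, hxM, hg]),
            (mul_inv_cancel_left _ g).symm⟩
        refine ⟨⟨x * p * x⁻¹, hMn.conj_mem p p.2 x⟩, ?_⟩
        show x * (x * p * x⁻¹) * x⁻¹ * (x * p * x⁻¹)⁻¹ = x * q * (x * p * x⁻¹ * (p : S)⁻¹) * (x * q)⁻¹
        rw [show x * q * (x * p * x⁻¹ * (p : S)⁻¹) * (x * q)⁻¹ =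
          x * (q * (x * p * x⁻¹ * (p : S)⁻¹) * q⁻¹) * x⁻¹ by group,
          hMab q hq _ (hTM (hcomm x p)), mul_inv_cancel_right]
        group
    haveI : θ.range.Normal := ⟨fun a ha g => hn g a ha⟩
    have hxM' : ∀ q ∈ M, Commute ((x : S ⧸ θ.range)) (q : S ⧸ θ.range) := fun q hq => by
      show _ = _
      rw [← mul_inv_eq_one, ← QuotientGroup.mk_mul, ← QuotientGroup.mk_mul,
        ← QuotientGroup.mk_inv, ← QuotientGroup.mk_mul, QuotientGroup.eq_one_iff,
        show x * q * (q * x)⁻¹ = x * q * x⁻¹ * q⁻¹ by group]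
      exact ⟨⟨q, hq⟩, rfl⟩
    have hdec : ∀ g : S, ∃ q ∈ M, g = q ∨ g = x * q := fun g => by
      by_cases hg : g ∈ M
      · exact ⟨g, hg, Or.inl rfl⟩
      · exact ⟨_, (Subgroup.mul_mem_iff_of_index_two hMidx).2 (by simp [inv_mem_iff, hxM, hg]),
          Or.inr (mul_inv_cancel_left x g).symm⟩
    rw [hTdef, _root_.commutator_def, Subgroup.commutator_le]
    intro a _ b _
    rw [← QuotientGroup.eq_one_iff, ← QuotientGroup.mk'_apply, map_commutatorElement,
      commutatorElement_eq_one_iff_mul_comm]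
    show Commute ((a : S ⧸ θ.range)) (b : S ⧸ θ.range)
    obtain ⟨p, hp, ha⟩ := hdec a
    obtain ⟨q, hq, hb⟩ := hdec b
    have hpq : Commute ((p : S ⧸ θ.range)) (q : S ⧸ θ.range) := by
      show _ = _
      rw [← QuotientGroup.mk_mul, ← QuotientGroup.mk_mul, hMab p hp q hq]
    rcases ha with rfl | rfl <;> rcases hb with rfl | rfl <;> (try rw [QuotientGroup.mk_mul]) <;>
      (try rw [QuotientGroup.mk_mul])
    · exact hpq
    · exact (hxM' a hp).symm.mul_right hpq
    · exact (hxM' b hq).mul_left hpq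
    · exact ((Commute.refl _).mul_right (hxM' q hq)).mul_left ((hxM' p hp).symm.mul_right hpq)
  obtain ⟨mm, hmm⟩ : ∃ mm : M, θ mm ∉ Subgroup.zpowers z := by
    obtain ⟨mm, hmm⟩ : t ∈ θ.range := hrange ▸ htT
    exact ⟨mm, hmm ▸ htz⟩
  obtain ⟨m, hm⟩ := mm
  set d := x * m * x⁻¹ * m⁻¹ with hd
  change d ∉ Subgroup.zpowers z at hmm
  have hdT : d ∈ T := hcomm x m
  have hxm : x * m * x⁻¹ = d * m := (inv_mul_cancel_right _ _).symm
  have hxd : x * d * x⁻¹ = d * z := hact x hxM d hdT hmm
  have hx2 : x * x ∈ M := Subgroup.mul_self_mem_of_index_two hMidx x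
  have hdd : d * d = z := by
    have e : (x * x) * m * (x * x)⁻¹ = m := by rw [hMab _ hx2 m hm, mul_inv_cancel_right]
    rw [show (x * x) * m * (x * x)⁻¹ = x * (x * m * x⁻¹) * x⁻¹ by group, hxm, ← conj_mul, hxd, hxm,
      ← mul_assoc, mul_eq_right, mul_assoc, ← Subgroup.mem_center_iff.1 hzZ d, ← mul_assoc] at e
    rw [← inv_eq_of_mul_eq_one_left e]
    exact inv_eq_of_mul_eq_one_right hz2
  have hzpowd : T = Subgroup.zpowers d := by
    refine (Subgroup.eq_of_le_of_card_ge (Subgroup.zpowers_le.2 hdT) ?_).symm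
    rw [h4, Nat.card_zpowers]
    refine (hord d (by rw [hdd]; exact hz1) (by rw [hdd, hz2])).ge
  have hd4 : d ^ 4 = 1 := by
    rw [show (4 : ℕ) = 2 * 2 by norm_num, pow_mul, pow_two, pow_two, hdd, hz2]
  -- `M` is generated by the centre and `m`
  have hMgen : ∀ p ∈ M, ∃ i : ℕ, (m ^ i)⁻¹ * p ∈ Z := by
    intro p hp
    obtain ⟨i, hi⟩ : θ ⟨p, hp⟩ ∈ Submonoid.powers d := by
      rw [mem_powers_iff_mem_zpowers, ← hzpowd, ← hrange]; exact ⟨_, rfl⟩
    refine ⟨i, hθZ ⟨_, M.mul_mem (M.inv_mem (M.pow_mem hm i)) hp⟩ ?_⟩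
    rw [show (⟨(m ^ i)⁻¹ * p, M.mul_mem (M.inv_mem (M.pow_mem hm i)) hp⟩ : M) =
      ((⟨m, hm⟩ : M) ^ i)⁻¹ * ⟨p, hp⟩ from Subtype.ext (by simp), map_mul, map_inv, map_pow, ← hi]
    exact inv_mul_cancel _
  have hZ4 : Nat.card Z = 4 := by
    have h1 := Subgroup.card_mul_index θ.ker
    rw [Subgroup.index_ker, hrange, h4, hM16] at h1
    have h2 : Nat.card θ.ker = Nat.card Z := Nat.card_congr
      { toFun := fun p => ⟨p.1.1, hθZ p.1 p.2⟩
        invFun := fun p => ⟨⟨p.1, hZM p.2⟩, hθ1 p.1 p.2 _⟩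
        left_inv := fun p => rfl
        right_inv := fun p => rfl }
    omega
  set z0 := (m * m)⁻¹ * d with hz0
  have hz0Z : z0 ∈ Z := by
    refine hθZ ⟨z0, M.mul_mem (M.inv_mem (M.mul_mem hm hm)) (hTM hdT)⟩ ?_
    show x * z0 * x⁻¹ * z0⁻¹ = 1
    rw [hz0, hθmul _ (M.inv_mem (M.mul_mem hm hm)) d (hTM hdT), hxd,
      show d * z * d⁻¹ = z by rw [Subgroup.mem_center_iff.1 hzZ d, mul_inv_cancel_right],
      show x * (m * m)⁻¹ * x⁻¹ * (m * m)⁻¹⁻¹ = (x * m * x⁻¹ * (x * m * x⁻¹))⁻¹ * (m * m) by simp [mul_assoc],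
      hxm, (show Commute m d from hMab m hm d (hTM hdT)).mul_mul_mul_comm, mul_inv_rev, hdd,
      inv_eq_of_mul_eq_one_right hz2, mul_assoc ((m * m)⁻¹) z (m * m),
      ← Subgroup.mem_center_iff.1 hzZ (m * m), inv_mul_cancel_left, hz2]
  have hdeq : d = m * m * z0 := (mul_inv_cancel_left _ _).symm
  have hm4Z : m ^ 4 ∈ Z := by
    refine hθZ ⟨_, M.pow_mem hm 4⟩ ?_
    rw [show (⟨m ^ 4, M.pow_mem hm 4⟩ : M) = (⟨m, hm⟩ : M) ^ 4 from rfl, map_pow]
    exact hd4
  have hz04 : ∀ p ∈ Z, p ^ 4 = 1 := fun p hp => by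
    have : orderOf p ∣ 4 := hZ4 ▸ Subgroup.orderOf_dvd_natCard Z hp
    exact orderOf_dvd_iff_pow_eq_one.1 this
  have hd2 : z = m ^ 4 * (z0 * z0) := by
    rw [← hdd, hdeq, (show Commute z0 (m * m) from
      (Subgroup.mem_center_iff.1 hz0Z (m * m)).symm).mul_mul_mul_comm,
      show m ^ 4 = m * m * (m * m) by
        rw [show (4 : ℕ) = 2 * 2 by norm_num, pow_mul, pow_two, pow_two]]
  have hx2Z : x * x ∈ Z := by
    refine hθZ ⟨_, hx2⟩ ?_
    show x * (x * x) * x⁻¹ * (x * x)⁻¹ = 1
    group
  have hxm2 : x * m * (x * m) = x * x * (z0 * m ^ 4) := by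
    have e1 : Commute (x * m * x⁻¹) (x * x) := hMab _ (hMn.conj_mem m hm x) _ hx2
    rw [show x * m * (x * m) = (x * m * x⁻¹) * (x * x) * m by group, e1.eq, hxm,
      mul_assoc (x * x), mul_assoc d, hdeq, mul_assoc (m * m),
      ← Subgroup.mem_center_iff.1 hz0Z, show m ^ 4 = m * m * (m * m) by
        rw [show (4 : ℕ) = 2 * 2 by norm_num, pow_mul, pow_two, pow_two],
      ← Subgroup.mem_center_iff.1 hz0Z (m * m * (m * m))]
    group
  by_cases hm4 : m ^ 4 = 1
  · -- elements of order eight lie outside `M`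
    left
    rw [hm4, one_mul] at hd2
    have hz0' : z0 * z0 ≠ 1 := fun e => hz1 (hd2.trans e)
    have hexpM : ∀ p ∈ M, p ^ 4 = 1 := by
      intro p hp
      obtain ⟨i, hi⟩ := hMgen p hp
      rw [show p = m ^ i * ((m ^ i)⁻¹ * p) by group,
        (show Commute (m ^ i) ((m ^ i)⁻¹ * p) from Subgroup.mem_center_iff.1 hi (m ^ i)).mul_pow, hz04 _ hi,
        mul_one, ← pow_mul, mul_comm, pow_mul, hm4, one_pow]
    obtain ⟨u, hu, hu4⟩ : ∃ u, u ∉ M ∧ u ^ 4 ≠ 1 := by
      by_cases hx4 : x ^ 4 = 1
      · refine ⟨x * m, fun h => hxM ((Subgroup.mul_mem_cancel_right M hm).1 h), fun e => hz0' ?_⟩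
        rw [show (4 : ℕ) = 2 * 2 by norm_num, pow_mul, pow_two, pow_two] at e hx4
        rw [hxm2, hm4, mul_one, (show Commute z0 (x * x) from
          (Subgroup.mem_center_iff.1 hz0Z _).symm).mul_mul_mul_comm, hx4, one_mul] at e
        exact e
      · exact ⟨x, hxM, hx4⟩
    refine ⟨u, fun e => hu (e ▸ M.one_mem), height u hu, fun v hv => ?_⟩
    have hv' : v ∉ M := fun h => by
      have h5 : orderOf v ∣ 4 := orderOf_dvd_of_pow_eq_one (hexpM v h)
      have := Nat.le_of_dvd (by norm_num) h5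
      have := hord8 u hu4
      omega
    exact (height v hv').le
  have hm8 : m ^ 8 = 1 := by
    have h1 : d ^ 4 = (m * m) ^ 4 * z0 ^ 4 := by
      rw [hdeq, (show Commute (m * m) z0 from Subgroup.mem_center_iff.1 hz0Z (m * m)).mul_pow]
    rw [hd4, hz04 z0 hz0Z, mul_one, ← pow_two, ← pow_mul] at h1
    exact h1.symm
  have hordm : orderOf m = 8 := by
    refine (orderOf_eq_prime_pow (p := 2) (n := 2) ?_ ?_).trans (by norm_num) <;> norm_num
    · exact hm4
    · exact hm8
  have hζ2 : m ^ 4 * m ^ 4 = 1 := by rw [← pow_add]; exact hm8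
  by_cases hb0 : z0 ∈ Subgroup.zpowers (m ^ 4)
  · -- the column case
    right; right
    obtain ⟨j, hj, hj'⟩ : ∃ j, (j = 3 ∨ j = 7) ∧ x * m * x⁻¹ = m ^ j := by
      obtain ⟨i, hi⟩ := hb0
      rcases Int.even_or_odd' i with ⟨k, rfl | rfl⟩
      · refine ⟨3, Or.inl rfl, ?_⟩
        simp only [zpow_mul, zpow_two, hζ2, one_zpow] at hi
        rw [hxm, hdeq, ← hi, mul_one, ← pow_two, ← pow_succ]
      · refine ⟨7, Or.inr rfl, ?_⟩
        simp only [zpow_add, zpow_mul, zpow_two, hζ2, one_zpow, one_mul, zpow_one] at hi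
        rw [hxm, hdeq, ← hi, ← pow_two, ← pow_add, ← pow_succ]
    have hC16 : Nat.card (cen m) = 16 := by
      have hle : M ≤ cen m := fun p hp => mem_cen.2 (hMab p hp m hm)
      have hne : cen m ≠ ⊤ := fun e => hmm (by
        rw [hd, mem_cen_iff.1 (e ▸ Subgroup.mem_top x), mul_inv_cancel]; exact one_mem _)
      have h1 := Subgroup.card_le_of_le hle
      obtain ⟨i, hi⟩ := (hS.to_subgroup (cen m)).exists_card_eq
      have h2 : Nat.card (cen m) ≠ 32 := fun e => hne (Subgroup.eq_top_of_card_eq _ (e.trans h32.symm))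
      have h3 : Nat.card (cen m) ≤ 32 := h32 ▸ Subgroup.card_le_card_group _
      rw [hi] at h1 h2 h3 ⊢
      have : i ≤ 5 := (Nat.pow_le_pow_iff_right (show 1 < 2 by norm_num)).1 (h3.trans (by norm_num))
      interval_cases i <;> omega
    refine ⟨m, x, j, hj, hordm, hC16, hj', fun w hw => ?_⟩
    by_contra h
    have hw' : cen w = ⊤ := by
      obtain ⟨i, hi⟩ := (hS.to_subgroup (cen w)).exists_card_eq
      have h3 : Nat.card (cen w) ≤ 32 := h32 ▸ Subgroup.card_le_card_group _
      refine Subgroup.eq_top_of_card_eq _ ?_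
      rw [hi] at h h3
      have : i ≤ 5 := (Nat.pow_le_pow_iff_right (show 1 < 2 by norm_num)).1 (h3.trans (by norm_num))
      rw [h32, hi]
      interval_cases i <;> omega
    have hwZ : w ∈ Z := Subgroup.mem_center_iff.2 fun g => mem_cen.1 (hw' ▸ Subgroup.mem_top g)
    have := Nat.le_of_dvd (by norm_num) (orderOf_dvd_of_pow_eq_one (hz04 w hwZ))
    omega
  -- the fused case
  right; left
  have hζne : m ^ 4 ≠ 1 := hm4
  have hz0sq : z0 * z0 = 1 := by
    by_contra h
    have hord0 : orderOf z0 = 4 := hord z0 h (by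
      have := hz04 z0 hz0Z
      rwa [show (4 : ℕ) = 2 * 2 by norm_num, pow_mul, pow_two, pow_two] at this)
    have heq : Subgroup.zpowers z0 = Z := Subgroup.eq_of_le_of_card_ge (Subgroup.zpowers_le.2 hz0Z)
      (by rw [hZ4, Nat.card_zpowers, hord0])
    obtain ⟨i, hi⟩ := mem_powers_iff_mem_zpowers.2 (show m ^ 4 ∈ Subgroup.zpowers z0 from heq.symm ▸ hm4Z)
    simp only at hi
    rcases Nat.even_or_odd' i with ⟨k, rfl | rfl⟩
    · rcases Nat.even_or_odd' k with ⟨l, rfl | rfl⟩
      · refine hζne ?_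
        rw [← hi, show 2 * (2 * l) = 4 * l by ring, pow_mul, hz04 z0 hz0Z, one_pow]
      · refine hz1 ?_
        rw [hd2, ← hi, show 2 * (2 * l + 1) = 4 * l + 2 by ring, pow_add, pow_mul, hz04 z0 hz0Z,
          one_pow, one_mul, pow_two,
          show z0 * z0 * (z0 * z0) = z0 ^ 4 by
            rw [show (4 : ℕ) = 2 * 2 by norm_num, pow_mul, pow_two, pow_two],
          hz04 z0 hz0Z]
    · refine h ?_
      rw [← hi, ← pow_add, show 2 * k + 1 + (2 * k + 1) = 4 * k + 2 by ring, pow_add, pow_mul,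
        hz04 z0 hz0Z, one_pow, one_mul, pow_two] at hζ2
      exact hζ2
  have hζz : m ^ 4 = z := by rw [hd2, hz0sq, mul_one]
  rw [hζz] at hb0 hxm2
  have hZall : ∀ p ∈ Z, p = 1 ∨ p = z ∨ p = z0 ∨ p = z0 * z := by
    intro p hp
    by_contra hne
    push Not at hne
    haveI := Fintype.ofFinite Z
    have n1 : z0 ≠ 1 := fun e => hb0 (e ▸ one_mem _)
    have n2 : z0 ≠ z := fun e => hb0 (e ▸ Subgroup.mem_zpowers z)
    have n3 : z0 * z ≠ 1 := fun e => n2 (by
      rw [eq_inv_of_mul_eq_one_left e, inv_eq_of_mul_eq_one_right hz2])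
    have n4 : z0 * z ≠ z := fun e => n1 (mul_eq_right.1 e)
    have n5 : z0 * z ≠ z0 := fun e => hz1 (mul_eq_left.1 e)
    have h5 : ({⟨1, Z.one_mem⟩, ⟨z, hzZ⟩, ⟨z0, hz0Z⟩, ⟨z0 * z, Z.mul_mem hz0Z hzZ⟩, ⟨p, hp⟩} :
        Finset Z).card = 5 := by
      simp [Finset.card_insert_of_notMem, Ne.symm hz1, Ne.symm n1, Ne.symm n2, Ne.symm n3,
        Ne.symm n4, Ne.symm n5, Ne.symm hne.1, Ne.symm hne.2.1, Ne.symm hne.2.2.1, Ne.symm hne.2.2.2]
    have h6 := Finset.card_le_univ ({⟨1, Z.one_mem⟩, ⟨z, hzZ⟩, ⟨z0, hz0Z⟩,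
      ⟨z0 * z, Z.mul_mem hz0Z hzZ⟩, ⟨p, hp⟩} : Finset Z)
    rw [h5, ← Nat.card_eq_fintype_card, hZ4] at h6
    omega
  obtain ⟨u, hu, huz, huZ'⟩ : ∃ u, u ∉ M ∧ u * u ∈ Z ∧ u * u ∉ Subgroup.zpowers z := by
    by_cases hx' : x * x ∈ Subgroup.zpowers z
    · refine ⟨x * m, fun h => hxM ((Subgroup.mul_mem_cancel_right M hm).1 h),
        hxm2 ▸ Z.mul_mem hx2Z (Z.mul_mem hz0Z hzZ), fun h => hb0 ?_⟩
      rw [hxm2] at h
      exact (Subgroup.mul_mem_cancel_right _ (Subgroup.mem_zpowers z)).1
        ((Subgroup.mul_mem_cancel_left _ hx').1 h)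
    · exact ⟨x, hxM, hx2Z, hx'⟩
  have hZsq : ∀ p ∈ Z, p * p = 1 := fun p hp => by
    rcases hZall p hp with rfl | rfl | rfl | rfl
    · exact one_mul 1
    · exact hz2
    · exact hz0sq
    · rw [(show Commute z z0 from (Subgroup.mem_center_iff.1 hzZ z0).symm).mul_mul_mul_comm,
        hz0sq, hz2, one_mul]
  have hu4 : orderOf u = 4 := hord u (fun e => huZ' (e ▸ one_mem _)) (hZsq _ huz)
  refine ⟨u, z, fun e => hu (e ▸ M.one_mem), height u hu, huz, hzZ,
    fun e => huZ' (e ▸ Subgroup.mem_zpowers z), fun ψ hψ => ?_, fun v hv hv8 => ?_⟩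
  · have h1 : ψ d ∈ T := by
      have := Subgroup.map_commutator (⊤ : Subgroup S) ⊤ ψ
      have h2 : ψ d ∈ (commutator S).map ψ := ⟨d, hdT, rfl⟩
      rw [_root_.commutator_def, this] at h2
      exact Subgroup.commutator_mono le_top le_top h2
    have h3 : ψ d * ψ d ≠ 1 := fun e => hz1 (hψ (by rw [← hdd, map_mul, e, map_one]))
    have hnz' : ψ d ∉ Subgroup.zpowers z := fun h => h3 (by
      rcases hzp _ h with e | e <;> rw [e]
      · exact one_mul 1
      · exact hz2)
    rw [← hdd, map_mul, hdd]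
    rcases hzp _ (hcover d hdT _ h1 hmm hnz') with e | e
    · rw [← inv_mul_eq_one.1 e, hdd]
    · rw [inv_mul_eq_iff_eq_mul.1 e,
        (show Commute z d from (Subgroup.mem_center_iff.1 hzZ d).symm).mul_mul_mul_comm, hdd, hz2,
        mul_one]
  · have hvM := hbig v hv8
    obtain ⟨i, hi⟩ := hMgen v hvM
    have e : v * v = m ^ i * m ^ i := by
      calc v * v = m ^ i * ((m ^ i)⁻¹ * v) * (m ^ i * ((m ^ i)⁻¹ * v)) := by group
        _ = m ^ i * m ^ i * (((m ^ i)⁻¹ * v) * ((m ^ i)⁻¹ * v)) :=
            (show Commute ((m ^ i)⁻¹ * v) (m ^ i) from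
              (Subgroup.mem_center_iff.1 hi _).symm).mul_mul_mul_comm _ _
        _ = m ^ i * m ^ i := by rw [hZsq _ hi, mul_one]
    have hv2 : v * v ≠ 1 := fun e' => by
      have h5 : orderOf v ∣ 2 := orderOf_dvd_of_pow_eq_one (by rw [pow_two]; exact e')
      have := Nat.le_of_dvd two_pos h5
      omega
    have hv4 : (v * v) * (v * v) = 1 := by
      have := pow_orderOf_eq_one v
      rwa [hv, hu4, show (4 : ℕ) = 2 * 2 by norm_num, pow_mul, pow_two, pow_two] at this
    rw [e, ← pow_add, ← pow_add] at hv4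
    rw [e, ← pow_add]
    have h8 : 8 ∣ i + i + (i + i) := hordm ▸ orderOf_dvd_of_pow_eq_one hv4
    obtain ⟨k, hk⟩ : 4 ∣ i + i := by omega
    rcases Nat.even_or_odd' k with ⟨l, rfl | rfl⟩
    · exact absurd (by rw [e, ← pow_add, hk, ← mul_assoc, pow_mul,
        show (4 : ℕ) * 2 = 8 by norm_num, hm8, one_pow]) hv2
    · rw [hk, show 4 * (2 * l + 1) = 8 * l + 4 by ring, pow_add, pow_mul, hm8, one_pow, one_mul, hζz]

end CfsgLib.Blocks.OlssonFive.Grp
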