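import Cfsg.Agent.Lib.Blocks.OlssonFive.Bound2

/-!
# An elementary centraliser of order eight on which the defect group induces all transvections
fixing a hyperplane
-/

namespace CfsgLib.Blocks.OlssonFive

open Cfsg CfsgLib.CharTheory

set_option linter.unusedVariables false
set_option linter.unusedSimpArgs false
set_option linter.style.haveILetI false
set_option linter.unusedSectionVars false

universe u

variable {M : Ideal AlgInt} {G : Type u} [Group G] [Fintype G]
  {B : Set (IrrCharacter G)} {P : Subgroup G}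
  {c : Set (IrrCharacter (Subgroup.centralizer (P : Set G)))}

/-- If a Sylow subgroup has exponent two, so does every element of order dividing four. -/
theorem sq_of_pow_four {A : Type u} [Group A] [Finite A] (R : Sylow 2 A)
    (hR : ∀ r ∈ (R : Subgroup A), r * r = 1) {x : A} (hx : x ^ 4 = 1) : x * x = 1 := by
  haveI : Fact (Nat.Prime 2) := ⟨Nat.prime_two⟩
  have hz : IsPGroup 2 (Subgroup.zpowers x) := by
    obtain ⟨j, -, hj⟩ := (Nat.dvd_prime_pow Nat.prime_two).1
      (orderOf_dvd_of_pow_eq_one (show x ^ (2 ^ 2) = 1 from hx))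
    exact IsPGroup.of_card (n := j) (by rw [Nat.card_zpowers, hj])
  obtain ⟨Q, hQ⟩ := hz.exists_le_sylow
  obtain ⟨g, rfl⟩ := MulAction.exists_smul_eq A R Q
  have h := hQ (Subgroup.mem_zpowers x)
  rw [Sylow.coe_subgroup_smul, Subgroup.mem_pointwise_smul_iff_inv_smul_mem] at h
  have h2 := hR _ h
  rw [← smul_mul'] at h2
  have h3 := congrArg (fun y => MulAut.conj g • y) h2
  simpa [smul_one, mul_assoc] using h3

/-- An elementary centraliser of order eight with all transvections fixing a central hyperplane. -/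
theorem kZero_le_transvection (hM : IsPModular 2 M) {F : FusionSystem P}
    (hF : IsBlockFusionSystemOn 2 M B P c F) {u : G} (hu : u ∈ P) {E : Subgroup G}
    (hE : E = centP P u) (hE8 : Nat.card E = 8) (hnorm : P ≤ Subgroup.normalizer (E : Set G))
    (hexp : ∀ x ∈ E, x * x = 1) (Z : Subgroup G) (hZE : Z ≤ E) (hZ4 : Nat.card Z = 4)
    (hZc : ∀ z ∈ Z, ∀ g ∈ P, g * z * g⁻¹ = z) (huZ : u ∉ Z)
    (hcos : ∀ x ∈ E, x ∈ Z ∨ u⁻¹ * x ∈ Z)
    (htr : ∀ k ∈ E, k ∉ Z → ∀ h ∈ Z, ∃ g ∈ P, g * k * g⁻¹ = k * h) :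
    kZero B ≤ 8 := by
  classical
  haveI : Fact (Nat.Prime 2) := ⟨Nat.prime_two⟩
  have hsat := blockFusion_isSaturated hM hF
  have hP : IsPGroup 2 P := hF.1.1.1.1
  have hEP : E ≤ P := hE.le.trans inf_le_left
  have huE : u ∈ E := hE ▸ mem_centP.2 ⟨hu, rfl⟩
  set W : Subgroup E := Z.subgroupOf E with hW
  have hW4 : Nat.card W = 4 := (Nat.card_congr (Subgroup.subgroupOfEquivOfLe hZE).toEquiv).trans hZ4
  have he2 : ∀ x : E, x * x = 1 := fun x => Subtype.ext (hexp x x.2)
  have hinv : ∀ x : E, x⁻¹ = x := fun x => inv_eq_of_mul_eq_one_right (he2 x)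
  have hcm : ∀ x y : E, x * y = y * x := fun x y => by
    rw [← hinv (x * y), mul_inv_rev, hinv, hinv]
  set v : E := ⟨u, huE⟩ with hv
  have hvW : v ∉ W := fun h => huZ h
  have hcW : ∀ x : E, x ∈ W ∨ v⁻¹ * x ∈ W := fun x => hcos x x.2
  have htwo : ∀ x y : E, x ∉ W → y ∉ W → x * y ∈ W := by
    intro x y hx hy
    have h := W.mul_mem ((hcW x).resolve_left hx) ((hcW y).resolve_left hy)
    rwa [hinv, hcm v x, ← mul_assoc, mul_assoc x v v, he2, mul_one] at h
  -- the pointwise stabiliser of the hyperplane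
  let K : Subgroup (MulAut E) :=
    { carrier := {α | ∀ z ∈ W, α z = z}
      mul_mem' := fun {a b} ha hb z hz => by rw [MulAut.mul_apply, hb z hz, ha z hz]
      one_mem' := fun z hz => rfl
      inv_mem' := fun {a} ha z hz => by
        conv_lhs => rw [← ha z hz]
        exact MulAut.inv_apply_self E a z }
  have hK2 : ∀ α ∈ K, α * α = 1 := by
    intro α hα
    have hαv : α v ∉ W := fun h => hvW (α.injective (hα _ h) ▸ h)
    have hh : v⁻¹ * α v ∈ W := (hcW (α v)).resolve_left hαv
    have hvv : α (α v) = v := by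
      set h := v⁻¹ * α v with hd
      have e : α v = v * h := by rw [hd, mul_inv_cancel_left]
      rw [e, map_mul, hα h hh, e, mul_assoc, he2, mul_one]
    refine MulEquiv.ext fun x => ?_
    show α (α x) = x
    rcases hcW x with h | h
    · rw [hα x h, hα x h]
    · have e : x = v * (v⁻¹ * x) := by rw [mul_inv_cancel_left]
      rw [e, map_mul, hα _ h, map_mul, hα _ h, hvv]
  have hPK : autInducedBy P E ≤ K := by
    refine (Subgroup.closure_le _).2 ?_
    rintro α ⟨g, hg, hga⟩ z hz
    exact Subtype.ext ((hga z).trans (hZc _ hz g hg))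
  have hfn : F.IsFullyNormalized E := ⟨hEP, fun Q hQ => by
    rw [show FusionSystem.normalizerIn P E = P from inf_eq_left.2 hnorm]
    exact Subgroup.card_le_of_le inf_le_left⟩
  obtain ⟨-, R, hR⟩ := hsat.isFullyAutomized_of_isFullyNormalized hP hfn
  haveI : Finite (F.autGroup E) := FusionSystem.finite_autGroup hEP
  have hexpR : ∀ r ∈ (R : Subgroup (F.autGroup E)), r * r = 1 := by
    intro r hr
    rw [hR] at hr
    exact Subtype.ext (hK2 _ (hPK (Subgroup.mem_subgroupOf.1 hr)))
  -- the induced transvections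
  have hreal : ∀ k : E, k ∉ W → ∀ h ∈ W, ∃ b ∈ F.autGroup E, b ∈ K ∧ b k = k * h := by
    intro k hk h hh
    obtain ⟨g, hg, hgk⟩ := htr k k.2 hk h hh
    set b : MulAut E := autHom E (le_refl (Subgroup.normalizer (E : Set G))) ⟨g, hnorm hg⟩ with hb
    have hbI : b ∈ autInducedBy P E := Subgroup.subset_closure ⟨g, hg, fun x => rfl⟩
    refine ⟨b, Subgroup.subset_closure ?_, hPK hbI, Subtype.ext hgk⟩
    exact F.conj_mem hEP hg
  have hpres : ∀ θ ∈ F.autGroup E, ∀ z ∈ W, θ z ∈ W := by
    intro θ hθ z0 hz0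
    by_contra hk
    obtain ⟨m, hm, hm'⟩ : ∃ m ∈ W, θ⁻¹ m ∉ W := by
      by_contra hcon
      push Not at hcon
      have hmap : W.map (θ⁻¹ : MulAut E).toMonoidHom = W := by
        refine Subgroup.eq_of_le_of_card_ge (fun y hy => ?_) ?_
        · obtain ⟨x, hx, rfl⟩ := hy
          exact hcon x hx
        · rw [Nat.card_congr (Subgroup.equivMapOfInjective W _
            (θ⁻¹ : MulAut E).injective).toEquiv.symm]
      obtain ⟨x, hx, hxe⟩ := hmap.ge hz0
      refine hk ?_
      rw [← hxe]
      show θ (θ⁻¹ x) ∈ W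
      rwa [MulAut.apply_inv_self]
    have hm1 : m ≠ 1 := fun e => hm' (by rw [e, map_one]; exact W.one_mem)
    obtain ⟨z2, hz2, hz21, hz2m⟩ : ∃ z ∈ W, z ≠ 1 ∧ z ≠ m := by
      by_contra hcon
      push Not at hcon
      have hle : (W : Set E) ⊆ {1, m} := fun z hz => by
        by_cases h : z = 1
        · exact Or.inl h
        · exact Or.inr (hcon z hz h)
      have := Nat.card_mono (Set.toFinite _) hle
      simp only [SetLike.coe_sort_coe, hW4] at this
      have h2 : Nat.card ({1, m} : Set E) = 2 := by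
        rw [Nat.card_coe_set_eq, Set.ncard_pair (Ne.symm hm1)]
      omega
    obtain ⟨l, hl, hl1, hlm, hl'⟩ : ∃ l ∈ W, l ≠ 1 ∧ l ≠ m ∧ θ⁻¹ l ∈ W := by
      by_cases h : θ⁻¹ z2 ∈ W
      · exact ⟨z2, hz2, hz21, hz2m, h⟩
      · refine ⟨m * z2, W.mul_mem hm hz2, fun e => hz2m ?_, fun e => hz21 (mul_eq_left.1 e), ?_⟩
        · rw [← inv_eq_of_mul_eq_one_right e, hinv]
        · rw [map_mul]; exact htwo _ _ hm' h
    set k := θ z0 with hkdef
    obtain ⟨b, hbF, hbK, hbk⟩ := hreal k hk l hl
    have hk' : θ⁻¹ k ∈ W := by rwa [hkdef, MulAut.inv_apply_self]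
    obtain ⟨b', hb'F, hb'K, hb'k⟩ := hreal (θ⁻¹ m) hm' (θ⁻¹ k) hk'
    set a := θ * b' * θ⁻¹ with ha
    have hafix : ∀ x, θ⁻¹ x ∈ W → a x = x := fun x hx => by
      rw [ha, MulAut.mul_apply, MulAut.mul_apply, hb'K _ hx, MulAut.apply_inv_self]
    have ham : a m = m * k := by
      rw [ha, MulAut.mul_apply, MulAut.mul_apply, hb'k, map_mul, MulAut.apply_inv_self,
        MulAut.apply_inv_self]
    have haF : a ∈ F.autGroup E := mul_mem (mul_mem hθ hb'F) (inv_mem hθ)
    set q := b * a with hq
    have hql : q l = l := by rw [hq, MulAut.mul_apply, hafix l hl', hbK l hl]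
    have hqk : q k = k * l := by rw [hq, MulAut.mul_apply, hafix k hk', hbk]
    have hqm : q m = m * (k * l) := by rw [hq, MulAut.mul_apply, ham, map_mul, hbK m hm, hbk]
    have h2m : q (q m) = m * l := by
      rw [hqm, map_mul, map_mul, hqm, hqk, hql]
      rw [mul_assoc, ← mul_assoc (k * l) (k * l) l, he2, one_mul]
    have h2k : q (q k) = k := by rw [hqk, map_mul, hqk, hql, mul_assoc, he2, mul_one]
    have h4 : q ^ 4 = 1 := by
      have e4 : ∀ x, (q ^ 4) x = q (q (q (q x))) := fun x => rfl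
      have h4m : (q ^ 4) m = m := by
        rw [e4, h2m, map_mul, map_mul, h2m, hql, hql, mul_assoc, he2, mul_one]
      have h4k : (q ^ 4) k = k := by rw [e4, h2k, h2k]
      have h4l : (q ^ 4) l = l := by rw [e4, hql, hql, hql, hql]
      have hWall : ∀ z ∈ W, z = 1 ∨ z = l ∨ z = m ∨ z = l * m := by
        intro z hz
        by_contra hcon
        push Not at hcon
        obtain ⟨n1, n2, n3, n4⟩ := hcon
        have hsub : (↑({1, l, m, l * m, z} : Finset E) : Set E) ⊆ W := by
          simp only [Finset.coe_insert, Finset.coe_singleton, Set.insert_subset_iff,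
            Set.singleton_subset_iff, SetLike.mem_coe]
          exact ⟨W.one_mem, hl, hm, W.mul_mem hl hm, hz⟩
        have h5 : ({1, l, m, l * m, z} : Finset E).card = 5 := by
          have hlm1 : l * m ≠ 1 := fun e => hlm (by rw [← inv_eq_of_mul_eq_one_left e, hinv])
          have hlml : l * m ≠ l := fun e => hm1 (mul_eq_left.1 e)
          have hlmm : l * m ≠ m := fun e => hl1 (mul_eq_right.1 e)
          simp [Finset.card_insert_of_notMem, hl1.symm, hm1.symm, hlm, hlm1.symm, hlml.symm,
            hlmm.symm, n1.symm, n2.symm, n3.symm, n4.symm]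
        have := Nat.card_mono (Set.toFinite _) hsub
        simp only [SetLike.coe_sort_coe, hW4, Nat.card_coe_set_eq, Set.ncard_coe_finset, Nat.card_eq_finsetCard, h5] at this
        omega
      have hfix : ∀ z ∈ W, (q ^ 4) z = z := by
        intro z hz
        rcases hWall z hz with rfl | rfl | rfl | rfl
        · exact map_one _
        · exact h4l
        · exact h4m
        · rw [map_mul, h4l, h4m]
      refine MulEquiv.ext fun x => ?_
      show (q ^ 4) x = x
      by_cases hx : x ∈ W
      · exact hfix x hx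
      · have e : x = k * (k * x) := by rw [← mul_assoc, he2, one_mul]
        rw [e, map_mul, h4k, hfix _ (htwo k x hk hx)]
    have hsq := sq_of_pow_four R hexpR (x := (⟨q, mul_mem hbF haF⟩ : F.autGroup E))
      (Subtype.ext (by rw [SubgroupClass.coe_pow]; exact h4))
    have := congrArg (fun α : F.autGroup E => (α : MulAut E) m) hsq
    simp only [Subgroup.coe_mul, MulAut.mul_apply, h2m, OneMemClass.coe_one, MulAut.one_apply,
      mul_eq_left] at this
    exact hl1 this
  have hKn : ∀ α ∈ F.autGroup E, ∀ β ∈ K, α * β * α⁻¹ ∈ K := fun α hα β hβ z hz => by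
    rw [MulAut.mul_apply, MulAut.mul_apply, hβ _ (hpres _ (inv_mem hα) z hz), MulAut.apply_inv_self]
  have hKp : IsPGroup 2 K := fun α => ⟨1, Subtype.ext (by
    rw [SubgroupClass.coe_pow, pow_one, pow_two, hK2 _ α.2]; rfl)⟩
  have hu1 : 2 ≤ orderOf u := (orderOf_pos u).nat_succ_le.lt_of_ne fun e =>
    huZ (by rw [orderOf_eq_one_iff.1 e.symm]; exact Z.one_mem)
  exact (kZero_le_kernel hM hF hu hE hnorm K hKn hKp hPK (by omega)).trans hE8.le

end CfsgLib.Blocks.OlssonFive
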