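import Cfsg.Agent.Lib.Blocks.OlssonFive.GroupTwo
import Cfsg.Agent.Lib.Blocks.OlssonFive.GroupFour
import Cfsg.Agent.Lib.Blocks.OlssonFive.ColumnEight
import Cfsg.Agent.Lib.Blocks.OlssonFive.Transvection
import Cfsg.Agent.Lib.Blocks.OlssonFive.FreeFive
import Cfsg.Agent.Lib.TausskyTwo
import Cfsg.Agent.Lib.Elementary
import Cfsg.Agent.Lib.Frobenius.UniqueSubgroup
import Cfsg.Agent.S4528
import Cfsg.Agent.S4529
import Cfsg.Agent.S4530

/-!
# Height zero characters of two-blocks with defect groups of order at most thirty two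
-/

namespace CfsgLib.Blocks.OlssonFive

open Cfsg CfsgLib.CharTheory

set_option linter.unusedVariables false
set_option linter.unusedSimpArgs false
set_option linter.style.haveILetI false
set_option linter.unusedSectionVars false

universe u

section groups

variable {S : Type u} [Group S] [Finite S]

/-- A two-group with cyclic abelianisation is abelian. -/
theorem comm_of_cyclic_quot (hS : IsPGroup 2 S) (h : IsCyclic (S ⧸ commutator S)) (x y : S) :
    x * y = y * x := by
  haveI : Fact (Nat.Prime 2) := ⟨Nat.prime_two⟩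
  haveI := hS.isNilpotent
  obtain ⟨q, hq⟩ := h.exists_generator
  obtain ⟨a, rfl⟩ := QuotientGroup.mk'_surjective _ q
  have htop : Subgroup.zpowers a ⊔ frattini S = ⊤ := by
    refine eq_top_iff.mpr fun t _ => ?_
    obtain ⟨i, hi⟩ := hq (QuotientGroup.mk' _ t)
    simp only at hi
    rw [← map_zpow, QuotientGroup.mk'_apply, QuotientGroup.mk'_apply, QuotientGroup.eq] at hi
    rw [show t = a ^ i * ((a ^ i)⁻¹ * t) by group]
    exact Subgroup.mul_mem_sup (Subgroup.zpow_mem _ (Subgroup.mem_zpowers a) i)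
      (CfsgLib.commutator_le_frattini_pGroup hS hi)
  have htop' := frattini_nongenerating htop
  obtain ⟨i, rfl⟩ := Subgroup.mem_zpowers_iff.mp (htop' ▸ Subgroup.mem_top x : x ∈ Subgroup.zpowers a)
  obtain ⟨j, rfl⟩ := Subgroup.mem_zpowers_iff.mp (htop' ▸ Subgroup.mem_top y : y ∈ Subgroup.zpowers a)
  rw [← zpow_add, ← zpow_add, add_comm]

theorem four_le_index (hS : IsPGroup 2 S) (hna : ¬ ∀ x y : S, x * y = y * x) :
    4 ≤ (commutator S).index := by
  haveI : Fact (Nat.Prime 2) := ⟨Nat.prime_two⟩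
  by_contra hlt
  obtain ⟨n, hn⟩ := IsPGroup.iff_card.1 (hS.to_quotient (commutator S))
  have hn2 : n < 2 := by
    by_contra hcon
    have h4 : 2 ^ 2 ≤ 2 ^ n := Nat.pow_le_pow_right two_pos (by omega)
    rw [← hn] at h4
    exact hlt h4
  refine hna (comm_of_cyclic_quot hS ?_)
  interval_cases n
  · haveI : Subsingleton (S ⧸ commutator S) :=
      (Nat.card_eq_one_iff_unique.1 (by rw [hn, pow_zero])).1
    infer_instance
  · exact isCyclic_of_prime_card (p := 2) (by rw [hn, pow_one])

theorem sq_mem_of_index_four (hS : IsPGroup 2 S) (hna : ¬ ∀ x y : S, x * y = y * x)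
    (h4 : (commutator S).index = 4) (g : S) : g ^ 2 ∈ commutator S := by
  by_contra hg
  refine hna (comm_of_cyclic_quot hS ?_)
  have hc : Nat.card (S ⧸ commutator S) = 4 := h4
  refine isCyclic_of_orderOf_eq_card (QuotientGroup.mk' (commutator S) g) ?_
  have hd := orderOf_dvd_natCard (QuotientGroup.mk' (commutator S) g)
  rw [hc] at hd ⊢
  have hG4 : (QuotientGroup.mk' (commutator S) g) ^ 2 ≠ 1 := by
    rw [← map_pow, QuotientGroup.mk'_apply, ne_eq, QuotientGroup.eq_one_iff]; exact hg
  obtain ⟨i, hi, hie⟩ := (Nat.dvd_prime_pow Nat.prime_two).mp (show _ ∣ 2 ^ 2 from hd)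
  interval_cases i
  · exact absurd (by rw [orderOf_eq_one_iff.mp hie, one_pow]) hG4
  · exact absurd (orderOf_dvd_iff_pow_eq_one.mp (by rw [hie]; norm_num)) hG4
  · simpa using hie

end groups

variable {M : Ideal AlgInt} {G : Type u} [Group G] [Fintype G]
  {B : Set (IrrCharacter G)} {P : Subgroup G}
  {c : Set (IrrCharacter (Subgroup.centralizer (P : Set G)))}

theorem centP_eq_map (x : P) : centP P (x : G) = (Grp.cen x).map P.subtype := by
  ext y
  rw [mem_centP, Subgroup.mem_map]
  constructor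
  · rintro ⟨hy, h⟩
    exact ⟨⟨y, hy⟩, Grp.mem_cen.2 (Subtype.ext h), rfl⟩
  · rintro ⟨w, hw, rfl⟩
    exact ⟨w.2, congrArg Subtype.val (Grp.mem_cen.1 hw)⟩

theorem card_centP (x : P) : Nat.card (centP P (x : G)) = Nat.card (Grp.cen x) := by
  rw [centP_eq_map, ← Nat.card_congr
    (Subgroup.equivMapOfInjective (Grp.cen x) P.subtype P.subtype_injective).toEquiv]

theorem le_normalizer_centP {x : P} (h : (Grp.cen x).Normal) :
    P ≤ Subgroup.normalizer (centP P (x : G) : Set G) := by
  intro g hg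
  refine Subgroup.mem_normalizer_iff.2 fun y => ?_
  rw [centP_eq_map, Subgroup.mem_map, Subgroup.mem_map]
  constructor
  · rintro ⟨w, hw, rfl⟩
    exact ⟨_, h.conj_mem w hw ⟨g, hg⟩, rfl⟩
  · rintro ⟨w, hw, he⟩
    refine ⟨_, h.conj_mem w hw (⟨g, hg⟩⁻¹), ?_⟩
    simp only [Subgroup.coe_subtype, Subgroup.coe_mul, Subgroup.coe_inv] at he ⊢
    rw [he]
    group

/-- A normal abelian centraliser with one of the two criteria. -/
theorem kZero_le_normal_abelian (hM : IsPModular 2 M) {F : FusionSystem P}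
    (hF : IsBlockFusionSystemOn 2 M B P c F) {x : P} (hn : (Grp.cen x).Normal)
    (hab : ∀ a ∈ Grp.cen x, ∀ b ∈ Grp.cen x, a * b = b * a)
    (hcase : (∀ g : P, ∀ a ∈ Grp.cen x, a * a = 1 → g * a * g⁻¹ = a) ∨
      (∀ g : P, ∀ a ∈ Grp.cen x, ∃ y ∈ Grp.cen x, g * a * g⁻¹ = a * (y * y)))
    (hsmall : Nat.card (Grp.cen x) ≤ 4 * orderOf x) : kZero B ≤ Nat.card (Grp.cen x) := by
  haveI : Fact (Nat.Prime 2) := ⟨Nat.prime_two⟩
  have hsm : Nat.card (centP P (x : G)) ≤ 4 * orderOf (x : G) := by
    rw [card_centP, Subgroup.orderOf_coe]; exact hsmall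
  rw [← card_centP]
  have hlift : ∀ y ∈ centP P (x : G), ∃ w ∈ Grp.cen x, (w : G) = y := fun y hy => by
    rw [centP_eq_map] at hy
    exact hy
  letI : CommGroup (centP P (x : G)) :=
    { (inferInstance : Group (centP P (x : G))) with
      mul_comm := fun a b => by
        obtain ⟨a', ha', hae⟩ := hlift a a.2
        obtain ⟨b', hb', hbe⟩ := hlift b b.2
        have h := congrArg Subtype.val (hab a' ha' b' hb')
        simp only [Subgroup.coe_mul, hae, hbe] at h
        exact Subtype.ext h }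
  have hE2 : IsPGroup 2 (centP P (x : G)) := hF.1.1.1.1.to_le inf_le_left
  rcases hcase with hfix | hsq
  · refine kZero_le_kernel hM hF x.2 rfl (le_normalizer_centP hn) (fixTwo (centP P (x : G)))
      (fun α _ β hβ => fixTwo_normal.conj_mem β hβ α) (fixTwo_two hE2) ?_ hsm
    refine (Subgroup.closure_le _).2 ?_
    rintro α ⟨g, hg, hga⟩ a ha
    obtain ⟨w, hw, hwe⟩ := hlift a a.2
    have h2 : w * w = 1 := Subtype.ext (by
      have := congrArg Subtype.val ha
      simpa [Subgroup.coe_mul, hwe] using this)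
    have h3 := congrArg Subtype.val (hfix ⟨g, hg⟩ w hw h2)
    simp only [Subgroup.coe_mul, Subgroup.coe_inv, hwe] at h3
    exact Subtype.ext ((hga a).trans h3)
  · refine kZero_le_kernel hM hF x.2 rfl (le_normalizer_centP hn) (sqKer (centP P (x : G)))
      (fun α _ β hβ => sqKer_normal.conj_mem β hβ α) (sqKer_two hE2) ?_ hsm
    refine (Subgroup.closure_le _).2 ?_
    rintro α ⟨g, hg, hga⟩ a
    obtain ⟨w, hw, hwe⟩ := hlift a a.2
    obtain ⟨y, hy, hye⟩ := hsq ⟨g, hg⟩ w hw
    have hyE : (y : G) ∈ centP P (x : G) := by rw [centP_eq_map]; exact ⟨y, hy, rfl⟩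
    have h3 := congrArg Subtype.val hye
    simp only [Subgroup.coe_mul, Subgroup.coe_inv, hwe] at h3
    exact ⟨⟨y, hyE⟩, Subtype.ext ((hga a).trans h3)⟩

/-- An element whose centraliser is maximal among elements of its order. -/
theorem kZero_le_order (hM : IsPModular 2 M) {F : FusionSystem P}
    (hF : IsBlockFusionSystemOn 2 M B P c F) {x : P}
    (h : ∀ w : P, orderOf w = orderOf x → F.IsConjElt (x : G) (w : G) →
      Nat.card (Grp.cen w) ≤ Nat.card (Grp.cen x))
    (hsmall : Nat.card (Grp.cen x) ≤ 4 * orderOf x) : kZero B ≤ Nat.card (Grp.cen x) := by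
  refine kZero_le_elts hM hF x.2 (card_centP x) (by rw [Subgroup.orderOf_coe]; exact hsmall)
    fun v hv ho hc => ?_
  have h1 := h ⟨v, hv⟩ (by
    rw [← Subgroup.orderOf_coe, ← Subgroup.orderOf_coe x]; exact ho) hc
  rw [← card_centP] at h1
  exact h1

/-- Fused central elements are related by an endomorphism. -/
theorem exists_endo_of_central {F : FusionSystem P} (hF : F.IsSaturated 2) (hP : IsPGroup 2 P)
    {a b : P} (ha : a ∈ Subgroup.center P) (hb : b ∈ Subgroup.center P)
    (h : F.IsConjElt (a : G) (b : G)) : ∃ ψ : P →* P, Function.Injective ψ ∧ ψ a = b := by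
  haveI : Fact (Nat.Prime 2) := ⟨Nat.prime_two⟩
  obtain ⟨φ, hφ, hφb⟩ := h
  have hr : φ.range = Subgroup.zpowers (b : G) := by
    refine le_antisymm ?_ (Subgroup.zpowers_le.2 ⟨_, hφb⟩)
    rintro _ ⟨⟨_, k, rfl⟩, rfl⟩
    refine Subgroup.mem_zpowers_iff.2 ⟨k, ?_⟩
    rw [← hφb, ← map_zpow]
    rfl
  have hfc : F.IsFullyCentralized (Subgroup.zpowers (b : G)) := by
    refine ⟨Subgroup.zpowers_le.2 b.2, fun R _ => Subgroup.card_le_of_le fun y hy => ?_⟩
    exact mem_centP.2 ⟨hy.1, congrArg Subtype.val (Subgroup.mem_center_iff.1 hb ⟨y, hy.1⟩)⟩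
  obtain ⟨ψ, hψ, hψe⟩ := (hF.isReceptive_of_isFullyCentralized hP hfc).2 _ φ hφ hr
  have hcomm : ∀ g ∈ P, g * (a : G) = a * g := fun g hg =>
    congrArg Subtype.val (Subgroup.mem_center_iff.1 ha ⟨g, hg⟩)
  have hle : P ≤ FusionSystem.extender P (Subgroup.zpowers (a : G)) φ := by
    intro g hg
    refine Subgroup.subset_closure ⟨hg,
      (Subgroup.centralizer_le_normalizer _) (mem_cent_zpowers.2 (hcomm g hg)), 1, P.one_mem,
      fun y hy => ?_⟩
    rw [one_mul, inv_one, mul_one]
    refine congrArg φ (Subtype.ext ?_)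
    obtain ⟨k, hk⟩ := y.2
    show g * (y : G) * g⁻¹ = y
    rw [← hk]
    show g * (a : G) ^ k * g⁻¹ = (a : G) ^ k
    rw [((show Commute g (a : G) from hcomm g hg).zpow_right k).eq, mul_inv_cancel_right]
  refine ⟨(ψ.comp (Subgroup.inclusion hle)).codRestrict P fun y => (F.le_of_mem hψ).2 _,
    fun y z hyz => ?_, Subtype.ext ?_⟩
  · have h1 : ψ (Subgroup.inclusion hle y) = ψ (Subgroup.inclusion hle z) :=
      congrArg Subtype.val hyz
    exact Subgroup.inclusion_injective hle (F.injective_of_mem hψ h1)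
  · show ψ (Subgroup.inclusion hle a) = (b : G)
    exact (hψe (a : G) (Subgroup.mem_zpowers _) (hle a.2)).trans hφb

/-- Derived subgroup of order two. -/
theorem kZero_two (hM : IsPModular 2 M) {F : FusionSystem P}
    (hF : IsBlockFusionSystemOn 2 M B P c F) (h32 : Nat.card P ≤ 32) (h16 : 16 ≤ Nat.card P)
    (h2 : Nat.card (commutator P) = 2) : 2 * kZero B ≤ Nat.card P := by
  obtain ⟨x, hx, hsmall, hcase⟩ := Grp.two_cases hF.1.1.1.1 h32 h16 h2
  rw [← hx]
  refine Nat.mul_le_mul_left 2 ?_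
  rcases hcase with h | ⟨hn, hab, hc⟩
  · exact kZero_le_order hM hF (fun w hw _ => h w hw) hsmall
  · exact kZero_le_normal_abelian hM hF hn hab hc hsmall

/-- Derived subgroup of order four in a defect group of order thirty two. -/
theorem kZero_four (hM : IsPModular 2 M) {F : FusionSystem P}
    (hF : IsBlockFusionSystemOn 2 M B P c F) (h32 : Nat.card P = 32)
    (h4 : Nat.card (commutator P) = 4) : kZero B ≤ 8 := by
  classical
  haveI : Fact (Nat.Prime 2) := ⟨Nat.prime_two⟩
  have hP : IsPGroup 2 P := hF.1.1.1.1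
  have htwo : ∀ x : P, x ≠ 1 → 2 ≤ orderOf x := fun x hx =>
    (orderOf_pos x).nat_succ_le.lt_of_ne fun e => hx (orderOf_eq_one_iff.1 e.symm)
  by_cases hT : commutator P ≤ Subgroup.center P
  · obtain ⟨x, hx8, hn, hab, hcase⟩ := Grp.four_central hP h32 h4 hT
    have hx1 : x ≠ 1 := fun e => by
      have htop : Grp.cen x = ⊤ := eq_top_iff.2 fun g _ => Grp.mem_cen.2 (by rw [e, mul_one, one_mul])
      rw [htop, Subgroup.card_top] at hx8
      omega
    have hsmall : Nat.card (Grp.cen x) ≤ 4 * orderOf x := by have := htwo x hx1; omega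
    rcases hcase with hfix | ⟨hxZ, hZ4, hexp, hcos, htr⟩
    · exact (kZero_le_normal_abelian hM hF hn hab (Or.inl hfix) hsmall).trans hx8.le
    · have hin : ∀ y ∈ centP P (x : G), ∃ w ∈ Grp.cen x, (w : G) = y := fun y hy => by
        rw [centP_eq_map] at hy; exact hy
      have hzc : ∀ {w : P}, (w : G) ∈ (Subgroup.center P).map P.subtype ↔ w ∈ Subgroup.center P :=
        fun {w} => Subgroup.mem_map_iff_mem P.subtype_injective
      refine kZero_le_transvection hM hF x.2 rfl (by rw [card_centP, hx8]) (le_normalizer_centP hn)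
        (fun y hy => ?_) ((Subgroup.center P).map P.subtype)
        ((Subgroup.map_mono (Grp.center_le_cen x)).trans (centP_eq_map x).ge) ?_ ?_
        (fun h => hxZ (hzc.1 h)) (fun y hy => ?_) (fun k hk hkZ h hh => ?_)
      · obtain ⟨w, hw, rfl⟩ := hin y hy
        exact congrArg Subtype.val (hexp w hw)
      · rw [← hZ4, ← Nat.card_congr (Subgroup.equivMapOfInjective (Subgroup.center P) P.subtype
          P.subtype_injective).toEquiv]
      · rintro _ ⟨z, hz, rfl⟩ g hg
        have h := congrArg Subtype.val (Subgroup.mem_center_iff.1 hz ⟨g, hg⟩)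
        simp only [Subgroup.coe_mul] at h
        show g * (z : G) * g⁻¹ = z
        rw [h, mul_inv_cancel_right]
      · obtain ⟨w, hw, rfl⟩ := hin y hy
        exact (hcos w hw).imp hzc.2 fun h => (hzc (w := x⁻¹ * w)).2 h
      · obtain ⟨w, hw, rfl⟩ := hin k hk
        obtain ⟨z, hz, rfl⟩ := hh
        obtain ⟨g, hg⟩ := htr w hw (fun h => hkZ (hzc.2 h)) z hz
        exact ⟨g, g.2, congrArg Subtype.val hg⟩
  · rcases Grp.four_noncentral hP h32 h4 hT with ⟨x, hx1, hx8, h⟩ |
      ⟨x, z, hx1, hx8, hxx, hz, hne, hfixz, h⟩ | ⟨v, g, j, hj, hord, hv16, hgv, h⟩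
    · exact (kZero_le_order hM hF (fun w hw _ => (h w hw).trans hx8.ge)
        (by have := htwo x hx1; omega)).trans hx8.le
    · refine (kZero_le_order hM hF (fun w hw hc => ?_) (by have := htwo x hx1; omega)).trans hx8.le
      rw [hx8]
      by_contra hbig
      have hww := h w hw (not_le.1 hbig)
      have hc2 := isConjElt_pow hc 2
      rw [pow_two, pow_two] at hc2
      obtain ⟨ψ, hψ, hψe⟩ := exists_endo_of_central (blockFusion_isSaturated hM hF) hP hxx
        (hww ▸ hz : w * w ∈ Subgroup.center P) (by rw [Subgroup.coe_mul, Subgroup.coe_mul]; exact hc2)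
      exact hne (hψ ((hψe.trans hww).trans (hfixz ψ hψ).symm))
    · refine kZero_le_column hM hF h32.le v.2 (by rw [Subgroup.orderOf_coe]; exact hord)
        (by rw [card_centP]; exact hv16) g.2 hj ?_ fun R hR => ?_
      · have := congrArg Subtype.val hgv
        simpa using this
      · obtain ⟨w, rfl, hwP, how, -⟩ := exists_conjElt hR
        show Nat.card (centP P w) ≤ _
        rw [card_centP v, hv16]
        exact (card_centP (⟨w, hwP⟩ : P)).le.trans (h ⟨w, hwP⟩ (by
          rw [← Subgroup.orderOf_coe, how, Subgroup.orderOf_coe, hord]))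

/-- Derived subgroup of index four: dihedral, semidihedral or quaternion. -/
theorem kZero_index_four (hM : IsPModular 2 M) (hB : IsPBlock M B) (hD : IsDefectGroup 2 M B P)
    (hP : IsPGroup 2 P) (h8 : 8 ≤ Nat.card P) (hna : ¬ ∀ x y : P, x * y = y * x)
    (h4 : (commutator P).index = 4) : kZero B = 4 := by
  obtain ⟨m, a, b, hm, ha, hcard, hb, hgen, hshape⟩ :=
    CfsgLib.TausskyTwo.cases_taussky hP h4 (sq_mem_of_index_four hP hna h4) h8
  rcases hshape with ⟨hconj, hs | hs⟩ | ⟨hm3, hconj, hs⟩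
  · exact (Cfsg.Agent.S4528.result M hM B hB P hD (m + 1) (by omega)
      (CfsgLib.TausskyTwo.dihedral_iso (pow_pos two_pos _) a b ha hs hconj hb hgen)).2.2.2.1
  · exact (Cfsg.Agent.S4530.result M hM B hB P hD (m + 1) (by omega)
      (CfsgLib.Frob.quaternion_iso (pow_pos two_pos _) a b (by
        rw [ha, ← pow_succ']; congr 1; omega) hs hconj hb hgen)).2.2.2.1
  · exact (Cfsg.Agent.S4529.result M hM B hB P hD (m + 1) (by omega) hcard
      ⟨m, hm3, hcard, a, b, ha, orderOf_eq_prime hs (fun e => hb (by rw [e]; exact one_mem _)),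
        hconj⟩).2.2.2.2.2.1

/-- Olsson's bound for two-blocks of defect at most five. -/
theorem kZero_le_index (hM : IsPModular 2 M) (hB : IsPBlock M B) (hD : IsDefectGroup 2 M B P)
    (h32 : Nat.card P ≤ 32) : kZero B ≤ (commutator P).index := by
  classical
  haveI : Fact (Nat.Prime 2) := ⟨Nat.prime_two⟩
  obtain ⟨c, hmax⟩ := exists_maximal_at hM hB hD
  have hF := blockFusion_isBlockFusion hM hmax
  have hP : IsPGroup 2 P := hmax.1.1.1
  by_cases hcomm : ∀ x y : P, x * y = y * x
  · have hbot : commutator P = ⊥ := (commutator_eq_bot_iff P).2 ⟨⟨hcomm⟩⟩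
    rw [hbot, Subgroup.index_bot]
    exact kZero_le_abelian_thirty_two hM hmax
      (fun x hx y hy => congrArg Subtype.val (hcomm ⟨x, hx⟩ ⟨y, hy⟩)) h32
  · have h4 := four_le_index hP hcomm
    have hmul := (commutator P).card_mul_index
    have hne : Nat.card (commutator P) ≠ 1 := fun e =>
      hcomm ((commutator_eq_bot_iff P).1 (Subgroup.card_eq_one.1 e)).1.1
    obtain ⟨n, hn⟩ := IsPGroup.iff_card.1 hP
    obtain ⟨k, hk, hke⟩ := (Nat.dvd_prime_pow Nat.prime_two).1
      (hn ▸ Subgroup.card_subgroup_dvd_card (commutator P))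
    have hn5 : n ≤ 5 := (Nat.pow_le_pow_iff_right (le_refl 2)).1 (hn ▸ h32)
    by_cases hidx : (commutator P).index = 4
    · have h8 : 8 ≤ Nat.card P := by
        have hpos : 0 < Nat.card (commutator P) := Nat.card_pos
        rw [hidx] at hmul; omega
      exact (kZero_index_four hM hB hD hP h8 hcomm hidx).le.trans hidx.ge
    · obtain ⟨i, hi⟩ := IsPGroup.index hP (commutator P)
      rw [hke, hi, hn, ← pow_add] at hmul
      have hki : k + i = n := Nat.pow_right_injective le_rfl hmul
      have hk1 : k ≠ 0 := fun e => hne (by rw [hke, e, pow_zero])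
      have hi2 : 3 ≤ i := by
        by_contra hcon
        rw [hi] at h4 hidx
        interval_cases i <;> simp_all
      rw [hi]
      rcases (show k = 1 ∧ (n = 4 ∨ n = 5) ∧ i = n - 1 ∨ k = 2 ∧ n = 5 ∧ i = 3 by omega) with
        ⟨rfl, hn', rfl⟩ | ⟨rfl, rfl, rfl⟩
      · have h := kZero_two hM hF h32 (by
          rw [hn]; rcases hn' with rfl | rfl <;> norm_num) (by rw [hke, pow_one])
        rw [hn, show n = (n - 1) + 1 by omega, pow_succ'] at h
        exact Nat.le_of_mul_le_mul_left h two_pos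
      · exact kZero_four hM hF (by rw [hn]; norm_num) (by rw [hke]; norm_num)

end CfsgLib.Blocks.OlssonFive
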