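import Cfsg.Agent.Lib.Fusion.Saturation
import Cfsg.Agent.Lib.Fusion.Basic
import Mathlib.GroupTheory.Nilpotent

/-!
# An element whose centraliser is normal with rigid automorphisms is fully centralized
-/

namespace CfsgLib.Blocks.OlssonFive

open Cfsg Cfsg.FusionSystem

set_option linter.unusedVariables false
set_option linter.style.haveILetI false
set_option linter.unusedSectionVars false

universe u

variable {p : ℕ} {Ω : Type u} [Group Ω] [Finite Ω] {S : Subgroup Ω} {F : FusionSystem S}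

theorem exists_mem_normalizer_notMem [Fact p.Prime] {P Q : Subgroup Ω} (hP : IsPGroup p P)
    (h : Q < P) : ∃ w ∈ P, w ∈ Subgroup.normalizer (Q : Set Ω) ∧ w ∉ Q := by
  haveI : Group.IsNilpotent P := hP.isNilpotent
  have hlt := Group.normalizerCondition_of_isNilpotent (G := P) (Q.subgroupOf P) (by
    rw [lt_top_iff_ne_top, Ne, Subgroup.subgroupOf_eq_top]; exact h.not_ge)
  obtain ⟨x, hx, hxQ⟩ := SetLike.exists_of_lt hlt
  refine ⟨x, x.2, ?_, fun h1 => hxQ (Subgroup.mem_subgroupOf.2 h1)⟩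
  rw [Subgroup.mem_normalizer_iff] at hx ⊢
  intro r
  constructor
  · intro hr
    simpa [Subgroup.mem_subgroupOf] using (hx ⟨r, h.le hr⟩).1 (Subgroup.mem_subgroupOf.2 hr)
  · intro hr
    have hrP : r ∈ P := by
      have := P.mul_mem (P.mul_mem (P.inv_mem x.2) (h.le hr)) x.2
      simpa [mul_assoc] using this
    simpa [Subgroup.mem_subgroupOf] using (hx ⟨r, hrP⟩).2 (Subgroup.mem_subgroupOf.2 hr)

/-- Every conjugate of `u` has a centraliser no larger than that of `u`. -/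
theorem card_centralizerIn_le_of_rigid [Fact p.Prime] (hF : F.IsSaturated p) (hS : IsPGroup p S)
    {u : Ω} (hu : u ∈ S) {E : Subgroup Ω} (hE : E = centralizerIn S (Subgroup.zpowers u))
    (hnorm : S ≤ Subgroup.normalizer (E : Set Ω))
    (hAut : ∀ α ∈ F.autGroup E, (∃ k : ℕ, α ^ (p ^ k) = 1) → α ∈ autInducedBy S E)
    {R' : Subgroup Ω} (hR' : F.IsConj (Subgroup.zpowers u) R') :
    Nat.card (centralizerIn S R') ≤ Nat.card E := by
  have huQ : Subgroup.zpowers u ≤ S := Subgroup.zpowers_le.2 hu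
  have hES : E ≤ S := hE.trans_le centralizerIn_le
  have huE : u ∈ E := hE ▸ ⟨hu, Subgroup.mem_centralizer_iff.2 fun q hq => by
    obtain ⟨k, rfl⟩ := hq
    exact ((Commute.refl u).zpow_left k).eq⟩
  obtain ⟨R0, hR0, hfc⟩ := F.exists_isFullyCentralized huQ
  refine (hfc.2 R' (hR0.symm.trans hR')).trans ?_
  obtain ⟨φ, hφ, hr⟩ := hR0
  have hφS : ∀ x, φ x ∈ S := F.apply_mem hφ
  obtain ⟨ψ, hψ, hψe⟩ := (hF.isReceptive_of_isFullyCentralized hS hfc).2 _ φ hφ hr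
  have hEN : E ≤ extender S (Subgroup.zpowers u) φ := hE.trans_le (centralizerIn_le_extender hφS)
  set C0 := centralizerIn S R0 with hC0
  have hEψ : ψ.comp (Subgroup.inclusion hEN) ∈ F.Hom E := F.restrict_mem hψ hEN
  set ψE := ψ.comp (Subgroup.inclusion hEN) with hψE
  set R := ψE.range with hR
  have hQN : Subgroup.zpowers u ≤ extender S (Subgroup.zpowers u) φ := le_extender huQ hφS
  have hRC : R ≤ C0 := by
    rintro _ ⟨x, rfl⟩
    refine ⟨F.apply_mem hEψ x, apply_mem_centralizer hQN (fun y => hψe y y.2 _) hr _ ?_⟩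
    exact (hE.le x.2).2
  have hcardR : Nat.card R = Nat.card E :=
    (Nat.card_congr (MonoidHom.ofInjective (F.injective_of_mem hEψ)).toEquiv).symm
  by_contra hlt
  have hRlt : R < C0 := lt_of_le_of_ne hRC fun he => hlt (by rw [← he, hcardR])
  obtain ⟨w, hwC, hwN, hwR⟩ := exists_mem_normalizer_notMem (hS.to_le centralizerIn_le) hRlt
  obtain ⟨χ, hχ, hχr, hχl, hχr'⟩ := F.exists_inv hEψ rfl
  let ι : E ≃* R := F.isoOf hEψ rfl
  have hιsymm : ∀ y : R, ((ι.symm y : E) : Ω) = χ y := by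
    intro y
    obtain ⟨x, rfl⟩ := ι.surjective y
    rw [MulEquiv.symm_apply_apply]
    exact (hχl x (ι x).2).symm
  let cw : MulAut R := Subgroup.normalizerMonoidHom R ⟨w, hwN⟩
  let α : MulAut E := MulAut.congr ι.symm cw
  have hαeq : ∀ x : E, ((α x : E) : Ω) = χ ⟨w * ψE x * w⁻¹,
      (Subgroup.mem_normalizer_iff.1 hwN _).1 ⟨x, rfl⟩⟩ := by
    intro x
    show ((ι.symm (cw (ι x)) : E) : Ω) = _
    rw [hιsymm]
    rfl
  have hαF : α ∈ F.autGroup E := by
    obtain ⟨ω, hω, hωe⟩ := F.exists_comp hEψ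
      (F.conj_mem (g := w) (F.range_le hEψ) hwC.1) (fun x => ⟨x, rfl⟩)
    have hωR : ∀ x, ω x ∈ R := fun x => by
      rw [hωe, conjHom_apply]
      exact (Subgroup.mem_normalizer_iff.1 hwN _).1 ⟨x, rfl⟩
    obtain ⟨ω', hω', hω'e⟩ := F.exists_comp hω hχ hωR
    refine F.mem_autGroup_of_map hω' fun x => ?_
    rw [hαeq, hω'e]
    congr 1
    exact Subtype.ext ((hωe x).trans (conjHom_apply _ _)).symm
  obtain ⟨k, hk⟩ : ∃ k : ℕ, α ^ (p ^ k) = 1 := by
    obtain ⟨k, hk⟩ := hS ⟨w, hwC.1⟩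
    refine ⟨k, ?_⟩
    show (MulAut.congr ι.symm (Subgroup.normalizerMonoidHom R ⟨w, hwN⟩)) ^ (p ^ k) = 1
    rw [← map_pow, ← map_pow, show (⟨w, hwN⟩ : Subgroup.normalizer (R : Set Ω)) ^ (p ^ k) = 1 from
      Subtype.ext (congrArg Subtype.val hk :), map_one, map_one]
  obtain ⟨h, hh, -, hact⟩ := mem_autInducedBy_iff.1 (hAut α hαF ⟨k, hk⟩)
  have hχS : ∀ x, χ x ∈ S := F.apply_mem hχ
  have hwext : w ∈ extender S R χ := by
    refine (mem_extender_iff hχS).2 ⟨hwC.1, hwN, h, hh, fun x hx => ?_⟩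
    obtain ⟨x', hx'⟩ := ι.surjective x
    have e1 : χ x = x' := by rw [← hιsymm, ← hx', MulEquiv.symm_apply_apply]
    rw [e1, ← hact x', hαeq]
    congr 1
    refine Subtype.ext ?_
    show w * (x : Ω) * w⁻¹ = w * ψE x' * w⁻¹
    rw [← hx']; rfl
  have hEfn : F.IsFullyNormalized E := by
    refine ⟨hES, fun Q hQ => ?_⟩
    rw [show normalizerIn S E = S from inf_eq_left.2 hnorm]
    exact Subgroup.card_le_of_le normalizerIn_le
  obtain ⟨χ', hχ', hχ'e⟩ := (hF.isReceptive_of_isFullyNormalized hS hEfn).2 R χ hχ hχr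
  have huR : ψE ⟨u, huE⟩ ∈ R := ⟨_, rfl⟩
  have hφu : ψE ⟨u, huE⟩ = φ ⟨u, Subgroup.mem_zpowers u⟩ :=
    hψe u (Subgroup.mem_zpowers u) (hEN huE)
  have hRN : R ≤ extender S R χ := le_extender (F.range_le hEψ) hχS
  have hχu : χ' ⟨ψE ⟨u, huE⟩, hRN huR⟩ = u := by
    rw [hχ'e _ huR, hχl ⟨u, huE⟩ huR]
  have hcomm : Commute (χ' ⟨w, hwext⟩) u := by
    rw [← hχu]
    refine Commute.map ?_ χ'
    refine Subtype.ext ?_
    show w * ψE ⟨u, huE⟩ = ψE ⟨u, huE⟩ * w
    rw [hφu]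
    exact (Subgroup.mem_centralizer_iff.1 hwC.2 _ (hr.le ⟨_, rfl⟩)).symm
  have hmem : χ' ⟨w, hwext⟩ ∈ E := hE ▸ ⟨F.apply_mem hχ' _, Subgroup.mem_centralizer_iff.2
    fun q hq => by
      obtain ⟨j, rfl⟩ := hq
      exact (hcomm.symm.zpow_left j).eq⟩
  obtain ⟨r, hr'⟩ := (hχr.ge hmem : _ ∈ χ.range)
  rw [← hχ'e r r.2 (hRN r.2)] at hr'
  have := congrArg Subtype.val (F.injective_of_mem hχ' hr')
  have e2 : (r : Ω) = w := this
  exact hwR (e2 ▸ r.2)

end CfsgLib.Blocks.OlssonFive
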