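import Cfsg.Agent.Lib.Blocks.OlssonFive.Inert
import Cfsg.Agent.Lib.Blocks.OlssonFive.Rigid
import Cfsg.Agent.Lib.Blocks.BlockFusion
import Cfsg.Agent.Lib.Blocks.BlockSat
import Cfsg.Agent.Lib.Blocks.TwoBlocks
import Cfsg.Agent.S4541

/-!
# Height zero characters bounded through a subsection with small quotient
-/

namespace CfsgLib.Blocks.OlssonFive

open Cfsg CfsgLib.CharTheory

set_option linter.unusedVariables false
set_option linter.unusedSimpArgs false
set_option linter.style.haveILetI false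
set_option linter.unusedSectionVars false

universe u

variable {M : Ideal AlgInt} {G : Type u} [Group G] [Fintype G]
  {B : Set (IrrCharacter G)} {P : Subgroup G}
  {c : Set (IrrCharacter (Subgroup.centralizer (P : Set G)))}

/-- The number of characters of height zero. -/
noncomputable abbrev kZero (B : Set (IrrCharacter G)) : ℕ :=
  Nat.card {χ : IrrCharacter G // χ ∈ B ∧ blockHeight 2 B (χ : G → ℂ) = 0}

/-- A subsection with at most three Brauer characters. -/
theorem kZero_le_of_subsection (hM : IsPModular 2 M) {x : G} {H : Subgroup G} [Fintype H]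
    (hH : IsCentr x H) (hx : ∃ k : ℕ, orderOf x = 2 ^ k) {b : Set (IrrCharacter H)}
    (hind : IsInducedBlock M H b B) (hl : blockRank 2 b ≤ 3) :
    kZero B ≤ 2 ^ blockDefect 2 b := by
  classical
  obtain ⟨A, hA, hsum⟩ := exists_k0_data hM hH hx hind
  rw [kZero, natCard_height_zero]
  obtain ⟨χ0, hχ0, hχ00⟩ := exists_height_zero hM hind.2.1
  exact (Cfsg.Agent.S4541.sqrt_bound _ (2 ^ blockDefect 2 b) (blockRank 2 b) A
    ⟨χ0, Finset.mem_filter.2 ⟨mem_bset.2 hχ0, hχ00⟩⟩
    (fun χ hχ => by exact_mod_cast hA χ hχ) (by exact_mod_cast hsum)).2.2 hl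

theorem orderOf_pow_two (hmax : IsMaximalBrauerPair 2 M B P c) {u : G} (hu : u ∈ P) :
    ∃ k : ℕ, orderOf u = 2 ^ k := by
  haveI : Fact (Nat.Prime 2) := ⟨Nat.prime_two⟩
  obtain ⟨k, hk⟩ := IsPGroup.iff_orderOf.1 hmax.1.1.1 ⟨u, hu⟩
  exact ⟨k, by rw [← hk, Subgroup.orderOf_mk]⟩

/-- A fully centralized element whose abelian centraliser has a quotient of order at most four. -/
theorem kZero_le_centralizer (hM : IsPModular 2 M) {F : FusionSystem P}
    (hF : IsBlockFusionSystemOn 2 M B P c F) {u : G} (hu : u ∈ P)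
    (hfc : ∀ R, F.IsConj (Subgroup.zpowers u) R →
      Nat.card (P ⊓ Subgroup.centralizer (R : Set G) : Subgroup G) ≤
        Nat.card (P ⊓ Subgroup.centralizer ((Subgroup.zpowers u : Subgroup G) : Set G) : Subgroup G))
    (hab : ∀ x ∈ P ⊓ Subgroup.centralizer ((Subgroup.zpowers u : Subgroup G) : Set G),
      ∀ y ∈ P ⊓ Subgroup.centralizer ((Subgroup.zpowers u : Subgroup G) : Set G), x * y = y * x)
    (hsmall : Nat.card (P ⊓ Subgroup.centralizer ((Subgroup.zpowers u : Subgroup G) : Set G) :
      Subgroup G) ≤ 4 * orderOf u) :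
    kZero B ≤
      Nat.card (P ⊓ Subgroup.centralizer ((Subgroup.zpowers u : Subgroup G) : Set G) : Subgroup G) := by
  classical
  have hQP : Subgroup.zpowers u ≤ P := Subgroup.zpowers_le.2 hu
  have hP : IsPGroup 2 P := hF.1.1.1.1
  have he := hF.1.1.1.2
  haveI := Fintype.ofFinite (Subgroup.centralizer ((Subgroup.zpowers u : Subgroup G) : Set G))
  obtain ⟨f, ⟨hf, hle⟩, -⟩ := existsUnique_subpair hM hP he _ hQP
  have hfull : F.IsFullyCentralized (Subgroup.zpowers u) := ⟨hQP, fun R hR => hfc R hR⟩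
  have hdef := (fullyCentralized_iff hM hF hf hle).1 hfull
  have hind : IsInducedBlock M (Subgroup.centralizer ((Subgroup.zpowers u : Subgroup G) : Set G)) f B :=
    (induced_centralizer_iff hM (hP.to_le hQP)).2
      ((pairOf_subpair_iff hM (a := ⟨_, f⟩) (b := ⟨P, c⟩) hle B).2 hF.1.1)
  obtain ⟨c', hc'⟩ := exists_maximal_at hM hf hdef
  set H := Subgroup.centralizer ((Subgroup.zpowers u : Subgroup G) : Set G) with hH
  set U := (Subgroup.zpowers u).subgroupOf H with hU
  have hQH : Subgroup.zpowers u ≤ H := fun q hq q' hq' => by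
    obtain ⟨i, rfl⟩ := hq
    obtain ⟨j, rfl⟩ := hq'
    exact ((Commute.refl u).zpow_zpow j i).eq
  have hUc : U ≤ Subgroup.center H := fun q hq => Subgroup.mem_center_iff.2 fun g =>
    Subtype.ext (g.2 (q : G) (Subgroup.mem_subgroupOf.1 hq)).symm
  haveI : U.Normal := normal_of_central hUc
  have hUP : U ≤ (P ⊓ H).subgroupOf H := Subgroup.comap_mono (le_inf hQP hQH)
  have hcard : Nat.card ((P ⊓ H).subgroupOf H) = Nat.card (P ⊓ H : Subgroup G) :=
    Nat.card_congr (Subgroup.subgroupOfEquivOfLe inf_le_right).toEquiv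
  have hcardU : Nat.card U = orderOf u := by
    rw [hU, Nat.card_congr (Subgroup.subgroupOfEquivOfLe hQH).toEquiv, Nat.card_zpowers]
  have hab' : ∀ x ∈ (P ⊓ H).subgroupOf H, ∀ y ∈ (P ⊓ H).subgroupOf H, x * y = y * x :=
    fun x hx y hy => Subtype.ext (hab _ (Subgroup.mem_subgroupOf.1 hx) _ (Subgroup.mem_subgroupOf.1 hy))
  have hl := rank_le_three hM hc' hab' (Nat.le_of_dvd (by norm_num)
    (card_inert_dvd_three hM hc' hab' hUc hUP (by rw [hcard, hcardU]; exact hsmall)))
  refine (kZero_le_of_subsection hM (isCentr_zpowers u) (orderOf_pow_two hF.1 hu) hind hl).trans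
    (le_of_eq ?_)
  exact (isDefectGroup_card_centP hM hf hdef).symm

/-- An element with normal centraliser, rigid automorphisms and small quotient. -/
theorem kZero_le_of_rigid (hM : IsPModular 2 M) {F : FusionSystem P}
    (hF : IsBlockFusionSystemOn 2 M B P c F) {u : G} (hu : u ∈ P) {E : Subgroup G}
    (hE : E = P ⊓ Subgroup.centralizer ((Subgroup.zpowers u : Subgroup G) : Set G))
    (hnorm : P ≤ Subgroup.normalizer (E : Set G))
    (hAut : ∀ α ∈ F.autGroup E, (∃ k : ℕ, α ^ (2 ^ k) = 1) → α ∈ autInducedBy P E)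
    (hab : ∀ x ∈ E, ∀ y ∈ E, x * y = y * x) (hsmall : Nat.card E ≤ 4 * orderOf u) :
    kZero B ≤ Nat.card E := by
  haveI : Fact (Nat.Prime 2) := ⟨Nat.prime_two⟩
  subst hE
  exact kZero_le_centralizer hM hF hu (fun R hR => card_centralizerIn_le_of_rigid
    (blockFusion_isSaturated hM hF) hF.1.1.1.1 hu rfl hnorm hAut hR) hab hsmall

/-- An element of an abelian defect group whose stabilizer acts as a group of order at most three. -/
theorem kZero_le_abelian (hM : IsPModular 2 M) (hmax : IsMaximalBrauerPair 2 M B P c)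
    (hab : ∀ x ∈ P, ∀ y ∈ P, x * y = y * x) {u : G} (hu : u ∈ P)
    (he : Nat.card (autInducedBy (pairStab P c ⊓
      Subgroup.centralizer ((Subgroup.zpowers u : Subgroup G) : Set G)) P) ≤ 3) :
    kZero B ≤ Nat.card P := by
  classical
  have hQP : Subgroup.zpowers u ≤ P := Subgroup.zpowers_le.2 hu
  haveI := Fintype.ofFinite (Subgroup.centralizer ((Subgroup.zpowers u : Subgroup G) : Set G))
  obtain ⟨f, hstep, hind, hdef, a, ha, hup, hmax'⟩ := exists_local_abelian hM hmax hab hQP
  obtain ⟨hcard', hab', hst, hcent⟩ := local_abelian_props hup hab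
  haveI := finite_inert (P := P) (c := c)
  have hdown : Nat.card (inert a.1 a.2) ≤ 3 := by
    refine le_trans ?_ he
    rw [← relIndex_eq_card, ← card_autInducedBy_eq_index
      (inf_le_left.trans (stab_le_normalizer (P := P) (c := c)))]
    have e : Subgroup.centralizer
        (a.1 : Set (Subgroup.centralizer ((Subgroup.zpowers u : Subgroup G) : Set G))) =
        (Subgroup.centralizer (P : Set G)).comap
          (Subgroup.centralizer ((Subgroup.zpowers u : Subgroup G) : Set G)).subtype :=
      Subgroup.ext fun y => (hcent y).symm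
    rw [e, Subgroup.relIndex_comap]
    refine Subgroup.relIndex_le_of_le_right ?_ ?_
    · rintro _ ⟨y, hy, rfl⟩
      exact ⟨hst y hy, y.2⟩
    · exact Subgroup.index_ne_zero_of_finite
  refine (kZero_le_of_subsection hM (isCentr_zpowers u) (orderOf_pow_two hmax hu) hind
    (rank_le_three hM hmax' hab' hdown)).trans (le_of_eq ?_)
  rw [hdef]
  exact (card_defectGroup hM hmax.1.2.1 (maximal_isDefectGroup hM hmax)).symm

end CfsgLib.Blocks.OlssonFive
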