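import Cfsg.Agent.Lib.Blocks.OlssonFive.Inert

/-!
# The regular rank of a block and of the block it dominates modulo a central subgroup

No hypothesis on the defect group is needed.
-/

namespace CfsgLib.Blocks.OlssonFive

open Cfsg CfsgLib.CharTheory
open scoped ComplexConjugate

set_option linter.unusedVariables false
set_option linter.unusedSimpArgs false
set_option linter.style.haveILetI false
set_option linter.unusedSectionVars false

universe u

variable {p : ℕ} {M : Ideal AlgInt} {G : Type u} [Group G] [Fintype G]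
  {B : Set (IrrCharacter G)}

theorem regular_lift_unique (hM : IsPModular p M) {U : Subgroup G} [U.Normal] (hU : IsPGroup p U)
    (hUc : U ≤ Subgroup.center G) {x y : G} (hx : ¬ p ∣ orderOf x) (hy : ¬ p ∣ orderOf y)
    (h : (x : G ⧸ U) = (y : G ⧸ U)) : x = y := by
  have hm : x⁻¹ * y ∈ U := QuotientGroup.eq.1 h
  by_contra hne
  have h2 := singular_mul_central hM hU hUc hm (fun e => hne (inv_mul_eq_one.1 e)) hx
  rw [← Subgroup.mem_center_iff.1 (hUc hm) x, mul_inv_cancel_left] at h2
  exact hy h2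

/-- On regular elements a member of a block is a combination of members of the dominated block. -/
theorem exists_quot_span (hM : IsPModular p M) (hB : IsPBlock M B) {U : Subgroup G} [U.Normal]
    [Fintype (G ⧸ U)] (hU : IsPGroup p U) (hUc : U ≤ Subgroup.center G) {χ : IrrCharacter G}
    (hχ : χ ∈ B) : ∃ a : IrrCharacter (G ⧸ U) → ℂ, ∀ g : G, ¬ p ∣ orderOf g →
      (χ : G → ℂ) g = ∑ θ ∈ bset (quotBlock U B), a θ * (θ : G ⧸ U → ℂ) (g : G ⧸ U) := by
  classical
  haveI : Fact p.Prime := ⟨hM.1⟩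
  choose l hl hlr using fun q : {q : G ⧸ U // ¬ p ∣ orderOf q} =>
    Inflation.exists_regular_lift U hU q.2
  let f : G ⧸ U → ℂ := fun q => if h : ¬ p ∣ orderOf q then (χ : G → ℂ) (l ⟨q, h⟩) else 0
  have hfl : ∀ y : G, ¬ p ∣ orderOf y → f (y : G ⧸ U) = (χ : G → ℂ) y := by
    intro y hy
    simp only [f, dif_pos (mk_regular (U := U) hy)]
    exact congrArg _ (regular_lift_unique hM hU hUc (hlr _) hy (hl _))
  have hf : IsClassFunction (G ⧸ U) f := by
    intro q h
    obtain ⟨h', rfl⟩ := QuotientGroup.mk_surjective h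
    by_cases hq : ¬ p ∣ orderOf q
    · obtain ⟨x, rfl, hx⟩ := Inflation.exists_regular_lift U hU hq
      have hx' : ¬ p ∣ orderOf (h' * x * h'⁻¹) := by rwa [conj_orderOf]
      rw [← QuotientGroup.mk_inv, ← QuotientGroup.mk_mul, ← QuotientGroup.mk_mul, hfl _ hx',
        hfl _ hx]
      exact irr_isClassFun χ _ _
    · have hq' : ¬ ¬ p ∣ orderOf ((h' : G ⧸ U) * q * (h' : G ⧸ U)⁻¹) := by rwa [conj_orderOf]
      simp only [f, dif_neg hq, dif_neg hq']
  refine ⟨fun θ => classInner f (θ : G ⧸ U → ℂ), fun g hg => ?_⟩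
  set R := Finset.univ.filter (fun y : G => ¬ p ∣ orderOf y) with hR
  have hexp : ∀ y ∈ R, (χ : G → ℂ) y = ∑ θ : IrrCharacter (G ⧸ U),
      classInner f (θ : G ⧸ U → ℂ) * (Inflation.inflIrr U θ : G → ℂ) y := by
    intro y hy
    have := congrFun (eq_sum_irr hf) (y : G ⧸ U)
    simp only [Finset.sum_apply, Pi.smul_apply, smul_eq_mul] at this
    rw [← hfl y (Finset.mem_filter.1 hy).2, this]
    rfl
  have h1 := sum_regS_mul hM hB χ g
  rw [if_neg hg, ind_of_mem hχ, one_mul] at h1
  have h2 : ∀ ψ : IrrCharacter G, regS p (χ : G → ℂ) (ψ : G → ℂ) = ∑ θ : IrrCharacter (G ⧸ U),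
      classInner f (θ : G ⧸ U → ℂ) * regS p (Inflation.inflIrr U θ : G → ℂ) (ψ : G → ℂ) := by
    intro ψ
    simp only [regS_eq_sum, Finset.mul_sum, ← hR]
    rw [Finset.sum_comm]
    refine Finset.sum_congr rfl fun y hy => ?_
    rw [hexp y hy, Finset.sum_mul]
    exact Finset.sum_congr rfl fun θ _ => by ring
  simp only [h2, Finset.sum_mul, mul_assoc] at h1
  rw [Finset.sum_comm] at h1
  simp only [← Finset.mul_sum, sum_regS_mul hM hB, if_neg hg] at h1
  refine mul_left_cancel₀ (Nat.cast_ne_zero.2 (Nat.card_pos (α := G)).ne') (h1.symm.trans ?_)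
  rw [Finset.mul_sum]
  refine (Finset.sum_subset (Finset.subset_univ (bset (quotBlock U B))) fun θ _ hθ => ?_).symm.trans
    (Finset.sum_congr rfl fun θ hθ => ?_)
  · rw [ind_of_notMem (show Inflation.inflIrr U θ ∉ B from fun h => hθ (mem_bset.2 h))]
    ring
  · rw [ind_of_mem (show Inflation.inflIrr U θ ∈ B from (mem_bset.1 hθ :)), Inflation.inflIrr_apply]
    ring

/-- The dominated family is a block. -/
theorem quotBlock_isPBlock_central (hM : IsPModular p M) (hB : IsPBlock M B) {U : Subgroup G}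
    [U.Normal] [Fintype (G ⧸ U)] (hU : IsPGroup p U) (hUc : U ≤ Subgroup.center G) :
    IsPBlock M (quotBlock U B) := by
  classical
  have hC : ∃ k : ℕ, (Subgroup.centralizer (U : Set G)).index = p ^ k :=
    ⟨0, by rw [pow_zero, Subgroup.index_eq_one, Subgroup.centralizer_eq_top_iff_subset]; exact hUc⟩
  obtain ⟨χ, hχ⟩ := block_nonempty hM hB
  obtain ⟨a, ha⟩ := exists_quot_span hM hB hU hUc hχ
  obtain ⟨ψ, hψ⟩ : ∃ ψ, ψ ∈ quotBlock U B := by
    by_contra hno
    push Not at hno
    refine irr_one_ne_zero χ ((ha 1 (by simpa using hM.1.ne_one)).trans ?_)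
    exact Finset.sum_eq_zero fun θ hθ => absurd (mem_bset.1 hθ) (hno θ)
  refine (show quotBlock U B = blockOf M (ψ : G ⧸ U → ℂ) from ?_) ▸ blockOf_isPBlock ψ
  ext φ
  show Inflation.inflIrr U φ ∈ B ↔ SameBlock M (ψ : G ⧸ U → ℂ) (φ : G ⧸ U → ℂ)
  rw [Inflation.sameBlock_inflIrr_iff U hM hU hC]
  constructor
  · exact fun h => sameBlock_of_mem hM hB hψ h
  · intro h
    rw [eq_blockOf hM hB hψ]
    exact h

/-- The regular rank is at most that of the dominated block. -/
theorem blockRank_le_quot_central (hM : IsPModular p M) (hB : IsPBlock M B) {U : Subgroup G}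
    [U.Normal] [Fintype (G ⧸ U)] (hU : IsPGroup p U) (hUc : U ≤ Subgroup.center G) :
    blockRank p B ≤ blockRank p (quotBlock U B) := by
  classical
  let L : ((G ⧸ U) → ℂ) →ₗ[ℂ] (G → ℂ) :=
    { toFun := fun F g => if IsPRegular p g then F (g : G ⧸ U) else 0
      map_add' := fun F F' => funext fun g => by
        simp only [Pi.add_apply]; split_ifs <;> simp
      map_smul' := fun a F => funext fun g => by
        simp only [Pi.smul_apply, RingHom.id_apply]; split_ifs <;> simp }
  rw [blockRank, blockRank]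
  refine le_trans (Submodule.finrank_mono (t := (Submodule.span ℂ
    ((fun ψ : IrrCharacter (G ⧸ U) => pRegularPart p (ψ : G ⧸ U → ℂ)) '' quotBlock U B)).map L) ?_)
    (Submodule.finrank_map_le L _)
  rw [Submodule.span_le]
  rintro _ ⟨χ, hχ, rfl⟩
  obtain ⟨a, ha⟩ := exists_quot_span hM hB hU hUc hχ
  refine ⟨∑ θ ∈ bset (quotBlock U B), a θ • pRegularPart p (θ : G ⧸ U → ℂ),
    Submodule.sum_mem _ fun θ hθ => Submodule.smul_mem _ _
      (Submodule.subset_span ⟨θ, mem_bset.1 hθ, rfl⟩), funext fun g => ?_⟩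
  show (if IsPRegular p g then (∑ θ ∈ bset (quotBlock U B),
      a θ • pRegularPart p (θ : G ⧸ U → ℂ)) (g : G ⧸ U) else 0) = pRegularPart p (χ : G → ℂ) g
  by_cases h1 : IsPRegular p g
  · have h2 : IsPRegular p (g : G ⧸ U) := mk_regular h1
    simp only [Finset.sum_apply, Pi.smul_apply, smul_eq_mul, pRegularPart, if_pos h1, if_pos h2]
    exact (ha g h1).symm
  · simp only [pRegularPart, if_neg h1]

/-- A central subgroup of index at most four in a defect group: at most three Brauer characters. -/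
theorem rank_le_three_central {P : Subgroup G}
    {c : Set (IrrCharacter (Subgroup.centralizer (P : Set G)))}
    {M : Ideal AlgInt} (hM : IsPModular 2 M) (hmax : IsMaximalBrauerPair 2 M B P c)
    {U : Subgroup G} [U.Normal] (hUc : U ≤ Subgroup.center G) (hUP : U ≤ P)
    (hcard : Nat.card P ≤ 4 * Nat.card U) : blockRank 2 B ≤ 3 := by
  classical
  haveI : Fact (Nat.Prime 2) := ⟨Nat.prime_two⟩
  haveI := Fintype.ofFinite (G ⧸ U)
  have hU : IsPGroup 2 U := hmax.1.1.1.to_le hUP
  obtain ⟨c', hc'⟩ := exists_maximal_at hM (quotBlock_isPBlock_central hM hmax.1.2.1 hU hUc)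
    (quot_defectGroup hM hmax hUc hUP)
  refine (blockRank_le_quot_central hM hmax.1.2.1 hU hUc).trans ?_
  set Q := P.map (QuotientGroup.mk' U) with hQ
  have h4 : Nat.card Q ≤ 4 := by
    have h1 : Nat.card Q * Nat.card U = Nat.card P := card_map_mul hUP
    exact Nat.le_of_mul_le_mul_right (h1.le.trans hcard) Nat.card_pos
  have hQab : ∀ x ∈ Q, ∀ y ∈ Q, x * y = y * x := by
    obtain ⟨n, hn⟩ := IsPGroup.iff_card.1 hc'.1.1.1
    have hn2 : n ≤ 2 := by
      by_contra hcon
      have : 2 ^ 3 ≤ 2 ^ n := Nat.pow_le_pow_right two_pos (by omega)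
      have h5 : 2 ^ n ≤ 4 := hn ▸ h4
      omega
    haveI : IsMulCommutative Q := by
      interval_cases n
      · haveI : IsCyclic Q := by
          haveI : Subsingleton Q := (Nat.card_eq_one_iff_unique.1 (by rw [hn, pow_zero])).1
          infer_instance
        exact IsCyclic.isMulCommutative
      · haveI : IsCyclic Q := isCyclic_of_prime_card (p := 2) (by rw [hn, pow_one])
        exact IsCyclic.isMulCommutative
      · exact IsPGroup.isMulCommutative_of_card_eq_prime_sq hn
    exact fun x hx y hy => congrArg Subtype.val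
      ((IsMulCommutative.is_comm (M := Q)).comm ⟨x, hx⟩ ⟨y, hy⟩)
  refine rank_le_three hM hc' hQab (Nat.le_of_dvd (by norm_num)
    (card_inert_dvd_three hM hc' hQab (U := ⊥) bot_le bot_le ?_))
  rw [Subgroup.card_bot]
  omega

end CfsgLib.Blocks.OlssonFive
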