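import Cfsg.Agent.Lib.Blocks.OlssonFive.Bound
import Cfsg.Agent.Lib.Blocks.OlssonFive.QuotRank
import Mathlib.GroupTheory.Nilpotent

/-!
# The bound through an element with a small centraliser quotient, criteria for full centralization
-/

namespace CfsgLib.Blocks.OlssonFive

open Cfsg CfsgLib.CharTheory

set_option linter.unusedVariables false
set_option linter.unusedSimpArgs false
set_option linter.style.haveILetI false
set_option linter.unusedSectionVars false

universe u

variable {M : Ideal AlgInt} {G : Type u} [Group G] [Fintype G]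
  {B : Set (IrrCharacter G)} {P : Subgroup G}
  {c : Set (IrrCharacter (Subgroup.centralizer (P : Set G)))}

theorem mem_cent_zpowers {u x : G} :
    x ∈ Subgroup.centralizer ((Subgroup.zpowers u : Subgroup G) : Set G) ↔ x * u = u * x := by
  rw [Subgroup.zpowers_eq_closure, Subgroup.centralizer_closure,
    Subgroup.mem_centralizer_singleton_iff]

/-- The centraliser of an element in `P`. -/
abbrev centP (P : Subgroup G) (u : G) : Subgroup G :=
  P ⊓ Subgroup.centralizer ((Subgroup.zpowers u : Subgroup G) : Set G)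

theorem mem_centP {u x : G} : x ∈ centP P u ↔ x ∈ P ∧ x * u = u * x := by
  rw [centP, Subgroup.mem_inf, mem_cent_zpowers]

/-- A fully centralized element whose centraliser is at most four times its order. -/
theorem kZero_le_cent4 (hM : IsPModular 2 M) {F : FusionSystem P}
    (hF : IsBlockFusionSystemOn 2 M B P c F) {u : G} (hu : u ∈ P)
    (hfc : ∀ R, F.IsConj (Subgroup.zpowers u) R →
      Nat.card (P ⊓ Subgroup.centralizer (R : Set G) : Subgroup G) ≤ Nat.card (centP P u))
    (hsmall : Nat.card (centP P u) ≤ 4 * orderOf u) :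
    kZero B ≤ Nat.card (centP P u) := by
  classical
  have hQP : Subgroup.zpowers u ≤ P := Subgroup.zpowers_le.2 hu
  have hP : IsPGroup 2 P := hF.1.1.1.1
  have he := hF.1.1.1.2
  haveI := Fintype.ofFinite (Subgroup.centralizer ((Subgroup.zpowers u : Subgroup G) : Set G))
  obtain ⟨f, ⟨hf, hle⟩, -⟩ := existsUnique_subpair hM hP he _ hQP
  have hfull : F.IsFullyCentralized (Subgroup.zpowers u) := ⟨hQP, fun R hR => hfc R hR⟩
  have hdef := (fullyCentralized_iff hM hF hf hle).1 hfull
  have hind : IsInducedBlock M (Subgroup.centralizer ((Subgroup.zpowers u : Subgroup G) : Set G)) f B :=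
    (induced_centralizer_iff hM (hP.to_le hQP)).2
      ((pairOf_subpair_iff hM (a := ⟨_, f⟩) (b := ⟨P, c⟩) hle B).2 hF.1.1)
  obtain ⟨c', hc'⟩ := exists_maximal_at hM hf hdef
  set H := Subgroup.centralizer ((Subgroup.zpowers u : Subgroup G) : Set G) with hH
  set U := (Subgroup.zpowers u).subgroupOf H with hU
  have hQH : Subgroup.zpowers u ≤ H := fun q hq q' hq' => by
    obtain ⟨i, rfl⟩ := hq
    obtain ⟨j, rfl⟩ := hq'
    exact ((Commute.refl u).zpow_zpow j i).eq
  have hUc : U ≤ Subgroup.center H := fun q hq => Subgroup.mem_center_iff.2 fun g =>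
    Subtype.ext (g.2 (q : G) (Subgroup.mem_subgroupOf.1 hq)).symm
  haveI : U.Normal := normal_of_central hUc
  have hUP : U ≤ (P ⊓ H).subgroupOf H := Subgroup.comap_mono (le_inf hQP hQH)
  have hcard : Nat.card ((P ⊓ H).subgroupOf H) = Nat.card (P ⊓ H : Subgroup G) :=
    Nat.card_congr (Subgroup.subgroupOfEquivOfLe inf_le_right).toEquiv
  have hcardU : Nat.card U = orderOf u := by
    rw [hU, Nat.card_congr (Subgroup.subgroupOfEquivOfLe hQH).toEquiv, Nat.card_zpowers]
  have hl := rank_le_three_central hM hc' hUc hUP (by rw [hcard, hcardU]; exact hsmall)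
  refine (kZero_le_of_subsection hM (isCentr_zpowers u) (orderOf_pow_two hF.1 hu) hind hl).trans
    (le_of_eq ?_)
  exact (isDefectGroup_card_centP hM hf hdef).symm

/-- A subgroup conjugate to a cyclic one. -/
theorem exists_conjElt {F : FusionSystem P} {u : G} {R : Subgroup G}
    (h : F.IsConj (Subgroup.zpowers u) R) :
    ∃ v, R = Subgroup.zpowers v ∧ v ∈ P ∧ orderOf v = orderOf u ∧ F.IsConjElt u v := by
  obtain ⟨φ, hφ, rfl⟩ := h
  refine ⟨φ ⟨u, Subgroup.mem_zpowers u⟩, ?_, F.apply_mem hφ _, ?_, φ, hφ, rfl⟩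
  · ext y
    constructor
    · rintro ⟨⟨_, k, rfl⟩, rfl⟩
      refine Subgroup.mem_zpowers_iff.2 ⟨k, ?_⟩
      rw [← map_zpow]
      rfl
    · exact fun hy => (Subgroup.zpowers_le.2 (MonoidHom.mem_range.2 ⟨_, rfl⟩) : Subgroup.zpowers (φ ⟨u, Subgroup.mem_zpowers u⟩) ≤ φ.range) hy
  · rw [orderOf_injective φ (F.injective_of_mem hφ), Subgroup.orderOf_mk]

/-- Conjugate elements have conjugate powers. -/
theorem isConjElt_pow {F : FusionSystem P} {u v : G} (h : F.IsConjElt u v) (n : ℕ) :
    F.IsConjElt (u ^ n) (v ^ n) := by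
  obtain ⟨φ, hφ, rfl⟩ := h
  have hle : Subgroup.zpowers (u ^ n) ≤ Subgroup.zpowers u :=
    Subgroup.zpowers_le.2 (Subgroup.pow_mem _ (Subgroup.mem_zpowers u) n)
  refine ⟨φ.comp (Subgroup.inclusion hle), F.restrict_mem hφ hle, ?_⟩
  rw [← map_pow]
  rfl

/-- Every element conjugate to `u` has centraliser no larger: the bound. -/
theorem kZero_le_elts (hM : IsPModular 2 M) {F : FusionSystem P}
    (hF : IsBlockFusionSystemOn 2 M B P c F) {u : G} (hu : u ∈ P) {t : ℕ}
    (ht : Nat.card (centP P u) = t) (hsmall : t ≤ 4 * orderOf u)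
    (h : ∀ v ∈ P, orderOf v = orderOf u → F.IsConjElt u v → Nat.card (centP P v) ≤ t) :
    kZero B ≤ t := by
  subst ht
  refine kZero_le_cent4 hM hF hu (fun R hR => ?_) hsmall
  obtain ⟨v, rfl, hv, hord, hconj⟩ := exists_conjElt hR
  exact h v hv hord hconj

/-- A normal centraliser whose induced automorphisms lie in a normal two-subgroup of all its
automorphisms. -/
theorem kZero_le_kernel (hM : IsPModular 2 M) {F : FusionSystem P}
    (hF : IsBlockFusionSystemOn 2 M B P c F) {u : G} (hu : u ∈ P) {E : Subgroup G}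
    (hE : E = centP P u) (hnorm : P ≤ Subgroup.normalizer (E : Set G))
    (K : Subgroup (MulAut E)) (hK : ∀ α ∈ F.autGroup E, ∀ β ∈ K, α * β * α⁻¹ ∈ K)
    (hK2 : IsPGroup 2 K) (hPK : autInducedBy P E ≤ K) (hsmall : Nat.card E ≤ 4 * orderOf u) :
    kZero B ≤ Nat.card E := by
  haveI : Fact (Nat.Prime 2) := ⟨Nat.prime_two⟩
  have hsat := blockFusion_isSaturated hM hF
  have hP : IsPGroup 2 P := hF.1.1.1.1
  have hEP : E ≤ P := hE.le.trans inf_le_left
  have hfn : F.IsFullyNormalized E := ⟨hEP, fun Q hQ => by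
    rw [show FusionSystem.normalizerIn P E = P from inf_eq_left.2 hnorm]
    exact Subgroup.card_le_of_le inf_le_left⟩
  obtain ⟨-, R, hR⟩ := hsat.isFullyAutomized_of_isFullyNormalized hP hfn
  haveI : Finite (F.autGroup E) := FusionSystem.finite_autGroup hEP
  haveI hKn : (K.subgroupOf (F.autGroup E)).Normal :=
    ⟨fun β hβ α => Subgroup.mem_subgroupOf.2 (hK α α.2 β (Subgroup.mem_subgroupOf.1 hβ))⟩
  have hRK : K.subgroupOf (F.autGroup E) = (R : Subgroup (F.autGroup E)) :=
    R.is_maximal' (hK2.comap_of_injective (F.autGroup E).subtype (F.autGroup E).subtype_injective)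
      (hR.le.trans (Subgroup.comap_mono hPK))
  haveI : (R : Subgroup (F.autGroup E)).Normal := hRK ▸ hKn
  haveI := Sylow.unique_of_normal R inferInstance
  have hrigid : ∀ α ∈ (F.autGroup E), (∃ k : ℕ, α ^ (2 ^ k) = 1) → α ∈ autInducedBy P E := by
    rintro α hα ⟨k, hk⟩
    have hz : IsPGroup 2 (Subgroup.zpowers (⟨α, hα⟩ : (F.autGroup E))) := by
      obtain ⟨j, -, hj⟩ := (Nat.dvd_prime_pow Nat.prime_two).1
        (orderOf_dvd_of_pow_eq_one (show (⟨α, hα⟩ : (F.autGroup E)) ^ (2 ^ k) = 1 from Subtype.ext hk))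
      exact IsPGroup.of_card (n := j) (by rw [Nat.card_zpowers, hj])
    obtain ⟨Q, hQ⟩ := hz.exists_le_sylow
    have h1 : (⟨α, hα⟩ : (F.autGroup E)) ∈ (R : Subgroup (F.autGroup E)) :=
      Subsingleton.elim Q R ▸ hQ (Subgroup.mem_zpowers _)
    rw [hR] at h1
    exact Subgroup.mem_subgroupOf.1 h1
  subst hE
  exact kZero_le_cent4 hM hF hu (fun R hR => card_centralizerIn_le_of_rigid hsat hP hu rfl hnorm
    hrigid hR) hsmall

section kernels

variable {A : Type u} [CommGroup A]

/-- The automorphisms fixing the elements of order at most two. -/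
def fixTwo (A : Type u) [CommGroup A] : Subgroup (MulAut A) where
  carrier := {α | ∀ x : A, x * x = 1 → α x = x}
  mul_mem' {a b} ha hb x hx := by rw [MulAut.mul_apply, hb x hx, ha x hx]
  one_mem' x hx := rfl
  inv_mem' {a} ha x hx := by
    conv_lhs => rw [← ha x hx]
    exact MulAut.inv_apply_self A a x

theorem fixTwo_normal : (fixTwo A).Normal := ⟨fun β hβ α x hx => by
  rw [MulAut.mul_apply, MulAut.mul_apply, hβ _ (by rw [← map_mul, hx, map_one]),
    MulAut.apply_inv_self]⟩

/-- The automorphisms acting trivially modulo squares. -/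
def sqKer (A : Type u) [CommGroup A] : Subgroup (MulAut A) where
  carrier := {α | ∀ x : A, ∃ y : A, α x = x * (y * y)}
  mul_mem' {a b} ha hb x := by
    obtain ⟨y, hy⟩ := hb x
    obtain ⟨z, hz⟩ := ha x
    exact ⟨z * a y, by rw [MulAut.mul_apply, hy, map_mul, map_mul, hz]; ac_rfl⟩
  one_mem' x := ⟨1, by simp⟩
  inv_mem' {a} ha x := by
    obtain ⟨y, hy⟩ := ha (a⁻¹ x)
    rw [MulAut.apply_inv_self] at hy
    exact ⟨y⁻¹, by rw [← mul_inv, eq_mul_inv_iff_mul_eq]; exact hy.symm⟩

theorem sqKer_normal : (sqKer A).Normal := ⟨fun β hβ α x => by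
  obtain ⟨y, hy⟩ := hβ (α⁻¹ x)
  exact ⟨α y, by rw [MulAut.mul_apply, MulAut.mul_apply, hy, map_mul, map_mul, MulAut.apply_inv_self]⟩⟩

variable [Finite A]

/-- A subgroup all of whose elements of odd order are trivial is a two-group. -/
theorem isPGroup_two_of_odd {X : Type u} [Group X] [Finite X] (K : Subgroup X)
    (h : ∀ α ∈ K, ∀ e : ℕ, Odd e → α ^ e = 1 → α = 1) : IsPGroup 2 K := by
  intro α
  obtain ⟨k, m, hm, hk⟩ := Nat.exists_eq_two_pow_mul_odd (orderOf_pos (α : X)).ne'
  refine ⟨k, Subtype.ext ?_⟩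
  rw [SubgroupClass.coe_pow]
  refine h _ (K.pow_mem α.2 _) m hm ?_
  rw [← pow_mul, ← hk, pow_orderOf_eq_one]

theorem finite_mulAut (A : Type u) [CommGroup A] [Finite A] : Finite (MulAut A) :=
  Finite.of_injective (fun a : MulAut A => (a : A → A)) fun a b h => MulEquiv.ext (congrFun h)

theorem fixTwo_two (hA : IsPGroup 2 A) : IsPGroup 2 (fixTwo A) := by
  haveI := finite_mulAut A
  refine isPGroup_two_of_odd _ fun α hα e he hαe => ?_
  have key : ∀ k : ℕ, ∀ z : A, z ^ (2 ^ k) = 1 → α z = z := by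
    intro k
    induction k with
    | zero => intro z h; rw [pow_zero, pow_one] at h; rw [h, map_one]
    | succ k ih =>
      intro z h
      have h2 : α (z * z) = z * z := ih _ (by rw [← pow_two, ← pow_mul, ← pow_succ']; exact h)
      set d := α z * z⁻¹ with hd
      have hd2 : d * d = 1 := by
        rw [hd, mul_mul_mul_comm, ← map_mul, h2, ← mul_inv, mul_inv_cancel]
      have hdfix := hα d hd2
      have hpow : ∀ i : ℕ, (α ^ i) z = d ^ i * z := by
        intro i
        induction i with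
        | zero => simp
        | succ i ih2 =>
          rw [pow_succ', MulAut.mul_apply, ih2, map_mul, map_pow, hdfix, pow_succ, mul_assoc, hd,
            inv_mul_cancel_right]
      have h3 := hpow e
      rw [hαe, MulAut.one_apply] at h3
      have h4 : d ^ e = 1 := mul_eq_right.1 h3.symm
      obtain ⟨j, rfl⟩ := he
      rw [pow_succ, pow_mul, pow_two, hd2, one_pow, one_mul, hd, mul_inv_eq_one] at h4
      exact h4
  refine MulEquiv.ext fun z => ?_
  obtain ⟨k, hk⟩ := hA z
  exact key k z hk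

theorem sqKer_two (hA : IsPGroup 2 A) : IsPGroup 2 (sqKer A) := by
  haveI := finite_mulAut A
  refine isPGroup_two_of_odd _ fun α hα e he hαe => MulEquiv.ext fun x => ?_
  have key : ∀ k : ℕ, ∀ z : A, ∃ y : A, α z = z * y ^ (2 ^ (k + 1)) := by
    intro k
    induction k with
    | zero =>
      intro z
      obtain ⟨y, hy⟩ := hα z
      exact ⟨y, by rw [hy, pow_one, pow_two]⟩
    | succ k ih =>
      intro z
      set N := (powMonoidHom (2 ^ (k + 1 + 1)) : A →* A).range with hN
      obtain ⟨y, hy⟩ := ih z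
      set d := y ^ (2 ^ (k + 1)) with hd
      have hdfix : (α d : A ⧸ N) = (d : A ⧸ N) := by
        obtain ⟨w, hw⟩ := hα y
        rw [QuotientGroup.eq, hd, map_pow, hw]
        refine ⟨w⁻¹, ?_⟩
        show (w⁻¹) ^ (2 ^ (k + 1 + 1)) = _
        rw [mul_pow, mul_inv_rev, inv_mul_cancel_right, ← pow_two, ← pow_mul, ← pow_succ', inv_pow]
      let αN : (A ⧸ N) →* (A ⧸ N) := QuotientGroup.map N N α.toMonoidHom (by
        rintro _ ⟨w, rfl⟩
        exact ⟨α w, by simp⟩)
      have hαN : ∀ w : A, αN (w : A ⧸ N) = ((α w : A) : A ⧸ N) := fun w => rfl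
      have hpow : ∀ i : ℕ, (((α ^ i) z : A) : A ⧸ N) = (z : A ⧸ N) * (d : A ⧸ N) ^ i := by
        intro i
        induction i with
        | zero => simp
        | succ i ih2 =>
          rw [pow_succ' α, MulAut.mul_apply, ← hαN, ih2, map_mul, map_pow, hαN, hαN, hdfix, hy,
            QuotientGroup.mk_mul, mul_assoc, ← pow_succ']
      have h3 := hpow e
      rw [hαe, MulAut.one_apply, left_eq_mul] at h3
      have hd2 : (d : A ⧸ N) ^ 2 = 1 := by
        rw [← QuotientGroup.mk_pow, QuotientGroup.eq_one_iff, hd]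
        exact ⟨y, by rw [powMonoidHom_apply, ← pow_mul, ← pow_succ]⟩
      obtain ⟨j, rfl⟩ := he
      rw [pow_succ, pow_mul, hd2, one_pow, one_mul, QuotientGroup.eq_one_iff] at h3
      obtain ⟨w, hw⟩ := h3
      refine ⟨w, ?_⟩
      rw [hy]
      exact congrArg (z * ·) hw.symm
  obtain ⟨n, hn⟩ := IsPGroup.iff_card.1 hA
  obtain ⟨y, hy⟩ := key n x
  rw [MulAut.one_apply, hy, pow_succ, pow_mul, ← hn, pow_card_eq_one', one_pow, mul_one]

end kernels

end CfsgLib.Blocks.OlssonFive
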