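import Mathlib.GroupTheory.Commutator.Basic
import Mathlib.GroupTheory.Abelianization.Defs
import Mathlib.GroupTheory.PGroup
import Mathlib.Tactic

/-!
# Groups of order at most thirty two with derived group of order two
-/

namespace CfsgLib.Blocks.OlssonFive.Grp

set_option linter.unusedVariables false
set_option linter.style.haveILetI false
set_option linter.unusedSectionVars false

universe u

variable {S : Type u} [Group S]

/-- The centraliser of an element. -/
abbrev cen (x : S) : Subgroup S := Subgroup.centralizer ({x} : Set S)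

theorem mem_cen {x g : S} : g ∈ cen x ↔ g * x = x * g := Subgroup.mem_centralizer_singleton_iff

theorem mem_cen_iff {x g : S} : g ∈ cen x ↔ g * x * g⁻¹ = x := by
  rw [mem_cen, mul_inv_eq_iff_eq_mul]

theorem self_mem_cen (x : S) : x ∈ cen x := mem_cen.2 rfl

theorem center_le_cen (x : S) : Subgroup.center S ≤ cen x := fun g hg =>
  mem_cen.2 (Subgroup.mem_center_iff.1 hg x).symm

theorem conj_mul_inv_mem (x g : S) : g * x * g⁻¹ * x⁻¹ ∈ commutator S := by
  rw [_root_.commutator_def]
  exact Subgroup.commutator_mem_commutator (Subgroup.mem_top g) (Subgroup.mem_top x)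

theorem index_cen_le [Finite S] (x : S) : (cen x).index ≤ Nat.card (commutator S) := by
  rw [Subgroup.index_eq_card]
  let f : S ⧸ cen x → commutator S := Quotient.lift
    (fun g : S => (⟨g * x * g⁻¹ * x⁻¹, conj_mul_inv_mem x g⟩ : commutator S))
    (fun a b hab => Subtype.ext (by
      have h := mem_cen_iff.1 (QuotientGroup.leftRel_apply.1 hab)
      have e : b * x * b⁻¹ = a * ((a⁻¹ * b) * x * (a⁻¹ * b)⁻¹) * a⁻¹ := by group
      show a * x * a⁻¹ * x⁻¹ = b * x * b⁻¹ * x⁻¹
      rw [e, h]))
  refine Nat.card_le_card_of_injective f ?_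
  intro a b hab
  induction a using QuotientGroup.induction_on with
  | H a =>
    induction b using QuotientGroup.induction_on with
    | H b =>
      refine QuotientGroup.eq.2 (mem_cen_iff.2 ?_)
      have h : a * x * a⁻¹ * x⁻¹ = b * x * b⁻¹ * x⁻¹ := congrArg Subtype.val hab
      have h2 := mul_right_cancel h
      rw [show a⁻¹ * b * x * (a⁻¹ * b)⁻¹ = a⁻¹ * (b * x * b⁻¹) * a by group, ← h2]
      group

theorem two_le_index_cen [Finite S] {x : S} (hx : x ∉ Subgroup.center S) : 2 ≤ (cen x).index := by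
  by_contra h
  have h0 : (cen x).index ≠ 0 := Subgroup.index_ne_zero_of_finite
  have h1 : cen x = ⊤ := Subgroup.index_eq_one.1 (by omega)
  refine hx (Subgroup.mem_center_iff.2 fun g => ?_)
  exact mem_cen.1 (h1 ▸ Subgroup.mem_top g)

theorem mem_commutator_two [Finite S] (h2 : Nat.card (commutator S) = 2) {c y : S}
    (hc : c ∈ commutator S) (hc1 : c ≠ 1) (hy : y ∈ commutator S) : y = 1 ∨ y = c := by
  classical
  haveI := Fintype.ofFinite (commutator S)
  by_contra h
  push Not at h
  have h3 : ({⟨1, one_mem _⟩, ⟨c, hc⟩, ⟨y, hy⟩} : Finset (commutator S)).card = 3 := by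
    simp [Finset.card_insert_of_notMem, Ne.symm hc1, Ne.symm h.1, Ne.symm h.2]
  have h4 := Finset.card_le_univ ({⟨1, one_mem _⟩, ⟨c, hc⟩, ⟨y, hy⟩} : Finset (commutator S))
  rw [h3, ← Nat.card_eq_fintype_card, h2] at h4
  omega

theorem exists_noncomm (h : ∃ x : S, x ∉ Subgroup.center S) : ∃ x y : S, x * y ≠ y * x := by
  obtain ⟨x, hx⟩ := h
  rw [Subgroup.mem_center_iff] at hx
  push Not at hx
  obtain ⟨y, hy⟩ := hx
  exact ⟨y, x, hy⟩

/-- The data for a group with derived group of order two. -/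
theorem two_cases [Finite S] (hS : IsPGroup 2 S) (h32 : Nat.card S ≤ 32) (h16 : 16 ≤ Nat.card S)
    (h2 : Nat.card (commutator S) = 2) :
    ∃ u : S, 2 * Nat.card (cen u) = Nat.card S ∧ Nat.card (cen u) ≤ 4 * orderOf u ∧
      ((∀ v : S, orderOf v = orderOf u → Nat.card (cen v) ≤ Nat.card (cen u)) ∨
        ((cen u).Normal ∧ (∀ x ∈ cen u, ∀ y ∈ cen u, x * y = y * x) ∧
          ((∀ g : S, ∀ x ∈ cen u, x * x = 1 → g * x * g⁻¹ = x) ∨
            (∀ g : S, ∀ x ∈ cen u, ∃ y ∈ cen u, g * x * g⁻¹ = x * (y * y))))) := by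
  classical
  haveI : Fact (Nat.Prime 2) := ⟨Nat.prime_two⟩
  obtain ⟨x, y, hxy⟩ : ∃ x y : S, x * y ≠ y * x := by
    refine exists_noncomm ?_
    by_contra h
    push Not at h
    have : commutator S = ⊥ := by
      rw [_root_.commutator_def, eq_bot_iff, Subgroup.commutator_le]
      intro a _ b _
      rw [Subgroup.mem_bot, commutatorElement_eq_one_iff_mul_comm]
      exact Subgroup.mem_center_iff.1 (h b) a
    rw [this, Subgroup.card_bot] at h2
    omega
  set c := x * y * x⁻¹ * y⁻¹ with hc
  have hcT : c ∈ commutator S := conj_mul_inv_mem y x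
  have hc1 : c ≠ 1 := fun e => hxy (by rw [hc, mul_inv_eq_one, mul_inv_eq_iff_eq_mul] at e; exact e)
  have hT := @mem_commutator_two S _ _ h2 c
  have hccen : c ∈ Subgroup.center S := Subgroup.mem_center_iff.2 fun g => by
    rcases hT (y := g * c * g⁻¹) hcT hc1 ((inferInstance : (commutator S).Normal).conj_mem c hcT g) with h | h
    · exact absurd (conj_eq_one_iff.1 h) hc1
    · exact mul_inv_eq_iff_eq_mul.1 h
  have hconj : ∀ g w : S, g * w * g⁻¹ = w ∨ g * w * g⁻¹ = c * w := fun g w => by
    rcases hT (y := g * w * g⁻¹ * w⁻¹) hcT hc1 (conj_mul_inv_mem w g) with h | h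
    · exact Or.inl (mul_inv_eq_one.1 h)
    · exact Or.inr (mul_inv_eq_iff_eq_mul.1 h)
  have hhalf : ∀ u : S, u ∉ Subgroup.center S → 2 * Nat.card (cen u) = Nat.card S := by
    intro u hu
    have h1 := Subgroup.card_mul_index (cen u)
    have h3 := index_cen_le u
    have h4 := two_le_index_cen hu
    rw [h2] at h3
    rw [show (cen u).index = 2 by omega, mul_comm] at h1
    exact h1
  have hnormal : ∀ u : S, (cen u).Normal := fun u => ⟨fun w hw g => by
    rcases hconj g w with h | h <;> rw [h]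
    · exact hw
    · exact (cen u).mul_mem (center_le_cen u hccen) hw⟩
  have hord : ∀ w : S, w ≠ 1 → w * w ≠ 1 → 4 ≤ orderOf w := by
    intro w hw1 hw2
    obtain ⟨k, hk⟩ := IsPGroup.iff_orderOf.1 hS w
    have : 2 ≤ k := by
      by_contra hlt
      interval_cases k
      · exact hw1 (orderOf_eq_one_iff.1 (by simpa using hk))
      · exact hw2 (by rw [← pow_two, ← show orderOf w = 2 by simpa using hk, pow_orderOf_eq_one])
    rw [hk]
    exact (show 4 = 2 ^ 2 by norm_num).le.trans (Nat.pow_le_pow_right two_pos this)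
  have hsmall : ∀ u : S, u ∉ Subgroup.center S → 4 ≤ orderOf u →
      Nat.card (cen u) ≤ 4 * orderOf u := fun u hu h4 => by
    have := hhalf u hu
    omega
  by_cases hZ : ∃ z ∈ Subgroup.center S, z * z ≠ 1
  swap
  · push Not at hZ
    obtain ⟨w, hw⟩ : ∃ w : S, w * w ≠ 1 := by
      by_contra h
      push Not at h
      refine hxy ?_
      have := h (x * y)
      calc x * y = x * (x * y * (x * y)) * y := by rw [this, mul_one]
        _ = (x * x) * (y * x) * (y * y) := by group
        _ = y * x := by rw [h x, h y, one_mul, mul_one]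
    have hw1 : w ≠ 1 := fun e => hw (by rw [e, one_mul])
    have hwZ : w ∉ Subgroup.center S := fun h => hw (hZ w h)
    refine ⟨w, hhalf w hwZ, hsmall w hwZ (hord w hw1 hw), Or.inl fun v hv => ?_⟩
    have hvZ : v ∉ Subgroup.center S := fun h => by
      have h5 : orderOf v ∣ 2 := orderOf_dvd_of_pow_eq_one (by rw [pow_two]; exact hZ v h)
      have := Nat.le_of_dvd two_pos h5
      have := hord w hw1 hw
      omega
    have := hhalf v hvZ
    have := hhalf w hwZ
    omega
  obtain ⟨z, hz, hz2⟩ := hZ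
  have hz1 : z ≠ 1 := fun e => hz2 (by rw [e, one_mul])
  -- the centre has index four
  set Z := Subgroup.center S with hZdef
  have hZ4 : 4 ≤ Nat.card Z := (hord z hz1 hz2).trans (by
    rw [← Nat.card_zpowers]; exact Subgroup.card_le_of_le (Subgroup.zpowers_le.2 hz))
  set H := cen x ⊓ cen y with hH
  have hHx : x ∉ cen y := fun h => hxy (mem_cen.1 h)
  have hHy : y ∉ cen x := fun h => hxy (mem_cen.1 h).symm
  have hxZ : x ∉ Z := fun h => hHx (center_le_cen y h)
  have hyZ : y ∉ Z := fun h => hHy (center_le_cen x h)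
  have hcover : ∀ g : S, g ∈ H ∨ x⁻¹ * g ∈ H ∨ y⁻¹ * g ∈ H ∨ (x * y)⁻¹ * g ∈ H := by
    intro g
    have hix : (cen x).index = 2 := by
      have := index_cen_le x; have := two_le_index_cen hxZ; omega
    have hiy : (cen y).index = 2 := by
      have := index_cen_le y; have := two_le_index_cen hyZ; omega
    have key : ∀ (A : Subgroup S), A.index = 2 → ∀ a b : S, a ∉ A → b ∉ A → a⁻¹ * b ∈ A :=
      fun A hA a b ha hb => (Subgroup.mul_mem_iff_of_index_two hA).2
        (by simp [inv_mem_iff, ha, hb])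
    by_cases h1 : g ∈ cen x <;> by_cases h3 : g ∈ cen y
    · exact Or.inl ⟨h1, h3⟩
    · exact Or.inr (Or.inl ⟨(cen x).mul_mem ((cen x).inv_mem (self_mem_cen x)) h1,
        key _ hiy x g hHx h3⟩)
    · exact Or.inr (Or.inr (Or.inl ⟨key _ hix y g hHy h1,
        (cen y).mul_mem ((cen y).inv_mem (self_mem_cen y)) h3⟩))
    · refine Or.inr (Or.inr (Or.inr ⟨key _ hix _ g (fun h => hHy ?_) h1, key _ hiy _ g (fun h => hHx ?_) h3⟩))
      · exact (Subgroup.mul_mem_cancel_left (cen x) (self_mem_cen x)).1 h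
      · exact (Subgroup.mul_mem_cancel_right (cen y) (self_mem_cen y)).1 h
  have hHab : ∀ a ∈ H, ∀ b ∈ H, a * b = b * a := by
    by_contra hne
    push Not at hne
    obtain ⟨a, ha, b, hb, hab⟩ := hne
    -- `H` has order at most eight and the central part has index at most two
    have h8 : Nat.card H ≤ 8 := by
      have h5 : Nat.card H < Nat.card (cen x) := by
        refine lt_of_le_of_ne (Subgroup.card_le_of_le inf_le_left) fun e => ?_
        have e2 : H = cen x := Subgroup.eq_of_le_of_card_ge inf_le_left e.ge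
        exact hHx (e2 ▸ self_mem_cen x : x ∈ H).2
      obtain ⟨i, hi⟩ := (hS.to_subgroup H).exists_card_eq
      obtain ⟨j, hj⟩ := (hS.to_subgroup (cen x)).exists_card_eq
      have := hhalf x hxZ
      rw [hi, hj] at h5
      have hij : i < j := (Nat.pow_lt_pow_iff_right (by norm_num)).1 h5
      have : 2 ^ (i + 1) ≤ 2 ^ j := Nat.pow_le_pow_right two_pos hij
      rw [pow_succ] at this
      omega
    have hZH : Z ≤ H := le_inf (center_le_cen x) (center_le_cen y)
    have hidx : (Z.subgroupOf H).index ≤ 2 := by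
      have h5 := Subgroup.card_mul_index (Z.subgroupOf H)
      rw [Nat.card_congr (Subgroup.subgroupOfEquivOfLe hZH).toEquiv] at h5
      by_contra h6
      have : Nat.card Z * 3 ≤ Nat.card Z * (Z.subgroupOf H).index := Nat.mul_le_mul_left _ (by omega)
      omega
    have hA : a ∉ Z := fun h => hab (Subgroup.mem_center_iff.1 h b).symm
    have hB : b ∉ Z := fun h => hab (Subgroup.mem_center_iff.1 h a)
    have h2' : (Z.subgroupOf H).index = 2 := by
      have h0 : (Z.subgroupOf H).index ≠ 0 := Subgroup.index_ne_zero_of_finite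
      have h1 : (Z.subgroupOf H).index ≠ 1 := fun e => by
        have := Subgroup.index_eq_one.1 e
        exact hA (Subgroup.mem_subgroupOf.1 (this ▸ Subgroup.mem_top (⟨a, ha⟩ : H)))
      omega
    have h7 : (⟨a, ha⟩ : H)⁻¹ * ⟨b, hb⟩ ∈ Z.subgroupOf H :=
      (Subgroup.mul_mem_iff_of_index_two h2').2
        (by simp [inv_mem_iff, Subgroup.mem_subgroupOf, hA, hB])
    have h8' := Subgroup.mem_center_iff.1 (Subgroup.mem_subgroupOf.1 h7) a
    simp only [Subgroup.coe_mul, Subgroup.coe_inv] at h8'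
    refine hab ?_
    calc a * b = a * (a * (a⁻¹ * b)) := by group
      _ = a * (a⁻¹ * b * a) := by rw [← h8']
      _ = b * a := by group
  have hHZ : H = Z := by
    refine le_antisymm (fun h hh => Subgroup.mem_center_iff.2 fun g => ?_)
      (le_inf (center_le_cen x) (center_le_cen y))
    have hhx : h * x = x * h := mem_cen.1 hh.1
    have hhy : h * y = y * h := mem_cen.1 hh.2
    rcases hcover g with h1 | h1 | h1 | h1
    · exact hHab g h1 h hh
    all_goals
      obtain ⟨r, hr, rfl⟩ : ∃ r ∈ H, g = _ * r := ⟨_, h1, (mul_inv_cancel_left _ g).symm⟩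
      have hrh : Commute r h := hHab r hr h hh
    · exact ((show Commute x h from hhx.symm).mul_left hrh).eq
    · exact ((show Commute y h from hhy.symm).mul_left hrh).eq
    · exact (((show Commute x h from hhx.symm).mul_left (show Commute y h from hhy.symm)).mul_left
        hrh).eq
  have hC : ∀ u : S, u ∉ Z → ∀ w ∈ cen u, w ∈ Z ∨ u⁻¹ * w ∈ Z := by
    intro u hu w hw
    rw [← hHZ]
    by_contra hne
    push Not at hne
    -- four cosets of the centre in `cen u`
    have hle : Z ≤ cen u := center_le_cen u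
    have hidx : (Z.subgroupOf (cen u)).index ≤ 2 := by
      have h5 := Subgroup.card_mul_index (Z.subgroupOf (cen u))
      rw [Nat.card_congr (Subgroup.subgroupOfEquivOfLe hle).toEquiv] at h5
      have h6 := hhalf u hu
      have h7 : Z.index ≤ 4 := by
        rw [Subgroup.index_eq_card]
        let f : Fin 4 → S ⧸ Z := ![QuotientGroup.mk 1, QuotientGroup.mk x, QuotientGroup.mk y,
          QuotientGroup.mk (x * y)]
        refine le_trans (Nat.card_le_card_of_surjective f fun q => ?_) (by simp)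
        induction q using QuotientGroup.induction_on with
        | H g =>
          rcases hcover g with h1 | h1 | h1 | h1 <;> rw [hHZ] at h1
          · exact ⟨0, QuotientGroup.eq.2 (by simpa using h1)⟩
          · exact ⟨1, QuotientGroup.eq.2 h1⟩
          · exact ⟨2, QuotientGroup.eq.2 h1⟩
          · exact ⟨3, QuotientGroup.eq.2 h1⟩
      have h8 := Subgroup.card_mul_index Z
      by_contra h9
      have : Nat.card Z * 3 ≤ Nat.card Z * (Z.subgroupOf (cen u)).index := Nat.mul_le_mul_left _ (by omega)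
      have : Nat.card Z * Z.index ≤ Nat.card Z * 4 := Nat.mul_le_mul_left _ h7
      omega
    have h2' : (Z.subgroupOf (cen u)).index = 2 := by
      have h0 : (Z.subgroupOf (cen u)).index ≠ 0 := Subgroup.index_ne_zero_of_finite
      have h1 : (Z.subgroupOf (cen u)).index ≠ 1 := fun e => by
        have := Subgroup.index_eq_one.1 e
        exact hu (Subgroup.mem_subgroupOf.1 (this ▸ Subgroup.mem_top (⟨u, self_mem_cen u⟩ : cen u)))
      omega
    have h7 : (⟨u, self_mem_cen u⟩ : cen u)⁻¹ * ⟨w, hw⟩ ∈ Z.subgroupOf (cen u) :=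
      (Subgroup.mul_mem_iff_of_index_two h2').2
        (by simp [inv_mem_iff, Subgroup.mem_subgroupOf, hu, hHZ ▸ hne.1])
    exact hne.2 (hHZ.symm ▸ (Subgroup.mem_subgroupOf.1 h7 : u⁻¹ * w ∈ Z))
  have hab : ∀ u : S, u ∉ Z → ∀ a ∈ cen u, ∀ b ∈ cen u, a * b = b * a := by
    intro u hu a ha b hb
    rcases hC u hu a ha with h | h
    · exact (Subgroup.mem_center_iff.1 h b).symm
    · rcases hC u hu b hb with h' | h'
      · exact Subgroup.mem_center_iff.1 h' a
      · have e1 : Commute u (u⁻¹ * a) := Subgroup.mem_center_iff.1 h u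
        have e2 : Commute u (u⁻¹ * b) := Subgroup.mem_center_iff.1 h' u
        have e3 : Commute (u⁻¹ * a) (u⁻¹ * b) := Subgroup.mem_center_iff.1 h' _
        have := (((Commute.refl u).mul_right e2).mul_left (e1.symm.mul_right e3))
        simpa using this.eq
  by_cases hsq : ∃ z0 ∈ Z, z0 * z0 = c
  · obtain ⟨z0, hz0, hz0c⟩ := hsq
    obtain ⟨u, hu, hu4⟩ : ∃ u, u ∉ Z ∧ 4 ≤ orderOf u := by
      by_cases hx2 : x * x = 1
      · refine ⟨x * z, fun h => hxZ ((Subgroup.mul_mem_cancel_right Z hz).1 h), hord _ (fun e => hxZ ?_) fun e => ?_⟩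
        · rw [eq_inv_of_mul_eq_one_left e]; exact Z.inv_mem hz
        · rw [mul_assoc, ← mul_assoc z, ← Subgroup.mem_center_iff.1 hz x, mul_assoc x z, ← mul_assoc,
            hx2, one_mul] at e
          exact hz2 e
      · exact ⟨x, hxZ, hord x (fun e => hxZ (e ▸ Z.one_mem)) hx2⟩
    refine ⟨u, hhalf u hu, hsmall u hu hu4, Or.inr ⟨hnormal u, hab u hu, Or.inr fun g w hw => ?_⟩⟩
    rcases hconj g w with h | h
    · exact ⟨1, (cen u).one_mem, by simpa using h⟩
    · exact ⟨z0, center_le_cen u hz0, by rw [h, hz0c, Subgroup.mem_center_iff.1 hccen w]⟩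
  push Not at hsq
  -- some coset of the centre has no involution
  obtain ⟨u, hu, hnoinv⟩ : ∃ u, u ∉ Z ∧ ∀ w, u⁻¹ * w ∈ Z → w * w ≠ 1 := by
    by_contra hall
    push Not at hall
    obtain ⟨a, ha, ha2⟩ := hall x hxZ
    obtain ⟨b, hb, hb2⟩ := hall y hyZ
    have hab' : a * b * a⁻¹ * b⁻¹ = c := by
      obtain ⟨r, hr, rfl⟩ : ∃ r ∈ Z, a = x * r := ⟨_, ha, (mul_inv_cancel_left _ a).symm⟩
      obtain ⟨t, ht, rfl⟩ : ∃ t ∈ Z, b = y * t := ⟨_, hb, (mul_inv_cancel_left _ b).symm⟩
      have cr := Subgroup.mem_center_iff.1 hr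
      have ct := Subgroup.mem_center_iff.1 ht
      rw [mul_inv_rev, mul_inv_rev, hc]
      calc x * r * (y * t) * (r⁻¹ * x⁻¹) * (t⁻¹ * y⁻¹)
          = x * ((r * (y * t)) * r⁻¹) * x⁻¹ * t⁻¹ * y⁻¹ := by group
        _ = x * (y * t) * x⁻¹ * t⁻¹ * y⁻¹ := by rw [← cr (y * t), mul_inv_cancel_right]
        _ = x * y * ((t * x⁻¹) * t⁻¹) * y⁻¹ := by group
        _ = x * y * x⁻¹ * y⁻¹ := by rw [← ct x⁻¹, mul_inv_cancel_right]
    have hab2 : a * b ∉ Z := fun h => hc1 (by
      have e := Subgroup.mem_center_iff.1 h b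
      have e3 : a * b = b * a := mul_right_cancel (by rw [← e, mul_assoc] : a * b * b = b * a * b)
      rw [← hab', e3, mul_inv_cancel_right, mul_inv_cancel])
    obtain ⟨w, hw, hw2⟩ := hall (a * b) hab2
    obtain ⟨r, hr, rfl⟩ : ∃ r ∈ Z, w = a * b * r := ⟨_, hw, (mul_inv_cancel_left _ w).symm⟩
    have cr := Subgroup.mem_center_iff.1 hr
    have hainv : a⁻¹ = a := inv_eq_of_mul_eq_one_right ha2
    have hbinv : b⁻¹ = b := inv_eq_of_mul_eq_one_right hb2
    have h5 : a * b * (a * b) * (r * r) = 1 := by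
      have e : Commute (a * b) r := cr _
      rw [← hw2]
      calc a * b * (a * b) * (r * r) = a * b * ((a * b) * r) * r := by group
        _ = a * b * (r * (a * b)) * r := by rw [e.eq]
        _ = a * b * r * (a * b * r) := by group
    have h6 : a * b * (a * b) = c := by
      rw [← hab', hainv, hbinv]; group
    rw [h6] at h5
    exact hsq r⁻¹ (Z.inv_mem hr) (by rw [← mul_inv_rev, eq_inv_of_mul_eq_one_left h5])
  have hu2 : u * u ≠ 1 := hnoinv u (by rw [inv_mul_cancel]; exact Z.one_mem)
  refine ⟨u, hhalf u hu, hsmall u hu (hord u (fun e => hu2 (by rw [e, one_mul])) hu2),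
    Or.inr ⟨hnormal u, hab u hu, Or.inl fun g w hw hw2 => ?_⟩⟩
  rcases hC u hu w hw with h | h
  · rw [Subgroup.mem_center_iff.1 h g, mul_inv_cancel_right]
  · exact absurd hw2 (hnoinv w h)

end CfsgLib.Blocks.OlssonFive.Grp
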