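import Cfsg.Agent.Lib.Blocks.OlssonFive.OddLinear
import Mathlib.GroupTheory.SpecificGroups.Cyclic

/-!
# Odd order groups acting on an elementary abelian group of order at most 32

Some nontrivial element has stabilizer of order at most three, apart from the case in which some
element has stabilizer of order five acting without further fixed points.
-/

namespace CfsgLib.Blocks.OlssonFive.Odd

set_option linter.unusedVariables false
set_option linter.style.haveILetI false
set_option linter.unusedSectionVars false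

universe u

variable {V : Type u} [CommGroup V] [Finite V]

theorem finite_aut : Finite (MulAut V) :=
  Finite.of_injective (fun a : MulAut V => (a : V → V)) fun a b h => MulEquiv.ext (congrFun h)

/-- The elements fixed by a group of automorphisms. -/
def fixV (B : Subgroup (MulAut V)) : Subgroup V where
  carrier := {y | ∀ β ∈ B, β y = y}
  one_mem' := fun β _ => map_one β
  mul_mem' := fun {a b} ha hb β hβ => by rw [map_mul, ha β hβ, hb β hβ]
  inv_mem' := fun {a} ha β hβ => by rw [map_inv, ha β hβ]

/-- The automorphisms in `A` fixing `u`. -/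
def stabV (A : Subgroup (MulAut V)) (u : V) : Subgroup (MulAut V) where
  carrier := {α | α ∈ A ∧ α u = u}
  one_mem' := ⟨A.one_mem, rfl⟩
  mul_mem' := fun {a b} ha hb => ⟨A.mul_mem ha.1 hb.1, by rw [MulAut.mul_apply, hb.2, ha.2]⟩
  inv_mem' := fun {a} ha => ⟨A.inv_mem ha.1, by
    conv_lhs => rw [← ha.2]
    exact MulEquiv.symm_apply_apply _ _⟩

theorem stabV_le (A : Subgroup (MulAut V)) (u : V) : stabV A u ≤ A := fun _ h => h.1

/-- An automorphism of odd order fixing `W` and the cosets of `W` is trivial. -/
theorem eq_one_of_fix_cosets (hexp : ∀ x : V, x * x = 1) {W : Subgroup V} {α : MulAut V} {m : ℕ}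
    (hm : Odd m) (hαm : α ^ m = 1) (hW : ∀ w ∈ W, α w = w) (h : ∀ y, y⁻¹ * α y ∈ W) : α = 1 := by
  refine MulEquiv.ext fun y => ?_
  set z := y⁻¹ * α y with hz
  have hpow : ∀ k : ℕ, (α ^ k) y = y * z ^ k := by
    intro k
    induction k with
    | zero => simp
    | succ k ih =>
      rw [pow_succ', MulAut.mul_apply, ih, map_mul, hW _ (W.pow_mem (h y) k), pow_succ', ← mul_assoc]
      congr 1
      rw [hz, mul_inv_cancel_left]
  have h1 := hpow m
  rw [hαm, MulAut.one_apply] at h1
  have h2 : z ^ m = 1 := mul_eq_left.1 h1.symm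
  obtain ⟨j, rfl⟩ := hm
  rw [pow_succ, pow_mul, pow_two, hexp, one_pow, one_mul, hz, inv_mul_eq_one] at h2
  exact h2.symm

theorem modEq_fix {p : ℕ} [Fact p.Prime] {B : Subgroup (MulAut V)} (hB : IsPGroup p B) :
    Nat.card V ≡ Nat.card (fixV B) [MOD p] := by
  have h := hB.card_modEq_card_fixedPoints V
  have e : Nat.card (MulAction.fixedPoints B V) = Nat.card (fixV B) :=
    Nat.card_congr (Equiv.subtypeEquivRight fun y =>
      ⟨fun hy β hβ => hy ⟨β, hβ⟩, fun hy β => hy β β.2⟩)
  rwa [e] at h

/-- A subgroup with element count a power of two. -/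
theorem exists_card_sub (hexp : ∀ x : V, x * x = 1) (h32 : Nat.card V ≤ 32) (W : Subgroup V) :
    ∃ r b : ℕ, r ≤ 5 ∧ b ≤ r ∧ Nat.card V = 2 ^ r ∧ Nat.card W = 2 ^ b := by
  haveI : Fact (Nat.Prime 2) := ⟨Nat.prime_two⟩
  obtain ⟨r, hr5, hr⟩ := exists_card hexp h32
  obtain ⟨b, hbr, hb⟩ := (Nat.dvd_prime_pow Nat.prime_two).1 (hr ▸ Subgroup.card_subgroup_dvd_card W)
  exact ⟨r, b, hr5, hbr, hr, hb⟩

theorem fixV_ne_top {B : Subgroup (MulAut V)} (hB : B ≠ ⊥) : fixV B ≠ ⊤ := fun h =>
  hB ((Subgroup.eq_bot_iff_forall B).2 fun β hβ => MulEquiv.ext fun y =>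
    (show y ∈ fixV B from h ▸ Subgroup.mem_top y) β hβ)

/-- The fixed subgroup of a nontrivial group of `5`- or `7`-power order. -/
theorem fix_prime (hexp : ∀ x : V, x * x = 1) (h32 : Nat.card V ≤ 32) {B : Subgroup (MulAut V)}
    (hB : B ≠ ⊥) {p : ℕ} [Fact p.Prime] (hBp : IsPGroup p B) :
    (p = 5 → Nat.card (fixV B) * 16 = Nat.card V) ∧
    (p = 7 → Nat.card (fixV B) * 8 = Nat.card V) ∧
    (p = 31 → Nat.card (fixV B) = 1 ∧ Nat.card V = 32) ∧
    (p = 3 → Nat.card (fixV B) * 4 = Nat.card V ∨ Nat.card (fixV B) * 16 = Nat.card V) := by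
  obtain ⟨r, b, hr5, hbr, hr, hb⟩ := exists_card_sub hexp h32 (fixV B)
  have hne : b ≠ r := fun h => fixV_ne_top hB
    (Subgroup.eq_top_of_card_eq _ (by rw [hb, hr, h]))
  have hmod := modEq_fix (p := p) hBp
  rw [hr, hb] at hmod
  rw [hb, hr]
  refine ⟨fun h => ?_, fun h => ?_, fun h => ?_, fun h => ?_⟩ <;> subst h <;>
    interval_cases r <;> interval_cases b <;> simp_all [Nat.ModEq]

/-- A group of order nine fixes at most one sixteenth. -/
theorem fix_nine (hexp : ∀ x : V, x * x = 1) (h32 : Nat.card V ≤ 32) {B : Subgroup (MulAut V)}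
    (hB : Nat.card B = 9) : Nat.card (fixV B) * 16 = Nat.card V := by
  classical
  haveI := finite_aut (V := V)
  haveI : Fact (Nat.Prime 3) := ⟨Nat.prime_three⟩
  have hne : B ≠ ⊥ := by
    rintro rfl
    rw [Subgroup.card_bot] at hB
    omega
  have hBp : IsPGroup 3 B := IsPGroup.of_card (n := 2) (by rw [hB]; norm_num)
  rcases (fix_prime hexp h32 hne hBp).2.2.2 rfl with h | h
  · exfalso
    set W := fixV B with hW
    have hidx : W.index = 4 := by
      have h1 := Subgroup.card_mul_index W
      rw [← h] at h1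
      exact Nat.eq_of_mul_eq_mul_left Nat.card_pos h1
    have hmap : ∀ β : B, W.map ((β : MulAut V) : V →* V) = W := by
      intro β
      ext y
      constructor
      · rintro ⟨z, hz, rfl⟩
        show (β : MulAut V) z ∈ W
        rw [hz β β.2]; exact hz
      · exact fun hy => ⟨y, hy, hy β β.2⟩
    let ψ : B →* MulAut (V ⧸ W) :=
      { toFun := fun β => QuotientGroup.congr W W (β : MulAut V) (hmap β)
        map_one' := by
          refine MulEquiv.ext fun q => ?_
          obtain ⟨y, rfl⟩ := QuotientGroup.mk_surjective q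
          rfl
        map_mul' := fun α β => by
          refine MulEquiv.ext fun q => ?_
          obtain ⟨y, rfl⟩ := QuotientGroup.mk_surjective q
          rfl }
    let φ : B →* Equiv.Perm {q : V ⧸ W // q ≠ 1} :=
      { toFun := fun α => (ψ α).toEquiv.subtypeEquiv fun q => by
          simp [EmbeddingLike.map_eq_one_iff]
        map_one' := Equiv.ext fun q => Subtype.ext (by simp [map_one])
        map_mul' := fun α β => Equiv.ext fun q => Subtype.ext (by simp [map_mul]) }
    have hinj : Function.Injective φ := by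
      refine (injective_iff_map_eq_one φ).2 fun α hα => Subtype.ext ?_
      refine eq_one_of_fix_cosets hexp (W := W) (m := Nat.card B) (by rw [hB]; decide)
        (congrArg Subtype.val (pow_card_eq_one' (x := α))) (fun w hw => hw α α.2) fun y => ?_
      have h1 : ψ α (y : V ⧸ W) = (y : V ⧸ W) := by
        by_cases hy : (y : V ⧸ W) = 1
        · rw [hy, map_one]
        · exact congrArg Subtype.val (Equiv.Perm.ext_iff.1 hα ⟨_, hy⟩)
      exact QuotientGroup.eq.1 h1.symm
    haveI : Fintype (V ⧸ W) := Fintype.ofFinite _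
    have hX : Nat.card {q : V ⧸ W // q ≠ 1} = 3 := by
      rw [Nat.card_eq_fintype_card, Fintype.card_subtype_compl, Fintype.card_subtype_eq,
        ← Nat.card_eq_fintype_card, ← Subgroup.index_eq_card, hidx]
    have := Subgroup.card_dvd_of_injective φ hinj
    rw [hB, Nat.card_eq_fintype_card, Fintype.card_perm, ← Nat.card_eq_fintype_card, hX] at this
    norm_num [Nat.factorial] at this
  · exact h

theorem dvd_odd_part (hexp : ∀ x : V, x * x = 1) (h32 : Nat.card V ≤ 32) {A : Subgroup (MulAut V)}
    (hA : Odd (Nat.card A)) : Nat.card A ∣ 9765 := by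
  have h := card_dvd hexp h32 A
  rw [show 9999360 = 2 ^ 10 * 9765 by norm_num] at h
  exact (Nat.Coprime.pow_right 10 (Nat.coprime_two_right.2 hA)).dvd_of_dvd_mul_left h

section sylow

variable {G : Type u} [Group G] [Finite G]

/-- An element whose order is prime to `q - 1` centralises a normal subgroup of prime order `q`. -/
theorem comm_of_coprime {N : Subgroup G} [N.Normal] {q : ℕ} [hq : Fact q.Prime]
    (hN : Nat.card N = q) {g : G} (hg : (orderOf g).Coprime (q - 1)) :
    ∀ y ∈ N, g * y = y * g := by
  haveI : IsCyclic N := isCyclic_of_prime_card hN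
  have h1 : orderOf (MulAut.conjNormal (H := N) g) ∣ q - 1 := by
    have := orderOf_dvd_natCard (MulAut.conjNormal (H := N) g)
    rwa [IsCyclic.card_mulAut, hN, Nat.totient_prime hq.out] at this
  have h2 : MulAut.conjNormal (H := N) g = 1 :=
    orderOf_eq_one_iff.1 (Nat.eq_one_of_dvd_coprimes hg (orderOf_map_dvd _ g) h1)
  intro y hy
  have h3 := congrArg (fun α : MulAut N => ((α ⟨y, hy⟩ : N) : G)) h2
  simp only [MulAut.conjNormal_apply, MulAut.one_apply] at h3
  exact mul_inv_eq_iff_eq_mul.1 h3

theorem card_sylow_prime {p : ℕ} [Fact p.Prime] (P : Sylow p G) (h1 : p ∣ Nat.card G)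
    (h2 : ¬ p ^ 2 ∣ Nat.card G) : Nat.card P = p := by
  obtain ⟨k, hk⟩ := IsPGroup.iff_card.1 P.2
  have hd : p ^ k ∣ Nat.card G := hk ▸ Subgroup.card_subgroup_dvd_card _
  have hle : k ≤ 1 := by
    by_contra hk2
    exact h2 ((pow_dvd_pow p (by omega : 2 ≤ k)).trans hd)
  have hge : k ≠ 0 := fun h0 => by
    have := P.dvd_card_of_dvd_card h1
    rw [hk, h0, pow_zero, Nat.dvd_one] at this
    exact (Fact.out : p.Prime).ne_one this
  rw [hk, show k = 1 by omega, pow_one]

theorem normal_seven (h : Nat.card G ∣ 315) (h7 : 7 ∣ Nat.card G) (S : Sylow 7 G)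
    [Fact (Nat.Prime 7)] : (S : Subgroup G).Normal := by
  haveI : Fact (Nat.Prime 5) := ⟨by decide +kernel⟩
  have hS : Nat.card S = 7 := card_sylow_prime S h7 fun h49 => by
    have := h49.trans h
    norm_num at this
  rw [← Subgroup.normalizer_eq_top_iff, ← Subgroup.index_eq_one]
  by_contra hne
  have hmod : Nat.card (Sylow 7 G) % 7 = 1 := card_sylow_modEq_one (p := 7) (G := G)
  rw [Sylow.card_eq_index_normalizer S] at hmod
  have hd45 : (S : Subgroup G).index ∣ 45 := by
    have h1 : Nat.card S * (S : Subgroup G).index ∣ 7 * 45 := by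
      rw [Subgroup.card_mul_index]; exact h
    rw [hS] at h1
    exact Nat.dvd_of_mul_dvd_mul_left (by norm_num) h1
  have hni := Subgroup.index_dvd_of_le (Subgroup.le_normalizer (H := (S : Subgroup G)))
  have hN15 : (Subgroup.normalizer ((S : Subgroup G) : Set G)).index = 15 := by
    have hle := Nat.le_of_dvd (by norm_num) (hni.trans hd45)
    have hd := hni.trans hd45
    generalize (Subgroup.normalizer ((S : Subgroup G) : Set G)).index = n at *
    interval_cases n <;> simp_all
  have h15 : 15 ∣ Nat.card G := hN15 ▸ Subgroup.index_dvd_card _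
  obtain ⟨P⟩ : Nonempty (Sylow 5 G) := inferInstance
  have h5 : 5 ∣ Nat.card G := dvd_trans (by norm_num) h15
  have hP : Nat.card P = 5 := card_sylow_prime P h5 fun h25 => by
    have := h25.trans h
    norm_num at this
  have hS5 : ¬ 5 ∣ Nat.card (Subgroup.normalizer ((S : Subgroup G) : Set G)) := fun h' => by
    have h1 := Subgroup.card_mul_index (Subgroup.normalizer ((S : Subgroup G) : Set G))
    rw [hN15] at h1
    have h2 : 5 * 15 ∣ Nat.card G := h1 ▸ Nat.mul_dvd_mul_right h' 15
    have := h2.trans h
    norm_num at this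
  obtain ⟨x, hx⟩ := exists_prime_orderOf_dvd_card' (G := (S : Subgroup G)) 7 (by rw [hS])
  rw [← Subgroup.orderOf_coe] at hx
  -- the Sylow 5-subgroup
  have hmod5 : Nat.card (Sylow 5 G) % 5 = 1 := card_sylow_modEq_one (p := 5) (G := G)
  rw [Sylow.card_eq_index_normalizer P] at hmod5
  have hP63 : (P : Subgroup G).index ∣ 63 := by
    have h1 : Nat.card P * (P : Subgroup G).index ∣ 5 * 63 := by
      rw [Subgroup.card_mul_index]; exact h
    rw [hP] at h1
    exact Nat.dvd_of_mul_dvd_mul_left (by norm_num) h1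
  have hn5 : (Subgroup.normalizer ((P : Subgroup G) : Set G)).index = 21 := by
    have hd := (Subgroup.index_dvd_of_le (Subgroup.le_normalizer (H := (P : Subgroup G)))).trans hP63
    have hle := Nat.le_of_dvd (by norm_num) hd
    have hnot1 : (Subgroup.normalizer ((P : Subgroup G) : Set G)).index ≠ 1 := fun h1 => by
      rw [Subgroup.index_eq_one, Subgroup.normalizer_eq_top_iff] at h1
      haveI := h1
      have hc := comm_of_coprime (N := (P : Subgroup G)) hP (g := (x : G)) (by rw [hx]; decide)
      refine hS5 (hP ▸ Subgroup.card_dvd_of_le fun y hy => ?_)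
      have hcy := hc y hy
      have hgen : (S : Subgroup G) = Subgroup.zpowers (x : G) :=
        (Subgroup.eq_of_le_of_card_ge (Subgroup.zpowers_le.2 x.2)
          (by rw [Nat.card_zpowers, hx, hS])).symm
      rw [hgen]
      refine Subgroup.centralizer_le_normalizer _ (Subgroup.mem_centralizer_iff.2 ?_)
      rintro _ ⟨k, rfl⟩
      exact ((show Commute (x : G) y from hcy).zpow_left k).eq
    generalize (Subgroup.normalizer ((P : Subgroup G) : Set G)).index = n at *
    interval_cases n <;> simp_all
  have hNP : Subgroup.normalizer ((P : Subgroup G) : Set G) ≤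
      Subgroup.centralizer ((P : Subgroup G) : Set G) := by
    intro n hn
    set N := Subgroup.normalizer ((P : Subgroup G) : Set G)
    haveI : ((P : Subgroup G).subgroupOf N).Normal := Subgroup.normal_in_normalizer
    have hcN : Nat.card ((P : Subgroup G).subgroupOf N) = 5 := by
      rw [Nat.card_congr (Subgroup.subgroupOfEquivOfLe Subgroup.le_normalizer).toEquiv, hP]
    have hco : (orderOf (⟨n, hn⟩ : N)).Coprime (5 - 1) := by
      have h1 : orderOf (⟨n, hn⟩ : N) ∣ 315 :=
        (orderOf_dvd_natCard _).trans ((Subgroup.card_subgroup_dvd_card N).trans h)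
      exact Nat.Coprime.coprime_dvd_left h1 (by decide)
    refine Subgroup.mem_centralizer_iff.2 fun y hy => ?_
    exact (congrArg Subtype.val (comm_of_coprime hcN hco ⟨y, Subgroup.le_normalizer hy⟩
      (Subgroup.mem_subgroupOf.2 hy))).symm
  have hM := MonoidHom.ker_transferSylow_isComplement' P hNP
  set K := (MonoidHom.transferSylow P hNP).ker with hK
  have hcK : Nat.card K * 5 = Nat.card G := by rw [← hM.card_mul_card, hP]
  have hK63 : Nat.card K ∣ 63 := by
    have h1 : Nat.card K * 5 ∣ 63 * 5 := hcK ▸ h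
    exact Nat.dvd_of_mul_dvd_mul_right (by norm_num) h1
  have hSK : (S : Subgroup G) ≤ K := by
    intro y hy
    rw [← QuotientGroup.eq_one_iff, ← orderOf_eq_one_iff]
    refine Nat.eq_one_of_dvd_coprimes (a := 7) (b := 5) (by decide) ?_ ?_
    · refine (orderOf_map_dvd (QuotientGroup.mk' K) y).trans ?_
      have := orderOf_dvd_natCard (⟨y, hy⟩ : (S : Subgroup G))
      rwa [hS, ← Subgroup.orderOf_coe] at this
    · have h1 := orderOf_dvd_natCard (y : G ⧸ K)
      have h2 : K.index * Nat.card K = 5 * Nat.card K := by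
        rw [mul_comm, Subgroup.card_mul_index, ← hcK, mul_comm]
      rw [← Subgroup.index_eq_card, Nat.eq_of_mul_eq_mul_right Nat.card_pos h2] at h1
      exact h1
  -- in the kernel the Sylow 7-subgroup is normal
  let S' : Sylow 7 K := S.subtype hSK
  have hn7 : Nat.card (Sylow 7 K) = 1 := by
    have h1 : Nat.card (Sylow 7 K) % 7 = 1 := card_sylow_modEq_one (p := 7) (G := K)
    have h2 : Nat.card (Sylow 7 K) ∣ 9 := by
      refine S'.card_dvd_index.trans ?_
      have h3 : Nat.card S' * (S' : Subgroup K).index ∣ 7 * 9 := by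
        rw [Subgroup.card_mul_index]; exact hK63
      rw [show Nat.card S' = 7 from (Nat.card_congr
        (Subgroup.subgroupOfEquivOfLe hSK).toEquiv).trans hS] at h3
      exact Nat.dvd_of_mul_dvd_mul_left (by norm_num) h3
    have h4 := Nat.le_of_dvd (by norm_num) h2
    generalize Nat.card (Sylow 7 K) = n at *
    interval_cases n <;> simp_all
  haveI : Subsingleton (Sylow 7 K) := (Nat.card_eq_one_iff_unique.1 hn7).1
  haveI : (S' : Subgroup K).Characteristic := Sylow.characteristic_of_normal S'
    (Sylow.normal_of_subsingleton S')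
  have hnorm : ((S' : Subgroup K).map K.subtype).Normal := inferInstance
  have he : (S' : Subgroup K).map K.subtype = S := by
    rw [show (S' : Subgroup K) = (S : Subgroup G).subgroupOf K from rfl,
      Subgroup.subgroupOf_map_subtype, inf_eq_left.2 hSK]
  rw [he] at hnorm
  haveI := hnorm
  exact hne (by rw [Subgroup.normalizer_eq_top, Subgroup.index_top])

theorem normal_five (h : Nat.card G ∣ 315) (h5 : 5 ∣ Nat.card G) (P : Sylow 5 G)
    [Fact (Nat.Prime 5)] : (P : Subgroup G).Normal := by
  haveI : Fact (Nat.Prime 7) := ⟨by decide +kernel⟩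
  have hP : Nat.card P = 5 := card_sylow_prime P h5 fun h25 => by
    have := h25.trans h
    norm_num at this
  rw [← Subgroup.normalizer_eq_top_iff, ← Subgroup.index_eq_one]
  by_contra hne
  have hmod5 : Nat.card (Sylow 5 G) % 5 = 1 := card_sylow_modEq_one (p := 5) (G := G)
  rw [Sylow.card_eq_index_normalizer P] at hmod5
  have hP63 : (P : Subgroup G).index ∣ 63 := by
    have h1 : Nat.card P * (P : Subgroup G).index ∣ 5 * 63 := by
      rw [Subgroup.card_mul_index]; exact h
    rw [hP] at h1
    exact Nat.dvd_of_mul_dvd_mul_left (by norm_num) h1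
  have hn5 : (Subgroup.normalizer ((P : Subgroup G) : Set G)).index = 21 := by
    have hd := (Subgroup.index_dvd_of_le (Subgroup.le_normalizer (H := (P : Subgroup G)))).trans hP63
    have hle := Nat.le_of_dvd (by norm_num) hd
    generalize (Subgroup.normalizer ((P : Subgroup G) : Set G)).index = n at *
    interval_cases n <;> simp_all
  have h7 : 7 ∣ Nat.card G := dvd_trans (by norm_num) (hn5 ▸ Subgroup.index_dvd_card _)
  obtain ⟨S⟩ : Nonempty (Sylow 7 G) := inferInstance
  haveI := normal_seven h h7 S
  have hS : Nat.card S = 7 := card_sylow_prime S h7 fun h49 => by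
    have := h49.trans h
    norm_num at this
  have hle : (S : Subgroup G) ≤ Subgroup.normalizer ((P : Subgroup G) : Set G) := by
    refine le_trans ?_ (Subgroup.centralizer_le_normalizer _)
    intro y hy
    refine Subgroup.mem_centralizer_iff.2 fun z hz => ?_
    refine comm_of_coprime hS ?_ y hy
    have h1 := orderOf_dvd_natCard (⟨z, hz⟩ : (P : Subgroup G))
    rw [hP, ← Subgroup.orderOf_coe] at h1
    exact Nat.Coprime.coprime_dvd_left h1 (by decide)
  have h1 := Subgroup.card_mul_index (Subgroup.normalizer ((P : Subgroup G) : Set G))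
  rw [hn5] at h1
  have h2 : 7 * 21 ∣ Nat.card G := h1 ▸ Nat.mul_dvd_mul_right (hS ▸ Subgroup.card_dvd_of_le hle) 21
  have := h2.trans h
  norm_num at this

theorem card_nine_le_seven (h : Nat.card G ∣ 315) :
    Nat.card {B : Subgroup G // Nat.card B = 9} ≤ 7 := by
  haveI : Fact (Nat.Prime 3) := ⟨Nat.prime_three⟩
  by_cases h9 : 9 ∣ Nat.card G
  · have hfac : (Nat.card G).factorization 3 = 2 := by
      refine le_antisymm ?_ ((Nat.prime_three.pow_dvd_iff_le_factorization Nat.card_pos.ne').1
        (by simpa using h9))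
      have h1 := (Nat.factorization_le_iff_dvd Nat.card_pos.ne' (by norm_num : (315 : ℕ) ≠ 0)).2 h 3
      refine h1.trans (Nat.le_of_lt_succ ?_)
      by_contra h3
      have h4 := (Nat.prime_three.pow_dvd_iff_le_factorization (by norm_num : (315 : ℕ) ≠ 0)).2
        (le_of_not_gt h3 : 3 ≤ (315 : ℕ).factorization 3)
      norm_num at h4
    let f : {B : Subgroup G // Nat.card B = 9} → Sylow 3 G := fun B =>
      Sylow.ofCard B.1 (by rw [B.2, hfac]; norm_num)
    refine (Nat.card_le_card_of_injective f fun B B' e => Subtype.ext ?_).trans ?_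
    · have := congrArg (fun S : Sylow 3 G => (S : Subgroup G)) e
      simpa [f] using this
    · obtain ⟨S⟩ : Nonempty (Sylow 3 G) := inferInstance
      have hS : Nat.card S = 9 := by rw [S.card_eq_multiplicity, hfac]; norm_num
      have h1 : Nat.card S * (S : Subgroup G).index ∣ 9 * 35 := by
        rw [Subgroup.card_mul_index]; exact h
      rw [hS] at h1
      have h2 := S.card_dvd_index.trans (Nat.dvd_of_mul_dvd_mul_left (by norm_num) h1)
      have h3 : Nat.card (Sylow 3 G) % 3 = 1 := card_sylow_modEq_one (p := 3) (G := G)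
      have h4 := Nat.le_of_dvd (by norm_num) h2
      generalize Nat.card (Sylow 3 G) = n at *
      interval_cases n <;> simp_all
  · haveI : IsEmpty {B : Subgroup G // Nat.card B = 9} :=
      ⟨fun B => h9 (B.2 ▸ Subgroup.card_subgroup_dvd_card B.1)⟩
    simp

end sylow

end CfsgLib.Blocks.OlssonFive.Odd
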