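import Mathlib.GroupTheory.Sylow
import Mathlib.GroupTheory.Transfer
import Mathlib.GroupTheory.PGroup
import Mathlib.LinearAlgebra.Matrix.GeneralLinearGroup.Card
import Mathlib.LinearAlgebra.Matrix.ToLin
import Mathlib.LinearAlgebra.Charpoly.Basic
import Mathlib.FieldTheory.Finite.Basic
import Mathlib.Algebra.Module.ZMod
import Mathlib.FieldTheory.IsAlgClosed.AlgebraicClosure

/-!
# Automorphisms of elementary abelian groups of order at most 32 as linear maps
-/

namespace CfsgLib.Blocks.OlssonFive.Odd

set_option linter.unusedVariables false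
set_option linter.style.haveILetI false
set_option linter.unusedSectionVars false

open Polynomial

universe u

variable {V : Type u} [CommGroup V] [Finite V]

/-- An elementary abelian group as a vector space. -/
@[reducible] def modTwo (hexp : ∀ x : V, x * x = 1) : Module (ZMod 2) (Additive V) :=
  AddCommGroup.zmodModule (n := 2) fun x => by rw [two_nsmul]; exact hexp x.toMul

/-- The linear map of an automorphism. -/
def lin (hexp : ∀ x : V, x * x = 1) :
    letI := modTwo hexp
    MulAut V →* Module.End (ZMod 2) (Additive V) :=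
  letI := modTwo hexp
  { toFun := fun α => (α.toMonoidHom.toAdditive).toZModLinearMap 2
    map_one' := LinearMap.ext fun _ => rfl
    map_mul' := fun _ _ => LinearMap.ext fun _ => rfl }

theorem lin_injective (hexp : ∀ x : V, x * x = 1) :
    Function.Injective (lin (V := V) hexp) := by
  intro α β h
  letI := modTwo hexp
  exact MulEquiv.ext fun x => LinearMap.congr_fun h (Additive.ofMul x)

theorem isPGroup_two (hexp : ∀ x : V, x * x = 1) : IsPGroup 2 V := fun x => ⟨1, by
  rw [pow_one, pow_two]; exact hexp x⟩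

theorem exists_card (hexp : ∀ x : V, x * x = 1) (h32 : Nat.card V ≤ 32) :
    ∃ r ≤ 5, Nat.card V = 2 ^ r := by
  haveI : Fact (Nat.Prime 2) := ⟨Nat.prime_two⟩
  obtain ⟨r, hr⟩ := IsPGroup.iff_card.1 (isPGroup_two hexp)
  refine ⟨r, ?_, hr⟩
  by_contra hr5
  have : 2 ^ 6 ≤ 2 ^ r := Nat.pow_le_pow_right two_pos (by omega)
  omega

theorem finrank_eq (hexp : ∀ x : V, x * x = 1) {r : ℕ} (hr : Nat.card V = 2 ^ r) :
    letI := modTwo hexp
    Module.finrank (ZMod 2) (Additive V) = r := by
  letI := modTwo hexp
  haveI : Module.Finite (ZMod 2) (Additive V) := Module.Finite.of_finite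
  have h := Module.natCard_eq_pow_finrank (K := ZMod 2) (V := Additive V)
  rw [Nat.card_congr Additive.toMul, Nat.card_zmod, hr] at h
  exact (Nat.pow_right_injective le_rfl h).symm

/-- The order of a group of automorphisms divides that of the linear group. -/
theorem card_dvd (hexp : ∀ x : V, x * x = 1) (h32 : Nat.card V ≤ 32) (A : Subgroup (MulAut V)) :
    Nat.card A ∣ 9999360 := by
  letI := modTwo hexp
  haveI : Module.Finite (ZMod 2) (Additive V) := Module.Finite.of_finite
  obtain ⟨r, hr5, hr⟩ := exists_card hexp h32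
  let b := Module.finBasisOfFinrankEq (ZMod 2) (Additive V) (finrank_eq hexp hr)
  let ψ : MulAut V →* GL (Fin r) (ZMod 2) :=
    (Units.map (LinearMap.toMatrixAlgEquiv b).toMonoidHom).comp (lin hexp).toHomUnits
  have hψ : Function.Injective ψ := fun α β h => by
    refine lin_injective hexp ((LinearMap.toMatrixAlgEquiv b).injective ?_)
    exact congrArg Units.val h
  haveI : Finite (MulAut V) :=
    Finite.of_injective (fun a : MulAut V => (a : V → V)) fun a b h => MulEquiv.ext (congrFun h)
  refine ((Subgroup.card_subgroup_dvd_card A).trans (Subgroup.card_dvd_of_injective ψ hψ)).trans ?_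
  haveI : Fact (Nat.Prime 2) := ⟨Nat.prime_two⟩
  rw [Matrix.card_GL_field]
  simp only [ZMod.card]
  interval_cases r <;> simp [Fin.prod_univ_succ]

/-- No element of order `31` is conjugate to its fifth power. -/
theorem not_conj_fifth (hexp : ∀ x : V, x * x = 1) (h32 : Nat.card V ≤ 32) {g s : MulAut V}
    (hg : g ^ 31 = 1) (hg1 : g ≠ 1) (h : s * g * s⁻¹ = g ^ 5) : False := by
  classical
  letI := modTwo hexp
  haveI : Module.Finite (ZMod 2) (Additive V) := Module.Finite.of_finite
  haveI : Fact (Nat.Prime 2) := ⟨Nat.prime_two⟩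
  obtain ⟨r, hr5, hr⟩ := exists_card hexp h32
  haveI : Nontrivial V := by
    by_contra hV
    haveI := not_nontrivial_iff_subsingleton.1 hV
    exact hg1 (MulEquiv.ext fun x => Subsingleton.elim _ _)
  set T := lin hexp g with hT
  set m := minpoly (ZMod 2) T with hm
  have hint : IsIntegral (ZMod 2) T := IsIntegral.of_finite (ZMod 2) T
  have hm0 : m ≠ 0 := minpoly.ne_zero hint
  have hdvd : m ∣ X ^ 31 - 1 := minpoly.dvd _ _ (by
    simp only [map_sub, map_pow, aeval_X, map_one, hT]
    rw [← map_pow, hg, map_one, sub_self])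
  have hsep : (X ^ 31 - C (1 : ZMod 2)).Separable := separable_X_pow_sub_C 1 (show ((31 : ℕ) : ZMod 2) ≠ 0 by rw [Ne, ZMod.natCast_eq_zero_iff]; norm_num) one_ne_zero
  rw [map_one] at hsep
  have hmsep : m.Separable := hsep.of_dvd hdvd
  have hfive : m ∣ m.comp (X ^ 5) := by
    refine minpoly.dvd _ _ ?_
    rw [aeval_comp, map_pow, aeval_X, hT, ← map_pow, ← h, map_mul, map_mul]
    have key : ∀ q : (ZMod 2)[X], aeval (lin hexp s * T * lin hexp s⁻¹) q =
        lin hexp s * aeval T q * lin hexp s⁻¹ := by
      intro q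
      induction q using Polynomial.induction_on' with
      | add a b ha hb => simp only [map_add, ha, hb, mul_add, add_mul]
      | monomial n a =>
        simp only [aeval_monomial, ← Algebra.smul_def, mul_smul_comm, smul_mul_assoc]
        congr 1
        rw [hT, ← map_mul, ← map_mul, ← map_pow, conj_pow, map_mul, map_mul, map_pow]
    rw [key, hm, minpoly.aeval, mul_zero, zero_mul]
  set K := AlgebraicClosure (ZMod 2)
  have hfrob : ∀ x : K, aeval x m = 0 → aeval (x ^ 2) m = 0 := by
    intro x hx
    rw [← expand_aeval, ZMod.expand_card, map_pow, hx, zero_pow two_ne_zero]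
  have hpow5 : ∀ x : K, aeval x m = 0 → aeval (x ^ 5) m = 0 := by
    intro x hx
    obtain ⟨q, hq⟩ := hfive
    have := congrArg (aeval x) hq
    rw [map_mul, hx, zero_mul, aeval_comp, map_pow, aeval_X] at this
    exact this
  set R := (m.map (algebraMap (ZMod 2) K)).roots with hR
  have hmem : ∀ x : K, x ∈ R ↔ aeval x m = 0 := fun x => by
    rw [hR, mem_roots (map_ne_zero hm0), IsRoot.def, eval_map_algebraMap]
  have hnodup : R.Nodup := nodup_roots hmsep.map
  have hsplit : (m.map (algebraMap (ZMod 2) K)).natDegree = R.card :=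
    ((IsAlgClosed.splits _).natDegree_eq_card_roots)
  rw [natDegree_map] at hsplit
  obtain ⟨x, hx, hx1⟩ : ∃ x ∈ R, x ≠ 1 := by
    by_contra hall
    push Not at hall
    have hcard : R.card ≤ 1 := by
      have e : R.toFinset ⊆ {1} := fun y hy => Finset.mem_singleton.2 (hall y (Multiset.mem_toFinset.1 hy))
      have := Finset.card_le_card e
      rwa [Multiset.toFinset_card_of_nodup hnodup, Finset.card_singleton] at this
    have hdeg : m.natDegree = 1 := le_antisymm (hsplit ▸ hcard) (minpoly.natDegree_pos hint)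
    obtain ⟨a, ha⟩ : ∃ a, m = X + C a :=
      ⟨m.coeff 0, (minpoly.monic hint).eq_X_add_C hdeg⟩
    obtain ⟨y, hy⟩ := Multiset.card_pos_iff_exists_mem.1 (show 0 < R.card by omega)
    have hy1 := hall y hy
    subst hy1
    have he := (hmem 1).1 hy
    rw [ha, map_add, aeval_X, aeval_C, ← map_one (algebraMap (ZMod 2) K), ← map_add,
      ← map_zero (algebraMap (ZMod 2) K), (algebraMap (ZMod 2) K).injective.eq_iff] at he
    have hT1 : T + algebraMap (ZMod 2) _ a = 0 := by
      have := minpoly.aeval (ZMod 2) T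
      rwa [← hm, ha, map_add, aeval_X, aeval_C] at this
    have hT0 : T = 1 := by
      rw [eq_neg_of_add_eq_zero_left hT1, ← map_neg, ← eq_neg_of_add_eq_zero_left he, map_one]
    exact hg1 (lin_injective hexp (by rw [← hT, hT0, map_one]))
  have hx31 : x ^ 31 = 1 := by
    obtain ⟨q, hq⟩ := hdvd
    have := congrArg (aeval x) hq
    rw [map_mul, (hmem x).1 hx, zero_mul, map_sub, map_pow, aeval_X, map_one, sub_eq_zero] at this
    exact this
  have hord : orderOf x = 31 :=
    haveI : Fact (Nat.Prime 31) := ⟨by decide +kernel⟩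
    orderOf_eq_prime hx31 hx1
  -- the orbit of the exponents under doubling and multiplication by five
  have horb : ∀ i j : ℕ, aeval (x ^ (2 ^ i * 5 ^ j)) m = 0 := by
    intro i
    induction i with
    | zero =>
      intro j
      induction j with
      | zero => simpa using (hmem x).1 hx
      | succ j ih =>
        rw [pow_succ, ← mul_assoc, pow_mul]
        exact hpow5 _ ih
    | succ i ih =>
      intro j
      rw [show 2 ^ (i + 1) * 5 ^ j = 2 ^ i * 5 ^ j * 2 by ring, pow_mul]
      exact hfrob _ (ih j)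
  let f : Fin 5 × Fin 3 → K := fun z => x ^ (2 ^ (z.1 : ℕ) * 5 ^ (z.2 : ℕ))
  have hfinj : Function.Injective f := by
    intro a b hab
    have h1 : (2 ^ (a.1 : ℕ) * 5 ^ (a.2 : ℕ)) % 31 = (2 ^ (b.1 : ℕ) * 5 ^ (b.2 : ℕ)) % 31 := by
      refine pow_injOn_Iio_orderOf (x := x) ?_ ?_ ?_
      · simp only [Set.mem_Iio, hord]; exact Nat.mod_lt _ (by norm_num)
      · simp only [Set.mem_Iio, hord]; exact Nat.mod_lt _ (by norm_num)
      · show x ^ _ = x ^ _
        conv_lhs => rw [← hord, pow_mod_orderOf]
        conv_rhs => rw [← hord, pow_mod_orderOf]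
        exact hab
    exact (show ∀ a b : Fin 5 × Fin 3, (2 ^ (a.1 : ℕ) * 5 ^ (a.2 : ℕ)) % 31 =
      (2 ^ (b.1 : ℕ) * 5 ^ (b.2 : ℕ)) % 31 → a = b by decide +kernel) a b h1
  have hle : 15 ≤ R.card := by
    have e : Finset.univ.image f ⊆ R.toFinset := fun y hy => by
      obtain ⟨z, -, rfl⟩ := Finset.mem_image.1 hy
      exact Multiset.mem_toFinset.2 ((hmem _).2 (horb _ _))
    have h2 := Finset.card_le_card e
    rw [Finset.card_image_of_injective _ hfinj, Multiset.toFinset_card_of_nodup hnodup] at h2
    simpa using h2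
  have hdeg : m.natDegree ≤ r := by
    rw [← finrank_eq hexp hr, ← LinearMap.charpoly_natDegree T]
    exact natDegree_le_of_dvd (LinearMap.minpoly_dvd_charpoly T) (LinearMap.charpoly_monic T).ne_zero
  omega

end CfsgLib.Blocks.OlssonFive.Odd
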