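import Cfsg.Agent.Lib.Blocks.RankBound
import Cfsg.Agent.Lib.Blocks.AbelianRankOne
import Cfsg.Agent.Lib.Blocks.Covering

/-!
# The inertial quotient of the block dominated over a central subgroup
-/

namespace CfsgLib.Blocks.OlssonFive

open Cfsg CfsgLib.CharTheory
open scoped ComplexConjugate

set_option linter.unusedVariables false
set_option linter.unusedSimpArgs false
set_option linter.style.haveILetI false
set_option linter.unusedSectionVars false

universe u

/-- Summing along the fibres of a surjection. -/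
theorem omega_comp {H K : Type u} [Group H] [Fintype H] [Group K] [Fintype K] [DecidableEq K]
    (π : H →* K) (χ : K → ℂ) (f : H → ℂ) :
    omega (fun h => χ (π h)) f =
      omega χ (fun k => ∑ h ∈ Finset.univ.filter (fun h => π h = k), f h) := by
  simp only [omega, map_one]
  congr 1
  simp only [Finset.sum_mul]
  rw [← Finset.sum_fiberwise Finset.univ π (fun h => f h * χ (π h))]
  refine Finset.sum_congr rfl fun k _ => Finset.sum_congr rfl fun h hh => ?_
  rw [(Finset.mem_filter.1 hh).2]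

theorem push_isClassFunction {H K : Type u} [Group H] [Fintype H] [Group K] [DecidableEq K]
    {π : H →* K} (hπ : Function.Surjective π) {f : H → ℂ} (hf : IsClassFunction H f) :
    IsClassFunction K (fun k => ∑ h ∈ Finset.univ.filter (fun h => π h = k), f h) := by
  intro k x
  obtain ⟨x, rfl⟩ := hπ x
  refine Finset.sum_nbij' (fun h => x⁻¹ * h * x) (fun h => x * h * x⁻¹) ?_ ?_ ?_ ?_ ?_
  · intro h hh
    have e := (Finset.mem_filter.1 hh).2
    simp [e, mul_assoc]
  · intro h hh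
    have e := (Finset.mem_filter.1 hh).2
    simp [e, mul_assoc]
  · intro h _; simp [mul_assoc]
  · intro h _; simp [mul_assoc]
  · intro h _
    conv_lhs => rw [show h = x * (x⁻¹ * h * x) * x⁻¹ by group]
    exact hf _ _

variable {p : ℕ} {M : Ideal AlgInt} {G : Type u} [Group G] [Fintype G]
  {B : Set (IrrCharacter G)} {P : Subgroup G}
  {c : Set (IrrCharacter (Subgroup.centralizer (P : Set G)))}

/-- A regular element centralising `P` modulo a central subgroup centralises `P`. -/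
theorem mem_cent_of_regular (hM : IsPModular p M) {U : Subgroup G} [U.Normal]
    (hU : IsPGroup p U) (hUc : U ≤ Subgroup.center G) {x : G} (hx : ¬ p ∣ orderOf x)
    (h : ∀ y ∈ P, ((x * y * x⁻¹ : G) : G ⧸ U) = (y : G ⧸ U)) :
    x ∈ Subgroup.centralizer (P : Set G) := by
  refine Subgroup.mem_centralizer_iff.2 fun y hy => ?_
  set z := y⁻¹ * (x * y * x⁻¹) with hz
  have hzU : z ∈ U := QuotientGroup.eq.1 (h y hy).symm
  have hpow : ∀ k : ℕ, x ^ k * y * (x ^ k)⁻¹ = y * z ^ k := by
    intro k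
    induction k with
    | zero => simp
    | succ k ih =>
      have hzx : x * z ^ k * x⁻¹ = z ^ k := by
        rw [Subgroup.mem_center_iff.1 (hUc (U.pow_mem hzU k)) x, mul_inv_cancel_right]
      calc x ^ (k + 1) * y * (x ^ (k + 1))⁻¹
          = x * (x ^ k * y * (x ^ k)⁻¹) * x⁻¹ := by rw [pow_succ']; group
        _ = (x * y * x⁻¹) * (x * z ^ k * x⁻¹) := by rw [ih]; group
        _ = y * z * z ^ k := by rw [hzx, hz]; group
        _ = y * z ^ (k + 1) := by rw [mul_assoc, ← pow_succ']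
  have h1 : z ^ orderOf x = 1 := by
    have h1 := hpow (orderOf x)
    rw [pow_orderOf_eq_one, one_mul, inv_one, mul_one] at h1
    exact mul_eq_left.1 h1.symm
  have hz1 : z = 1 := by
    haveI : Fact p.Prime := ⟨hM.1⟩
    obtain ⟨k, hk⟩ := IsPGroup.iff_orderOf.1 hU ⟨z, hzU⟩
    rw [← Subgroup.orderOf_coe] at hk
    refine orderOf_eq_one_iff.1 (Nat.eq_one_of_dvd_coprimes ?_ dvd_rfl (orderOf_dvd_of_pow_eq_one h1))
    rw [show orderOf z = p ^ k from hk]
    exact (hM.1.coprime_iff_not_dvd.2 hx).pow_left k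
  rw [hz, inv_mul_eq_one, eq_mul_inv_iff_mul_eq] at hz1
  exact hz1

/-- An element stabilizing a pair of the dominated block at the image of `P` acts on that image as
an element stabilizing a pair of `B` at `P`. -/
theorem exists_quot_stab (hM : IsPModular p M) (hmax : IsMaximalBrauerPair p M B P c)
    {U : Subgroup G} [U.Normal] [Fintype (G ⧸ U)] (hUc : U ≤ Subgroup.center G) (hUP : U ≤ P)
    {c' : Set (IrrCharacter (Subgroup.centralizer
      ((P.map (QuotientGroup.mk' U) : Subgroup (G ⧸ U)) : Set (G ⧸ U))))}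
    (hc' : IsBrauerPairOf p M (quotBlock U B) (P.map (QuotientGroup.mk' U)) c') :
    ∃ n ∈ Subgroup.normalizer (P : Set G), ∀ t : G,
      (t : G ⧸ U) ∈ pairStab (P.map (QuotientGroup.mk' U)) c' →
      ∃ s ∈ pairStab P c, ∀ y ∈ P,
        ((t * (n * y * n⁻¹) * t⁻¹ : G) : G ⧸ U) = ((n * (s * y * s⁻¹) * n⁻¹ : G) : G ⧸ U) := by
  classical
  haveI : Fact p.Prime := ⟨hM.1⟩
  have hB := hmax.1.2.1
  have hU : IsPGroup p U := hmax.1.1.1.to_le hUP
  revert hc' c'
  set π := QuotientGroup.mk' U with hπ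
  set Pb := P.map π with hPb
  intro c' hc'
  have hcomap : ∀ y : G, π y ∈ Pb → y ∈ P := by
    rintro y ⟨z, hz, he⟩
    have h1 : z⁻¹ * y ∈ U := QuotientGroup.eq.1 he
    have h2 := P.mul_mem hz (hUP h1)
    rwa [mul_inv_cancel_left] at h2
  set C' := (Subgroup.centralizer (Pb : Set (G ⧸ U))).comap π with hC'
  have hC'act : ∀ x ∈ C', ∀ y ∈ P, ((x * y * x⁻¹ : G) : G ⧸ U) = (y : G ⧸ U) := by
    intro x hx y hy
    have h := Subgroup.mem_centralizer_iff.1 (Subgroup.mem_comap.1 hx) (π y) ⟨y, hy, rfl⟩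
    show π (x * y * x⁻¹) = π y
    rw [map_mul, map_mul, map_inv, ← h, mul_inv_cancel_right]
  have hC'N : C' ≤ Subgroup.normalizer (P : Set G) := by
    intro x hx
    rw [Subgroup.mem_normalizer_iff]
    intro y
    refine ⟨fun hy => hcomap _ ⟨y, hy, (hC'act x hx y hy).symm⟩, fun hy => ?_⟩
    have h := hC'act x⁻¹ (C'.inv_mem hx) _ hy
    rw [show x⁻¹ * (x * y * x⁻¹) * x⁻¹⁻¹ = y by group] at h
    exact hcomap _ ⟨_, hy, h.symm⟩
  have hCC' : Subgroup.centralizer (P : Set G) ≤ C' := by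
    intro x hx
    refine Subgroup.mem_comap.2 (Subgroup.mem_centralizer_iff.2 ?_)
    rintro _ ⟨y, hy, rfl⟩
    rw [← map_mul, ← map_mul, Subgroup.mem_centralizer_iff.1 hx y hy]
  haveI hN : ((Subgroup.centralizer (P : Set G)).subgroupOf C').Normal := by
    refine ⟨fun k hk x => Subgroup.mem_subgroupOf.2 ?_⟩
    exact (Subgroup.mem_normalizer_iff.1
      (normalizer_le_normalizer_cent P (hC'N x.2)) (k : G)).1 (Subgroup.mem_subgroupOf.1 hk)
  set N := (Subgroup.centralizer (P : Set G)).subgroupOf C' with hNdef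
  haveI := Fintype.ofFinite C'
  haveI := Fintype.ofFinite N
  haveI := Fintype.ofFinite (Subgroup.centralizer (P : Set G))
  haveI := Fintype.ofFinite (Subgroup.centralizer (Pb : Set (G ⧸ U)))
  let e : N ≃* Subgroup.centralizer (P : Set G) := Subgroup.subgroupOfEquivOfLe hCC'
  let f : C' →* Subgroup.centralizer (Pb : Set (G ⧸ U)) :=
    (π.comp C'.subtype).codRestrict _ fun x => Subgroup.mem_comap.1 x.2
  have hf : Function.Surjective f := by
    rintro ⟨q, hq⟩
    obtain ⟨y, rfl⟩ := QuotientGroup.mk'_surjective U q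
    exact ⟨⟨y, hq⟩, rfl⟩
  obtain ⟨ψ, hψ⟩ := block_nonempty hM hc'.1.2
  let ψ' : IrrCharacter C' :=
    ⟨fun h => (ψ : _ → ℂ) (f h), isIrrCharacter_comp_surjective ψ.2 f hf⟩
  obtain ⟨θ, hθ⟩ := exists_res_constituent (N := N) ψ'
  set b1 := blockOf M (θ : N → ℂ) with hb1
  have hb1B : IsPBlock M b1 := blockOf_isPBlock θ
  set c1 := irrPull e.symm '' b1 with hc1
  have hc1B : IsPBlock M c1 := isPBlock_image _ hb1B
  have hsing : ∀ h : G, p ∣ orderOf h → blockCoeff B h = 0 :=
    fun h hh => blockCoeff_eq_zero_singular hM hB hh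
  have hsupp : ∀ h : C', h ∉ N → blockCoeff B (h : G) = 0 := fun h hh => by
    by_cases hr : p ∣ orderOf (h : G)
    · exact hsing _ hr
    · exact absurd (Subgroup.mem_subgroupOf.2
        (mem_cent_of_regular hM hU hUc hr (hC'act _ h.2))) hh
  have hpush : ∀ q : Subgroup.centralizer (Pb : Set (G ⧸ U)),
      ∑ h ∈ Finset.univ.filter (fun h => f h = q), blockCoeff B (h : G) =
        blockCoeff (quotBlock U B) (q : G ⧸ U) := by
    intro q
    by_cases hq : p ∣ orderOf (q : G ⧸ U)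
    · rw [blockCoeff_eq_zero_singular hM
        hc'.2.1 hq]
      refine Finset.sum_eq_zero fun h hh => hsing _ ?_
      have e1 : ((h : G) : G ⧸ U) = q := congrArg Subtype.val (Finset.mem_filter.1 hh).2
      exact hq.trans (e1 ▸ orderOf_map_dvd π (h : G))
    · obtain ⟨g, hg, hgr⟩ := Inflation.exists_regular_lift U hU hq
      have hgC : g ∈ C' := Subgroup.mem_comap.2 (show (g : G ⧸ U) ∈ _ by rw [hg]; exact q.2)
      rw [← hg, blockCoeff_quot hM hB hU hUc hgr]
      refine Finset.sum_eq_single_of_mem (⟨g, hgC⟩ : C')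
        (Finset.mem_filter.2 ⟨Finset.mem_univ _, Subtype.ext hg⟩) fun h hh hne => hsing _ ?_
      have e1 : ((h : G) : G ⧸ U) = q := congrArg Subtype.val (Finset.mem_filter.1 hh).2
      have h1 : (h : G) * g⁻¹ ∈ U := by
        rw [← QuotientGroup.eq_one_iff, QuotientGroup.mk_mul, QuotientGroup.mk_inv, e1, hg,
          mul_inv_cancel]
      have h2 := singular_mul_central hM hU hUc h1
        (fun h0 => hne (Subtype.ext (mul_inv_eq_one.1 h0))) hgr
      rwa [inv_mul_cancel_right] at h2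
  have hnice := nice_blockCoeff (P := P) hM hB
  have homega : ∀ φ : IrrCharacter N,
      brauerOmega P (blockCoeff B)
        (irrPull e.symm φ : Subgroup.centralizer (P : Set G) → ℂ) =
      omega (φ : N → ℂ) (fun k : N => blockCoeff B ((k : C') : G)) := by
    intro φ
    rw [brauerOmega_eq_omega]
    simp only [omega, irrPull_apply, map_one]
    congr 1
    refine (Fintype.sum_equiv e.toEquiv _ _ fun k => ?_).symm
    show blockCoeff B ((k : C') : G) * _ = blockCoeff B ((e k : _) : G) * _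
    rw [show e.toEquiv k = e k from rfl, e.symm_apply_apply]
    rfl
  have hpair : IsBrauerPairOf p M B P c1 := by
    refine ⟨⟨hmax.1.1.1, hc1B⟩, hB, ?_⟩
    have hθ1 : θ ∈ b1 := mem_blockOf_self hM θ
    have h1 : lam hM P (blockCoeff B) (irrPull e.symm θ) = 1 := by
      have hψ1 : lam hM Pb (blockCoeff (quotBlock U B)) ψ = 1 :=
        (forall_memIdeal_iff_lam hM (nice_blockCoeff hM hc'.2.1) hc'.1.2 hψ).1 hc'.2.2
      rw [← hψ1]
      unfold lam
      congr 1
      rw [homega, ← omega_eq_of_constituent (f := fun h : C' => blockCoeff B (h : G)) hθ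
        (fun a x => blockCoeff_isClassFunction B (a : G) (x : G)) hsupp,
        brauerOmega_eq_omega]
      show omega (fun h => (ψ : _ → ℂ) (f h)) _ = _
      rw [omega_comp]
      congr 1
      exact funext hpush
    exact (forall_memIdeal_iff_lam hM hnice hc1B ⟨θ, hθ1, rfl⟩).2 h1
  obtain ⟨n, hn, hnc⟩ := pairs_orbit hM hmax hpair
  refine ⟨n, hn, fun t ht => ?_⟩
  obtain ⟨htN, htst⟩ := (mem_pairStab _).1 ht
  have htP : t ∈ Subgroup.normalizer (P : Set G) := by
    rw [Subgroup.mem_normalizer_iff]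
    intro y
    have h := Subgroup.mem_normalizer_iff.1 htN (π y)
    refine ⟨fun hy => hcomap _ ?_, fun hy => hcomap _ (h.2 ?_)⟩
    · rw [map_mul, map_mul, map_inv]; exact h.1 ⟨y, hy, rfl⟩
    · exact ⟨_, hy, by rw [map_mul, map_mul, map_inv]; rfl⟩
  have htC : ∀ h : C', t⁻¹ * (h : G) * t ∈ C' := fun h => Subgroup.mem_comap.2 <| by
    rw [map_mul, map_mul, map_inv, ← mem_normalizer_conj_iff
      (normalizer_le_normalizer_cent Pb htN)]
    have := Subgroup.mem_comap.1 h.2
    simpa [hπ, mul_assoc] using this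
  have htC' : t ∈ Subgroup.normalizer (C' : Set G) := by
    rw [Subgroup.mem_normalizer_iff]
    intro y
    have h := Subgroup.mem_normalizer_iff.1 (normalizer_le_normalizer_cent Pb htN) (π y)
    rw [hC', Subgroup.mem_comap, Subgroup.mem_comap, map_mul, map_mul, map_inv]
    exact h
  have htNc : ∀ k : N, conjE htC' (k : C') ∈ N := fun k => Subgroup.mem_subgroupOf.2 <| by
    rw [conjE_coe, ← mem_normalizer_conj_iff (normalizer_le_normalizer_cent P htP)]
    simpa [mul_assoc] using Subgroup.mem_subgroupOf.1 k.2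
  have htNc' : ∀ k : N, (conjE htC').symm (k : C') ∈ N := fun k => Subgroup.mem_subgroupOf.2 <|
    (mem_normalizer_conj_iff (normalizer_le_normalizer_cent P htP) _).2
      (Subgroup.mem_subgroupOf.1 k.2)
  let τ : N ≃* N :=
    { toFun := fun k => ⟨conjE htC' (k : C'), htNc k⟩
      invFun := fun k => ⟨(conjE htC').symm (k : C'), htNc' k⟩
      left_inv := fun k => Subtype.ext ((conjE htC').symm_apply_apply _)
      right_inv := fun k => Subtype.ext ((conjE htC').apply_symm_apply _)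
      map_mul' := fun a b => Subtype.ext (map_mul _ _ _) }
  let ψ'' : IrrCharacter C' := irrPull (conjE htC') ψ'
  let θ'' : IrrCharacter N := irrPull τ θ
  have hθ'' : classInner (fun k : N => (ψ'' : C' → ℂ) k) (θ'' : N → ℂ) ≠ 0 := by
    have h : classInner (fun k : N => (ψ'' : C' → ℂ) k) (θ'' : N → ℂ) =
        classInner (fun k : N => (ψ' : C' → ℂ) k) (θ : N → ℂ) := by
      simp only [classInner]
      congr 1
      exact Fintype.sum_equiv τ.toEquiv _ _ fun k => rfl
    rw [h]; exact hθ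
  have hFc := covFn_cls (G := C') b1
  have hFm := covFn_mem (G := C') hM hb1B
  have hF1 : res hM (omega (ψ'' : C' → ℂ) (covFn b1)) = 1 := by
    have h1 : res hM (omega (ψ' : C' → ℂ) (covFn b1)) = 1 :=
      res_covFn_covers hM (blockOf_isPBlock ψ') hb1B
        ⟨ψ', mem_blockOf_self hM ψ', θ, mem_blockOf_self hM θ, hθ⟩ (mem_blockOf_self hM ψ')
    rw [← h1]
    set χ : IrrCharacter (Subgroup.centralizer (Pb : Set (G ⧸ U))) :=
      irrPull (conjE (normalizer_le_normalizer_cent Pb htN)) ψ with hχdef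
    have hχ : χ ∈ c' :=
      (stabilizesBlock_iff (normalizer_le_normalizer_cent Pb htN)).1 htst ▸ ⟨ψ, hψ, rfl⟩
    have e2 : (ψ'' : C' → ℂ) = fun h => (χ : _ → ℂ) (f h) := funext fun h => by
      show (ψ : _ → ℂ) (f (conjE htC' h)) = (ψ : _ → ℂ) (conjE _ (f h))
      congr 1
    rw [e2, show (ψ' : C' → ℂ) = fun h => (ψ : _ → ℂ) (f h) from rfl, omega_comp, omega_comp]
    exact Zloc_res_congr hM (omega_mem_Zloc hM (push_isClassFunction hf hFc)
      fun q => memRing_sum hM fun h _ => hFm h) (sameBlock_of_mem hM hc'.1.2 hχ hψ)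
  obtain ⟨d, hd, hθd⟩ := constituent_mem_orbit hM hF1 hθ''
  obtain ⟨k, rfl⟩ := mem_covOrb.1 hd
  obtain ⟨θ₁, hθ₁, hkθ⟩ := hθd
  have hkP : (k : G) ∈ Subgroup.normalizer (P : Set G) := hC'N k.2
  have hrot : rot htP c1 = rot hkP c1 := by
    have h1 : irrPull e.symm θ'' ∈ rot htP c1 := by
      refine ⟨irrPull e.symm θ, ⟨θ, mem_blockOf_self hM θ, rfl⟩, Subtype.ext (funext fun j => ?_)⟩
      simp only [irrPull_apply, θ'']
      congr 1
    have h2 : irrPull e.symm θ'' ∈ rot hkP c1 := by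
      rw [← hkθ]
      refine ⟨irrPull e.symm θ₁, ⟨θ₁, hθ₁, rfl⟩, Subtype.ext (funext fun j => ?_)⟩
      simp only [irrPull_apply]
      congr 1
    exact (eq_blockOf hM (isPBlock_image _ hc1B : IsPBlock M (rot htP c1)) h1).trans
      (eq_blockOf hM (isPBlock_image _ hc1B : IsPBlock M (rot hkP c1)) h2).symm
  have hs1 : conjIdx ((k : G)⁻¹ * t) (⟨P, c1⟩ : BrauerPairIdx G) = ⟨P, c1⟩ := by
    rw [← conjIdx_mul, conjIdx_normalizer htP, hrot, ← conjIdx_normalizer hkP, conjIdx_mul,
      inv_mul_cancel, conjIdx_one]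
  have hidx : (⟨P, c1⟩ : BrauerPairIdx G) = conjIdx n ⟨P, c⟩ := by
    rw [conjIdx_normalizer hn, hnc]
  refine ⟨n⁻¹ * ((k : G)⁻¹ * t) * n, ?_, fun y hy => ?_⟩
  · show conjIdx _ (⟨P, c⟩ : BrauerPairIdx G) = _
    rw [← conjIdx_mul, ← hidx, ← conjIdx_mul, hs1, hidx, conjIdx_mul, inv_mul_cancel, conjIdx_one]
  · have hy1 : n * y * n⁻¹ ∈ P := (Subgroup.mem_normalizer_iff.1 hn y).1 hy
    have hkt : (k : G)⁻¹ * t ∈ Subgroup.normalizer (P : Set G) :=
      Subgroup.mul_mem _ (Subgroup.inv_mem _ hkP) htP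
    have hy2 : ((k : G)⁻¹ * t) * (n * y * n⁻¹) * ((k : G)⁻¹ * t)⁻¹ ∈ P :=
      (Subgroup.mem_normalizer_iff.1 hkt _).1 hy1
    have h := hC'act k k.2 _ hy2
    rw [show (k : G) * (((k : G)⁻¹ * t) * (n * y * n⁻¹) * ((k : G)⁻¹ * t)⁻¹) * (k : G)⁻¹ =
      t * (n * y * n⁻¹) * t⁻¹ by group] at h
    rw [h]
    congr 1
    group

end CfsgLib.Blocks.OlssonFive
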